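import Groth.Agent.H06EGA11c.StagePoint
import Groth.Agent.H8Props.FunDescent.FlatStage

/-!
Global flatness over a limit descends to a stage (EGA IV 11.2.6).
-/

set_option autoImplicit false
set_option linter.style.haveILetI false
set_option backward.isDefEq.respectTransparency false

universe u

open CategoryTheory Limits AlgebraicGeometry TopologicalSpace Opposite

namespace Groth.Agent.H06EGA11c

variable {I : Type u} [SmallCategory I] {D : I ⥤ Scheme.{u}} {i₀ : I} {X₀ Y₀ : Scheme.{u}}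

/-- Flatness at a stage over a point passes to the later stages. -/
theorem isFlatOverAt_of_stage_hom (f₀ : X₀ ⟶ Y₀) (g₀ : Y₀ ⟶ D.obj i₀) (F₀ : X₀.Modules) (V : Y₀.Opens)
    {j l : Over i₀} (ψ : l ⟶ j)
    (H : ∀ w : ↥(pullback f₀ (pullback.fst g₀ (D.map j.hom))), f₀ (pullback.fst f₀ (pullback.fst g₀ (D.map j.hom)) w) ∈ V →
      FlatMod.IsFlatOverAt (pullback.snd f₀ (pullback.fst g₀ (D.map j.hom)))
        ((Scheme.Modules.pullback (pullback.fst f₀ (pullback.fst g₀ (D.map j.hom)))).obj F₀) w)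
    (w : ↥(pullback f₀ (pullback.fst g₀ (D.map l.hom))))
    (hw : f₀ (pullback.fst f₀ (pullback.fst g₀ (D.map l.hom)) w) ∈ V) :
    FlatMod.IsFlatOverAt (pullback.snd f₀ (pullback.fst g₀ (D.map l.hom)))
      ((Scheme.Modules.pullback (pullback.fst f₀ (pullback.fst g₀ (D.map l.hom)))).obj F₀) w := by
  let t : pullback g₀ (D.map l.hom) ⟶ pullback g₀ (D.map j.hom) :=
    pullback.lift (pullback.fst _ _) (pullback.snd _ _ ≫ D.map ψ.left)
      (by rw [Category.assoc, ← D.map_comp, Over.w ψ, pullback.condition])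
  have ht : t ≫ pullback.fst g₀ (D.map j.hom) = pullback.fst g₀ (D.map l.hom) := pullback.lift_fst _ _ _
  let s : pullback f₀ (pullback.fst g₀ (D.map l.hom)) ⟶ pullback f₀ (pullback.fst g₀ (D.map j.hom)) :=
    pullback.lift (pullback.fst _ _) (pullback.snd _ _ ≫ t) (by rw [Category.assoc, ht, pullback.condition])
  have hs : s ≫ pullback.fst f₀ (pullback.fst g₀ (D.map j.hom)) = pullback.fst f₀ (pullback.fst g₀ (D.map l.hom)) :=
    pullback.lift_fst _ _ _
  have hsq : IsPullback s (pullback.snd f₀ (pullback.fst g₀ (D.map l.hom)))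
      (pullback.snd f₀ (pullback.fst g₀ (D.map j.hom))) t :=
    IsPullback.of_right (by rw [hs, ht]; exact IsPullback.of_hasPullback _ _) (pullback.lift_snd _ _ _)
      (IsPullback.of_hasPullback _ _)
  refine (H06EGA9.isFlatOverAt_congr_iso _ ((Scheme.Modules.pullbackComp s _).app F₀ ≪≫
      (Scheme.Modules.pullbackCongr hs).app F₀) w).1 (H06EGA9.isFlatOverAt_of_isPullback hsq _ w (H _ ?_))
  rw [← Scheme.Hom.comp_apply s, hs]
  exact hw

variable [IsCofiltered I] [∀ (i j : I) (φ : i ⟶ j), IsAffineHom (D.map φ)]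

set_option maxHeartbeats 1000000 in
/-- Flatness over an affine open of `Y₀` descends to a stage. -/
theorem exists_stage_flat_over_affine (c : Limits.Cone D) (hc : Limits.IsLimit c)
    (f₀ : X₀ ⟶ Y₀) (g₀ : Y₀ ⟶ D.obj i₀) [LocallyOfFinitePresentation f₀] [QuasiCompact f₀]
    (F₀ : X₀.Modules) (hFq : Coh.IsQCoh F₀) (hF₀ : CohB1.IsFP F₀)
    {X Y : Scheme.{u}} {f : X ⟶ Y} {g : Y ⟶ c.pt} {qY : Y ⟶ Y₀} {qX : X ⟶ X₀}
    (hY : IsPullback qY g g₀ (c.π.app i₀)) (hX : IsPullback qX f f₀ qY)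
    {V : Y₀.Opens} (hV : IsAffineOpen V)
    (h : FlatMod.IsFlatOver f ((Scheme.Modules.pullback qX).obj F₀)) :
    ∃ j : Over i₀, ∀ w : ↥(pullback f₀ (pullback.fst g₀ (D.map j.hom))),
      f₀ (pullback.fst f₀ (pullback.fst g₀ (D.map j.hom)) w) ∈ V →
      FlatMod.IsFlatOverAt (pullback.snd f₀ (pullback.fst g₀ (D.map j.hom)))
        ((Scheme.Modules.pullback (pullback.fst f₀ (pullback.fst g₀ (D.map j.hom)))).obj F₀) w := by
  haveI : IsAffine V.toScheme := hV
  let U : X₀.Opens := f₀ ⁻¹ᵁ V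
  have e : U ≤ f₀ ⁻¹ᵁ V := le_rfl
  let f' : U.toScheme ⟶ V.toScheme := f₀.resLE V U e
  haveI : LocallyOfFinitePresentation f' := inferInstanceAs (LocallyOfFinitePresentation (f₀.resLE V U e))
  haveI : QuasiCompact f' := by
    show QuasiCompact (f₀.resLE V (f₀ ⁻¹ᵁ V) le_rfl)
    rw [Scheme.Hom.resLE_eq_morphismRestrict]
    exact MorphismProperty.of_isPullback (isPullback_morphismRestrict f₀ V).flip inferInstance
  let F' := (Scheme.Modules.pullback U.ι).obj F₀
  let a : V.toScheme ⟶ D.obj i₀ := V.ι ≫ g₀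
  let D' : Over i₀ ⥤ Over V.toScheme :=
    { obj := fun j => Over.mk ((H7Lim.pbFst D i₀ a).app j)
      map := fun {j k} φ => Over.homMk ((H7Lim.pbDiagram D i₀ a).map φ) (by simp)
      map_id := fun j => Over.OverMorphism.ext ((H7Lim.pbDiagram D i₀ a).map_id j)
      map_comp := fun φ ψ => Over.OverMorphism.ext ((H7Lim.pbDiagram D i₀ a).map_comp φ ψ) }
  let c' : Cone D' :=
    { pt := Over.mk (pullback.fst a (c.π.app i₀))
      π :=
        { app := fun j => Over.homMk ((H7Lim.pbCone D c i₀ a).π.app j) (by simp [D'])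
          naturality := fun j k φ => Over.OverMorphism.ext ((H7Lim.pbCone D c i₀ a).π.naturality φ) } }
  have hD' : ∀ j, IsAffine (D'.obj j).left := fun j => by
    haveI : IsAffineHom (pullback.fst a (D.map j.hom)) :=
      MorphismProperty.pullback_fst _ _ inferInstance
    exact isAffine_of_isAffineHom (pullback.fst a (D.map j.hom))
  have hc' : IsLimit ((Over.forget V.toScheme).mapCone c') := H7Lim.isLimitPbCone D i₀ a hc
  let jY : pullback a (c.π.app i₀) ⟶ Y :=
    hY.lift (pullback.fst _ _ ≫ V.ι) (pullback.snd _ _) (by rw [Category.assoc]; exact pullback.condition)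
  have hjY : IsPullback jY (pullback.fst a (c.π.app i₀)) qY V.ι := by
    have h1 : IsPullback (pullback.fst a (c.π.app i₀)) (jY ≫ g) (V.ι ≫ g₀) (c.π.app i₀) := by
      rw [hY.lift_snd]
      exact IsPullback.of_hasPullback _ _
    exact (IsPullback.of_bot h1 (hY.lift_fst _ _ _).symm hY).flip
  have h' : FlatMod.IsFlatOver (PicF.XTproj f' c'.pt) (FGA.ET f' F' c'.pt) := fun z =>
    (isFlatOverAt_restrict_iff e hX hjY F₀ z).2 (h _)
  obtain ⟨j, hj⟩ := H8Props.FunDescent.exists_flat_stage f' F' (H29Fitt.isQCoh_pullback _ F₀ hFq)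
    (H06EGA9.isFP_pullback _ hF₀) D' c' hc' hD' h'
  refine ⟨j, fun w hw => ?_⟩
  let pY := pullback.fst g₀ (D.map j.hom)
  let jj : pullback a (D.map j.hom) ⟶ pullback g₀ (D.map j.hom) :=
    pullback.lift (pullback.fst _ _ ≫ V.ι) (pullback.snd _ _) (by rw [Category.assoc]; exact pullback.condition)
  have hjj : IsPullback jj (pullback.fst a (D.map j.hom)) pY V.ι := by
    have h1 : IsPullback (pullback.fst a (D.map j.hom)) (jj ≫ pullback.snd g₀ (D.map j.hom)) (V.ι ≫ g₀)
        (D.map j.hom) := by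
      rw [pullback.lift_snd]
      exact IsPullback.of_hasPullback _ _
    exact (IsPullback.of_bot h1 (pullback.lift_fst _ _ _).symm (IsPullback.of_hasPullback _ _)).flip
  have hb := isPullback_restrictMap e (IsPullback.of_hasPullback f₀ pY) hjj
  obtain ⟨z, hz⟩ : w ∈ Set.range (restrictMap e (IsPullback.of_hasPullback f₀ pY) hjj) := by
    obtain ⟨v, hv⟩ : w ∈ Set.range (pullback.fst (pullback.fst f₀ pY) U.ι) := by
      rw [Scheme.Pullback.range_fst]
      show (pullback.fst f₀ pY) w ∈ Set.range U.ι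
      rw [Scheme.Opens.range_ι]
      exact hw
    refine ⟨hb.isoPullback.inv v, ?_⟩
    rw [← Scheme.Hom.comp_apply, hb.isoPullback_inv_fst]
    exact hv
  rw [← hz]
  exact (isFlatOverAt_restrict_iff e (IsPullback.of_hasPullback f₀ pY) hjj F₀ z).1 (hj z)

/-- Flatness over the limit descends to a stage. -/
theorem exists_stage_isFlatOver (c : Limits.Cone D) (hc : Limits.IsLimit c)
    (f₀ : X₀ ⟶ Y₀) (g₀ : Y₀ ⟶ D.obj i₀) [CompactSpace Y₀] [LocallyOfFinitePresentation f₀] [QuasiCompact f₀]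
    (F₀ : X₀.Modules) (hFq : Coh.IsQCoh F₀) (hF₀ : CohB1.IsFP F₀)
    {X Y : Scheme.{u}} {f : X ⟶ Y} {g : Y ⟶ c.pt} {qY : Y ⟶ Y₀} {qX : X ⟶ X₀}
    (hY : IsPullback qY g g₀ (c.π.app i₀)) (hX : IsPullback qX f f₀ qY)
    (h : FlatMod.IsFlatOver f ((Scheme.Modules.pullback qX).obj F₀)) :
    ∃ j : Over i₀, FlatMod.IsFlatOver (pullback.snd f₀ (pullback.fst g₀ (D.map j.hom)))
      ((Scheme.Modules.pullback (pullback.fst f₀ (pullback.fst g₀ (D.map j.hom)))).obj F₀) := by
  classical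
  choose jV hjV using fun V : Y₀.affineOpens => exists_stage_flat_over_affine c hc f₀ g₀ F₀ hFq hF₀ hY hX V.2 h
  obtain ⟨T, hT⟩ := isCompact_univ.elim_finite_subcover (fun V : Y₀.affineOpens => (V.1 : Set Y₀))
    (fun V => V.1.isOpen) fun y _ => by
      obtain ⟨V, hV, hy, -⟩ := exists_isAffineOpen_mem_and_subset (U := (⊤ : Y₀.Opens)) (x := y) trivial
      exact Set.mem_iUnion.2 ⟨⟨V, hV⟩, hy⟩
  obtain ⟨l, hl⟩ := IsCofiltered.inf_objs_exists (T.image jV)
  refine ⟨l, fun w => ?_⟩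
  obtain ⟨V, hVT, hw⟩ := Set.mem_iUnion₂.1
    (hT (Set.mem_univ (f₀ (pullback.fst f₀ (pullback.fst g₀ (D.map l.hom)) w))))
  obtain ⟨ψ⟩ := hl (Finset.mem_image_of_mem jV hVT)
  exact isFlatOverAt_of_stage_hom f₀ g₀ F₀ V.1 ψ (hjV V) w hw

end Groth.Agent.H06EGA11c
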