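import Groth.Agent.H06EGA11c.Detect

/-!
Flatness at a prime from flatness over Artinian quotients of the local ring below (EGA IV 11.5.5).
-/

set_option autoImplicit false
set_option linter.style.haveILetI false
set_option backward.isDefEq.respectTransparency false

universe u

open TensorProduct

namespace Groth.Agent.H06EGA11c

open H06EGA11

attribute [local instance] Algebra.TensorProduct.rightAlgebra

variable {R₀ R M : Type u} [CommRing R₀] [CommRing R] [Algebra R₀ R] [AddCommGroup M] [Module R₀ M]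
  [Module R M] [IsScalarTower R₀ R M]

/-- Flatness at `q` from kernels over modules killed by a power of the prime below. -/
theorem flat_localizedModule_of_killed [IsNoetherianRing R₀] [IsNoetherianRing R] [Module.Finite R M]
    (q : Ideal R) [q.IsPrime]
    (h : ∀ (n : ℕ) (Q : Type u) [AddCommGroup Q] [Module R₀ Q],
      (∀ a ∈ (q.comap (algebraMap R₀ R)) ^ n, ∀ x : Q, a • x = 0) →
      ∀ (P : Submodule R₀ Q) (x : M ⊗[R₀] P), P.subtype.lTensor M x = 0 →
        ∃ t ∈ q.primeCompl, t • x = 0) :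
    Module.Flat R₀ (LocalizedModule q.primeCompl M) := by
  let I := q.comap (algebraMap R₀ R)
  rw [Module.Flat.iff_lTensor_injective']
  intro J
  haveI : IsNoetherianRing (Localization q.primeCompl) :=
    IsLocalization.isNoetherianRing q.primeCompl _ inferInstance
  refine (injective_iff_map_eq_zero _).2 fun x hx => ?_
  obtain ⟨a, ha, hax⟩ := H7Flat.exists_one_add_smul_eq_zero_of_ker
    (S := Localization q.primeCompl) (M := LocalizedModule q.primeCompl M) I J
    (fun n P => injective_lTensor_localizedModule _ _ (h n _ (fun a ha y => by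
      obtain ⟨y, rfl⟩ := Ideal.Quotient.mk_surjective y
      rw [Algebra.smul_def, Ideal.Quotient.algebraMap_eq, ← map_mul]
      exact Ideal.Quotient.eq_zero_iff_mem.2 (Ideal.mul_mem_right _ _ ha)) P)) hx
  refine (IsUnit.smul_eq_zero ?_).1 hax
  have ha' : a ∈ IsLocalRing.maximalIdeal (Localization q.primeCompl) := by
    rw [IsScalarTower.algebraMap_eq R₀ R (Localization q.primeCompl), ← Ideal.map_map] at ha
    have := Ideal.map_mono (f := algebraMap R (Localization q.primeCompl)) Ideal.map_comap_le ha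
    rwa [Localization.AtPrime.map_eq_maximalIdeal] at this
  rcases IsLocalRing.isUnit_or_isUnit_of_add_one (a := 1 + a) (b := -a) (by ring) with h | h
  · exact h
  · exact absurd h ((IsLocalRing.mem_maximalIdeal _).1 (neg_mem ha'))

variable (R) in
/-- Fractions in `R ⊗ O/J`. -/
theorem exists_smul_eq_tmul_one (p : Ideal R₀) [p.IsPrime] {A : Type u} [CommRing A] [Algebra R₀ A]
    (π : Localization.AtPrime p →ₐ[R₀] A) (hπ : Function.Surjective π) (t : R ⊗[R₀] A) :
    ∃ s ∉ p, ∃ r : R, s • t = r ⊗ₜ 1 := by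
  induction t with
  | zero => exact ⟨1, (Ideal.ne_top_iff_one p).1 (Ideal.IsPrime.ne_top inferInstance), 0, by simp⟩
  | tmul r a =>
    obtain ⟨a, rfl⟩ := hπ a
    obtain ⟨a, ⟨s, hs⟩, rfl⟩ := IsLocalization.exists_mk'_eq p.primeCompl a
    refine ⟨s, hs, a • r, ?_⟩
    rw [← tmul_smul, smul_tmul]
    congr 1
    rw [← map_smul, Algebra.smul_def a, mul_one, ← π.commutes, Algebra.smul_def,
      IsLocalization.mk'_spec'_mk]
  | add x y hx hy =>
    obtain ⟨s, hs, r, hr⟩ := hx
    obtain ⟨s', hs', r', hr'⟩ := hy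
    refine ⟨s * s', fun h => ((inferInstance : p.IsPrime).mem_or_mem h).elim hs hs', s' • r + s • r', ?_⟩
    rw [smul_add, mul_comm, mul_smul, hr, mul_comm, mul_smul, hr', add_tmul, smul_tmul', smul_tmul']

/-- The ring `R ⊗ A` is Noetherian. -/
theorem isNoetherianRing_tensor_quotient [IsNoetherianRing R] (p : Ideal R₀) [p.IsPrime] {A : Type u}
    [CommRing A] [Algebra R₀ A] (π : Localization.AtPrime p →ₐ[R₀] A) (hπ : Function.Surjective π) :
    IsNoetherianRing (R ⊗[R₀] A) := by
  let S := p.primeCompl.map (algebraMap R₀ R)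
  haveI : IsNoetherianRing (Localization S) := IsLocalization.isNoetherianRing S _ inferInstance
  have hu : ∀ y : S, IsUnit (algebraMap R (R ⊗[R₀] A) y) := by
    rintro ⟨_, s, hs, rfl⟩
    rw [← IsScalarTower.algebraMap_apply R₀ R, IsScalarTower.algebraMap_apply R₀ A (R ⊗[R₀] A), ← π.commutes]
    exact ((IsLocalization.map_units (Localization.AtPrime p) (⟨s, hs⟩ : p.primeCompl)).map π).map _
  refine isNoetherianRing_of_surjective _ _ (IsLocalization.lift (S := Localization S) hu) fun t => ?_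
  obtain ⟨s, hs, r, hr⟩ := exists_smul_eq_tmul_one R p π hπ t
  refine ⟨IsLocalization.mk' _ r (⟨algebraMap R₀ R s, s, hs, rfl⟩ : S), ?_⟩
  rw [IsLocalization.lift_mk'_spec]
  show (r ⊗ₜ 1 : R ⊗[R₀] A) = algebraMap R _ (algebraMap R₀ R s) * t
  rw [← IsScalarTower.algebraMap_apply, ← Algebra.smul_def, hr]

set_option maxHeartbeats 1000000 in
/-- Kernels at `q` from flatness over one Artinian quotient of `O`. -/
theorem exists_smul_eq_zero_of_flat_quotient (q : Ideal R) [q.IsPrime] (p : Ideal R₀) [p.IsPrime]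
    (hp : q.comap (algebraMap R₀ R) = p) (n : ℕ) {A : Type u} [CommRing A] [Algebra R₀ A]
    (π : Localization.AtPrime p →ₐ[R₀] A) (hπ : Function.Surjective π)
    (hJ : RingHom.ker π.toRingHom ≤ IsLocalRing.maximalIdeal (Localization.AtPrime p) ^ (n + 1))
    (hflat : ∀ (q' : Ideal (R ⊗[R₀] A)) [q'.IsPrime],
      q'.comap (algebraMap R (R ⊗[R₀] A)) = q →
      Module.Flat A (LocalizedModule q'.primeCompl (BC R₀ R M A)))
    {Q : Type u} [AddCommGroup Q] [Module R₀ Q] (hQ : ∀ a ∈ p ^ n, ∀ x : Q, a • x = 0)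
    (P : Submodule R₀ Q) (x : M ⊗[R₀] P) (hx : P.subtype.lTensor M x = 0) :
    ∃ t ∈ q.primeCompl, t • x = 0 := by
  classical
  let O := Localization.AtPrime p
  letI : Algebra O A := π.toRingHom.toAlgebra
  haveI : IsScalarTower R₀ O A := IsScalarTower.of_algebraMap_eq fun a => (π.commutes a).symm
  let J : Ideal O := RingHom.ker π.toRingHom
  let K := FractionRing (R ⧸ q)
  let φK : R →ₐ[R₀] K := (Algebra.ofId (R ⧸ q) K |>.restrictScalars R₀).comp (Ideal.Quotient.mkₐ R₀ q)
  have hφ : ∀ r : R, φK r = 0 ↔ r ∈ q := fun r => by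
    show algebraMap (R ⧸ q) K (Ideal.Quotient.mk q r) = 0 ↔ _
    rw [IsFractionRing.to_map_eq_zero_iff, Ideal.Quotient.eq_zero_iff_mem]
  have hunit : ∀ y : p.primeCompl, IsUnit (Algebra.ofId R₀ K y) := fun y => by
    refine isUnit_iff_ne_zero.2 fun h => y.2 (hp.le ?_)
    rw [Ideal.mem_comap, ← hφ, AlgHom.commutes]
    exact h
  let φO : O →ₐ[R₀] K := IsLocalization.liftAlgHom hunit
  have hker : ∀ a ∈ J, φO a = 0 := fun a ha => by
    have h1 : a ∈ IsLocalRing.maximalIdeal O := Ideal.pow_le_self (Nat.succ_ne_zero n) (hJ ha)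
    rw [← Localization.AtPrime.map_eq_maximalIdeal] at h1
    refine (show p.map (algebraMap R₀ O) ≤ RingHom.ker φO.toRingHom from
      Ideal.map_le_iff_le_comap.2 fun b hb => ?_) h1
    show φO (algebraMap R₀ O b) = 0
    rw [AlgHom.commutes, ← AlgHom.commutes φK, hφ]
    exact (hp ▸ hb : b ∈ q.comap (algebraMap R₀ R))
  let φA : A →ₐ[R₀] K :=
    (Ideal.Quotient.liftₐ J φO hker).comp (Ideal.quotientKerAlgEquivOfSurjective hπ).symm.toAlgHom
  let θ : R ⊗[R₀] A →ₐ[R₀] K := Algebra.TensorProduct.lift φK φA fun _ _ => Commute.all _ _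
  let q' : Ideal (R ⊗[R₀] A) := RingHom.ker θ.toRingHom
  haveI : q'.IsPrime := RingHom.ker_isPrime _
  have hcomap : q'.comap (algebraMap R (R ⊗[R₀] A)) = q := by
    ext r
    show θ (r ⊗ₜ 1) = 0 ↔ _
    rw [Algebra.TensorProduct.lift_tmul, map_one, mul_one, hφ]
  haveI := hflat q' hcomap
  let Pp := LocalizedModule p.primeCompl P
  let Qp := LocalizedModule p.primeCompl Q
  have tors : ∀ (N : Type u) [AddCommGroup N] [Module R₀ N], (∀ a ∈ p ^ n, ∀ x : N, a • x = 0) →
      Module.IsTorsionBySet O (LocalizedModule p.primeCompl N) (J : Set O) := by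
    intro N _ _ hN y ⟨a, ha⟩
    have h1 : a ∈ (p ^ n).map (algebraMap R₀ O) := by
      rw [Ideal.map_pow, Localization.AtPrime.map_eq_maximalIdeal]
      exact Ideal.pow_le_pow_right (Nat.le_succ n) (hJ ha)
    show a • y = 0
    refine (show (p ^ n).map (algebraMap R₀ O) ≤ (LinearMap.toSpanSingleton O _ y).ker from
      Ideal.map_le_iff_le_comap.2 fun b hb => ?_) h1
    show algebraMap R₀ O b • y = 0
    rw [algebraMap_smul]
    induction y using LocalizedModule.induction_on with
    | h m s => rw [LocalizedModule.smul'_mk, hN b hb, LocalizedModule.zero_mk]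
  have hPt := tors P fun a ha x => Subtype.ext (hQ a ha x)
  have hQt := tors Q hQ
  let ρ : A →+* O ⧸ J := (Ideal.quotientKerAlgEquivOfSurjective hπ).symm.toRingHom
  have hρ : ∀ o : O, ρ (π o) = Ideal.Quotient.mk J o := fun o => by
    apply (Ideal.quotientKerAlgEquivOfSurjective hπ).injective
    exact AlgEquiv.apply_symm_apply _ _
  letI : Module (O ⧸ J) Pp := hPt.module
  letI : Module (O ⧸ J) Qp := hQt.module
  letI : Module A Pp := Module.compHom Pp ρ
  letI : Module A Qp := Module.compHom Qp ρ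
  haveI : IsScalarTower O A Pp := .of_algebraMap_smul fun o z => by
    show ρ (π o) • z = o • z
    rw [hρ]; rfl
  haveI : IsScalarTower O A Qp := .of_algebraMap_smul fun o z => by
    show ρ (π o) • z = o • z
    rw [hρ]; rfl
  haveI : IsScalarTower R₀ A Pp := .of_algebraMap_smul fun a z => by
    rw [IsScalarTower.algebraMap_apply R₀ O A, algebraMap_smul, algebraMap_smul]
  haveI : IsScalarTower R₀ A Qp := .of_algebraMap_smul fun a z => by
    rw [IsScalarTower.algebraMap_apply R₀ O A, algebraMap_smul, algebraMap_smul]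
  let f : Pp →ₗ[O] Qp := LocalizedModule.map p.primeCompl P.subtype
  let fA : Pp →ₗ[A] Qp := LinearMap.extendScalarsOfSurjective (R := O) (S := A) hπ f
  have hf : Function.Injective fA := LocalizedModule.map_injective p.primeCompl _ P.injective_subtype
  let jP : P →ₗ[R₀] Pp := LocalizedModule.mkLinearMap p.primeCompl P
  let y : M ⊗[R₀] Pp := jP.lTensor M x
  have hy : (fA.restrictScalars R₀).lTensor M y = 0 := by
    have h1 : (fA.restrictScalars R₀) ∘ₗ jP = (LocalizedModule.mkLinearMap p.primeCompl Q) ∘ₗ P.subtype := by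
      ext z
      show LocalizedModule.map p.primeCompl P.subtype (LocalizedModule.mk z 1) = _
      rw [LocalizedModule.map_mk]
      rfl
    rw [← LinearMap.lTensor_comp_apply, h1, LinearMap.lTensor_comp_apply, hx, map_zero]
  have hψ : fA.lTensor (BC R₀ R M A) (psi (B₀ := R) (M₀ := M) A Pp y) = 0 := by
    rw [← psi_lTensor, hy, map_zero]
  obtain ⟨t, ht, htψ⟩ := exists_smul_eq_zero_of_flat q'.primeCompl fA hf _ hψ
  obtain ⟨s, hs, r, hr⟩ := exists_smul_eq_tmul_one R p π hπ t
  have hrq : r ∉ q := by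
    intro hmem
    apply ht
    show θ t = 0
    have h2 : θ (s • t) = 0 := by rw [hr, Algebra.TensorProduct.lift_tmul, (hφ r).2 hmem, zero_mul]
    rw [map_smul, Algebra.smul_def] at h2
    refine (mul_eq_zero.1 h2).resolve_left fun h => hs ?_
    rw [← hp, Ideal.mem_comap, ← hφ, AlgHom.commutes]
    exact h
  have hry : r • y = 0 := by
    apply (psi (B₀ := R) (M₀ := M) A Pp).injective
    rw [psi_smul, map_zero, ← hr, smul_assoc, htψ, smul_zero]
  have hloc : locT p.primeCompl P M (TensorProduct.comm R₀ M P (r • x)) = 0 := by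
    have h1 : ∀ z : M ⊗[R₀] P, locT p.primeCompl P M (TensorProduct.comm R₀ M P z) =
        TensorProduct.comm R₀ M Pp (jP.lTensor M z) := fun z => by
      induction z with
      | zero => simp
      | tmul m z => rfl
      | add a b ha hb => simp only [map_add, ha, hb]
    rw [h1, show jP.lTensor M (r • x) = r • y from lTensor_smul' (S := R) jP r x, hry, map_zero]
  obtain ⟨s', hs'⟩ := (IsLocalizedModule.eq_zero_iff p.primeCompl _).1 hloc
  refine ⟨algebraMap R₀ R s'.1 * r, fun hmem => (Ideal.IsPrime.mem_or_mem inferInstance hmem).elim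
    (fun h => s'.2 (hp.le h)) hrq, ?_⟩
  rw [mul_smul, algebraMap_smul]
  apply (TensorProduct.comm R₀ M P).injective
  rw [map_smul, map_zero]
  exact hs'

section trans

variable (R₀ R) (A D : Type u) [CommRing A] [Algebra R₀ A] [CommRing D] [Algebra R₀ D] [Algebra A D]
  [IsScalarTower R₀ A D]

theorem isScalarTower_trans : IsScalarTower R₀ D ((R ⊗[R₀] A) ⊗[A] D) :=
  IsScalarTower.of_algebraMap_eq (R := R₀) (S := D) (A := (R ⊗[R₀] A) ⊗[A] D) fun a => by
    rw [IsScalarTower.algebraMap_apply R₀ A D, ← IsScalarTower.algebraMap_apply A D ((R ⊗[R₀] A) ⊗[A] D),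
      ← IsScalarTower.algebraMap_apply R₀ A ((R ⊗[R₀] A) ⊗[A] D)]

/-- `R ⊗ D → (R ⊗ A) ⊗[A] D`. -/
noncomputable def transHom : R ⊗[R₀] D →ₐ[R₀] (R ⊗[R₀] A) ⊗[A] D :=
  haveI := isScalarTower_trans R₀ R A D
  Algebra.TensorProduct.lift ((IsScalarTower.toAlgHom R₀ (R ⊗[R₀] A) _).comp (IsScalarTower.toAlgHom R₀ R _))
    (IsScalarTower.toAlgHom R₀ D _) fun _ _ => Commute.all _ _

theorem transHom_tmul (r : R) (c : D) :
    transHom R₀ R A D (r ⊗ₜ c) = ((r ⊗ₜ (1 : A) : R ⊗[R₀] A) ⊗ₜ[A] c) := by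
  show ((r ⊗ₜ (1 : A) : R ⊗[R₀] A) ⊗ₜ[A] (1 : D)) * ((1 : R ⊗[R₀] A) ⊗ₜ[A] c) = _
  rw [Algebra.TensorProduct.tmul_mul_tmul, mul_one, one_mul]

variable {R₀ R A D}

/-- Flatness at a prime after base change in two steps. -/
theorem flat_localizedModule_trans (Q : Ideal ((R ⊗[R₀] A) ⊗[A] D)) [Q.IsPrime]
    [Module.Flat D (LocalizedModule (Q.comap (transHom R₀ R A D).toRingHom).primeCompl (BC R₀ R M D))] :
    Module.Flat D (LocalizedModule Q.primeCompl (BC A (R ⊗[R₀] A) (BC R₀ R M A) D)) := by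
  let σ := transHom R₀ R A D
  haveI := isScalarTower_trans R₀ R A D
  haveI : IsScalarTower R₀ D (BC A (R ⊗[R₀] A) (BC R₀ R M A) D) := .of_algebraMap_smul fun r z => by
    rw [← algebraMap_smul ((R ⊗[R₀] A) ⊗[A] D) (algebraMap R₀ D r), ← IsScalarTower.algebraMap_apply,
      algebraMap_smul]
  have hb := (isBaseChange_toBC (R₀ := R₀) (B₀ := R) (M₀ := M) A).comp
    (isBaseChange_toBC (R₀ := A) (B₀ := R ⊗[R₀] A) (M₀ := BC R₀ R M A) D)
  let e := (isBaseChange_toBC (R₀ := R₀) (B₀ := R) (M₀ := M) D).equiv.symm.trans hb.equiv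
  have hgen : ∀ (c : D) (m : M), e (c • toBC R₀ R M D m) =
      c • ((1 : (R ⊗[R₀] A) ⊗[A] D) ⊗ₜ[R ⊗[R₀] A] ((1 : R ⊗[R₀] A) ⊗ₜ[R] m)) := fun c m => by
    rw [map_smul, LinearEquiv.trans_apply, IsBaseChange.equiv_symm_apply, IsBaseChange.equiv_tmul, one_smul]
    rfl
  have hrc : ∀ (r : R) (c : D) (m : M), e ((r ⊗ₜ c : R ⊗[R₀] D) ⊗ₜ[R] m) =
      σ (r ⊗ₜ c) ⊗ₜ[R ⊗[R₀] A] ((1 : R ⊗[R₀] A) ⊗ₜ[R] m) := by
    intro r c m
    have h1 : ((r ⊗ₜ c : R ⊗[R₀] D) ⊗ₜ[R] m) = c • toBC R₀ R M D (r • m) := by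
      rw [toBC_apply, TensorProduct.tmul_smul, TensorProduct.smul_tmul', TensorProduct.smul_tmul']
      congr 1
      rw [Algebra.smul_def r, Algebra.smul_def, mul_one, Algebra.TensorProduct.algebraMap_apply]
      rw [Algebra.algebraMap_self, RingHom.id_apply]
      show (r ⊗ₜ c : R ⊗[R₀] D) = ((1 : R) ⊗ₜ c) * (r ⊗ₜ 1)
      rw [Algebra.TensorProduct.tmul_mul_tmul, one_mul, mul_one]
    rw [h1, hgen, transHom_tmul,
      show (1 : R ⊗[R₀] A) ⊗ₜ[R] (r • m) = algebraMap R (R ⊗[R₀] A) r • ((1 : R ⊗[R₀] A) ⊗ₜ[R] m) by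
        rw [algebraMap_smul, tmul_smul],
      tmul_smul, smul_tmul', smul_tmul']
    congr 1
    rw [Algebra.smul_def]
    show ((1 : R ⊗[R₀] A) ⊗ₜ[A] c) * (algebraMap R (R ⊗[R₀] A) r • ((1 : R ⊗[R₀] A) ⊗ₜ[A] (1 : D))) = _
    rw [TensorProduct.smul_tmul', smul_eq_mul, mul_one, Algebra.TensorProduct.tmul_mul_tmul, one_mul, mul_one]
    rfl
  have he : ∀ (a : R ⊗[R₀] D) (z : BC R₀ R M D), e (a • z) = σ a • e z := by
    intro a z
    induction z using TensorProduct.induction_on with
    | zero => simp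
    | add z w hz hw => simp only [smul_add, map_add, hz, hw]
    | tmul b m =>
      induction b using TensorProduct.induction_on with
      | zero => simp
      | add b b' hb hb' => simp only [add_tmul, smul_add, map_add, hb, hb']
      | tmul r c =>
        induction a using TensorProduct.induction_on with
        | zero =>
          rw [hrc, TensorProduct.smul_tmul', TensorProduct.smul_tmul', smul_eq_mul, smul_eq_mul, zero_mul,
            zero_tmul, map_zero, map_zero, zero_mul, zero_tmul]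
        | add a a' ha ha' =>
          rw [hrc] at ha ha' ⊢
          rw [TensorProduct.smul_tmul', smul_eq_mul] at ha ha'
          rw [TensorProduct.smul_tmul', TensorProduct.smul_tmul', smul_eq_mul, smul_eq_mul, add_mul, add_tmul,
            map_add, ha, ha', TensorProduct.smul_tmul', TensorProduct.smul_tmul', smul_eq_mul, smul_eq_mul,
            map_add, add_mul, add_tmul]
        | tmul r' c' =>
          rw [TensorProduct.smul_tmul', smul_eq_mul, hrc, Algebra.TensorProduct.tmul_mul_tmul, hrc,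
            ← Algebra.TensorProduct.tmul_mul_tmul, map_mul, TensorProduct.smul_tmul', smul_eq_mul]
  exact flat_localizedModule_of_equiv (R := D) σ.toRingHom e he Q.primeCompl
    (Q.comap σ.toRingHom).primeCompl fun a ha => ha

end trans

set_option maxHeartbeats 1000000 in
/-- Flatness at a prime from a family of local algebras defining the topology below. -/
theorem flat_localizedModule_of_adic_family [IsNoetherianRing R₀] [IsNoetherianRing R] [Module.Finite R M]
    (q : Ideal R) [q.IsPrime] (p : Ideal R₀) [p.IsPrime] (hp : q.comap (algebraMap R₀ R) = p)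
    {ι : Type u} (C : ι → Type u) [∀ i, CommRing (C i)] [∀ i, IsLocalRing (C i)] [∀ i, Algebra R₀ (C i)]
    (hmax : ∀ i, (IsLocalRing.maximalIdeal (C i)).comap (algebraMap R₀ (C i)) = p)
    (htop : ∀ N : ℕ, ∃ s : Finset (ι × ℕ), ∀ a : R₀,
      (∀ pr ∈ s, algebraMap R₀ (C pr.1) a ∈ IsLocalRing.maximalIdeal (C pr.1) ^ pr.2) →
      algebraMap R₀ (Localization.AtPrime p) a ∈ IsLocalRing.maximalIdeal (Localization.AtPrime p) ^ N)
    (h : ∀ (i : ι) (Q : Ideal (R ⊗[R₀] C i)) [Q.IsPrime],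
      Q.comap (algebraMap R (R ⊗[R₀] C i)) = q →
      Q.comap (algebraMap (C i) (R ⊗[R₀] C i)) = IsLocalRing.maximalIdeal (C i) →
      Module.Flat (C i) (LocalizedModule Q.primeCompl (BC R₀ R M (C i)))) :
    Module.Flat R₀ (LocalizedModule q.primeCompl M) := by
  classical
  refine flat_localizedModule_of_killed q fun n Q _ _ hQ P x hx => ?_
  obtain ⟨s, hs⟩ := htop (n + 1)
  let O := Localization.AtPrime p
  let σt := {pr : ι × ℕ // pr ∈ s ∧ pr.2 ≠ 0}
  let D : σt → Type u := fun j => C j.1.1 ⧸ IsLocalRing.maximalIdeal (C j.1.1) ^ j.1.2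
  haveI : ∀ j : σt, IsLocalRing (D j) := fun j => by
    haveI : Nontrivial (D j) := Ideal.Quotient.nontrivial_iff.2 fun h =>
      (IsLocalRing.maximalIdeal.isMaximal (C j.1.1)).ne_top (top_le_iff.1 (h ▸ Ideal.pow_le_self j.2.2))
    exact IsLocalRing.of_surjective' (Ideal.Quotient.mk _) Ideal.Quotient.mk_surjective
  have hu : ∀ (j : σt) (y : p.primeCompl), IsUnit (Algebra.ofId R₀ (D j) y) := fun j y => by
    have h1 : IsUnit (algebraMap R₀ (C j.1.1) y) := by
      by_contra hc
      exact y.2 ((hmax j.1.1).le hc)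
    exact h1.map (Ideal.Quotient.mk _)
  let φ : ∀ j, O →ₐ[R₀] D j := fun j => IsLocalization.liftAlgHom (hu j)
  let J : Ideal O := ⨅ j, RingHom.ker (φ j).toRingHom
  have hJ : J ≤ IsLocalRing.maximalIdeal O ^ (n + 1) := by
    intro a ha
    obtain ⟨r, t, rfl⟩ := IsLocalization.exists_mk'_eq p.primeCompl a
    have h1 : algebraMap R₀ O r ∈ J := by
      rw [← IsLocalization.mk'_spec O r t]
      exact J.mul_mem_right _ ha
    have h2 : algebraMap R₀ O r ∈ IsLocalRing.maximalIdeal O ^ (n + 1) := by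
      refine hs r fun pr hpr => ?_
      by_cases h0 : pr.2 = 0
      · simp [h0]
      · have := (Submodule.mem_iInf _).1 h1 ⟨pr, hpr, h0⟩
        rw [RingHom.mem_ker, AlgHom.toRingHom_eq_coe, RingHom.coe_coe, AlgHom.commutes] at this
        exact Ideal.Quotient.eq_zero_iff_mem.1 this
    rw [IsLocalization.mk'_eq_mul_mk'_one]
    exact Ideal.mul_mem_right _ _ h2
  have hJ' : ∃ k, IsLocalRing.maximalIdeal O ^ k ≤ J := by
    refine ⟨s.sup Prod.snd, le_iInf fun j => ?_⟩
    rw [← Localization.AtPrime.map_eq_maximalIdeal, ← Ideal.map_pow, Ideal.map_le_iff_le_comap]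
    intro b hb
    show φ j (algebraMap R₀ O b) = 0
    rw [AlgHom.commutes]
    refine Ideal.Quotient.eq_zero_iff_mem.2 ?_
    have h1 := Ideal.mem_map_of_mem (algebraMap R₀ (C j.1.1)) hb
    rw [Ideal.map_pow] at h1
    exact Ideal.pow_le_pow_right (Finset.le_sup (f := Prod.snd) j.2.1)
      (Ideal.pow_right_mono (Ideal.map_le_iff_le_comap.2 (hmax j.1.1).ge) _ h1)
  let A := O ⧸ J
  have hπ : Function.Surjective (Ideal.Quotient.mkₐ R₀ J) := Ideal.Quotient.mk_surjective
  refine exists_smul_eq_zero_of_flat_quotient (A := A) q p hp n (Ideal.Quotient.mkₐ R₀ J) hπ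
    (fun a ha => hJ (Ideal.Quotient.eq_zero_iff_mem.1 ha)) (fun q' _ hq' => ?_) (fun a ha => hQ a (by rw [hp]; exact ha)) P x hx
  haveI : Nontrivial A := Ideal.Quotient.nontrivial_iff.2 fun h =>
    (IsLocalRing.maximalIdeal.isMaximal O).ne_top (top_le_iff.1 (h ▸ hJ.trans (Ideal.pow_le_self (Nat.succ_ne_zero n))))
  haveI : IsLocalRing A := IsLocalRing.of_surjective' (Ideal.Quotient.mk J) Ideal.Quotient.mk_surjective
  haveI : IsNoetherianRing O := IsLocalization.isNoetherianRing p.primeCompl _ inferInstance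
  haveI : IsArtinianRing A := by
    rw [isArtinianRing_iff_isNilpotent_maximalIdeal]
    obtain ⟨k, hk⟩ := hJ'
    refine ⟨k, le_bot_iff.1 ?_⟩
    rw [← IsLocalRing.map_maximalIdeal_of_surjective (Ideal.Quotient.mk J) Ideal.Quotient.mk_surjective,
      ← Ideal.map_pow, Ideal.map_le_iff_le_comap]
    exact hk.trans (by rw [← RingHom.ker_eq_comap_bot, Ideal.mk_ker])
  haveI := isNoetherianRing_tensor_quotient (R := R) (A := A) p (Ideal.Quotient.mkₐ R₀ J) hπ
  let ψ : ∀ j : σt, A →ₐ[R₀] D j := fun j =>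
    Ideal.Quotient.liftₐ J (φ j) fun a ha => (Submodule.mem_iInf _).1 ha j
  letI : ∀ j : σt, Algebra A (D j) := fun j => (ψ j).toRingHom.toAlgebra
  haveI : ∀ j : σt, IsScalarTower R₀ A (D j) := fun j => IsScalarTower.of_algebraMap_eq fun a => ((ψ j).commutes a).symm
  refine flat_localizedModule_of_family q' D (fun a ha => ?_) fun j Q' _ hQR hQC => ?_
  · obtain ⟨a, rfl⟩ := Ideal.Quotient.mk_surjective a
    exact Ideal.Quotient.eq_zero_iff_mem.2 ((Submodule.mem_iInf _).2 fun j => ha j)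
  haveI : Module.Flat (D j) (LocalizedModule (Q'.comap (transHom R₀ R A (D j)).toRingHom).primeCompl
      (BC R₀ R M (D j))) := by
    let ι' : C j.1.1 →ₐ[R₀] D j := Ideal.Quotient.mkₐ R₀ _
    haveI : Module.Flat (C j.1.1) (LocalizedModule ((Q'.comap (transHom R₀ R A (D j)).toRingHom).comap
        (mapBC R ι').toRingHom).primeCompl (BC R₀ R M (C j.1.1))) := by
      refine h j.1.1 _ ?_ ?_
      · rw [← hq', ← hQR]
        ext r
        show transHom R₀ R A (D j) (mapBC R ι' (r ⊗ₜ 1)) ∈ Q' ↔ ((r ⊗ₜ (1 : A) : R ⊗[R₀] A) ⊗ₜ[A] (1 : D j)) ∈ Q'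
        rw [mapBC_tmul, map_one, transHom_tmul]
      · refine Eq.trans ?_ (IsLocalRing.eq_maximalIdeal
          (Ideal.comap_isMaximal_of_surjective ι'.toRingHom Ideal.Quotient.mk_surjective
            (K := IsLocalRing.maximalIdeal (D j))))
        rw [← hQC]
        ext c
        show transHom R₀ R A (D j) (mapBC R ι' ((1 : R) ⊗ₜ c)) ∈ Q' ↔ ((1 : R ⊗[R₀] A) ⊗ₜ[A] ι' c) ∈ Q'
        rw [mapBC_tmul, transHom_tmul]
        rfl
    exact flat_localizedModule_baseChange ι' (Q'.comap (transHom R₀ R A (D j)).toRingHom)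
  exact flat_localizedModule_trans Q'

end Groth.Agent.H06EGA11c
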