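import Mathlib

/-!
A finite extension of a Noetherian local ring defines its topology.
-/

set_option autoImplicit false
set_option linter.style.haveILetI false

universe u

namespace Groth.Agent.H06EGA11c

/-- Powers of the maximal ideals of a finite extension cut out a power of the maximal ideal. -/
theorem exists_finset_adic {O A : CommRingCat.{u}} [IsLocalRing O] [IsNoetherianRing O] (φ : O ⟶ A)
    (hfin : φ.hom.Finite) (hinj : Function.Injective φ.hom) (N : ℕ) :
    ∃ s : Finset (MaximalSpectrum A × ℕ),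
      ⨅ p ∈ s, Ideal.comap ((algebraMap A (Localization.AtPrime p.1.asIdeal)).comp φ.hom)
          (IsLocalRing.maximalIdeal (Localization.AtPrime p.1.asIdeal) ^ p.2) ≤
        IsLocalRing.maximalIdeal O ^ N := by
  classical
  letI : Algebra O A := φ.hom.toAlgebra
  haveI : Module.Finite O A := hfin
  haveI : IsNoetherianRing A := IsNoetherianRing.of_finite O A
  let m := IsLocalRing.maximalIdeal O
  let I := m.map (algebraMap O A)
  obtain ⟨k, hk⟩ := m.exists_pow_inf_eq_pow_smul (LinearMap.range (Algebra.linearMap O A))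
  obtain ⟨l, hl⟩ := Ideal.exists_radical_pow_le_of_fg I (IsNoetherian.noetherian _)
  have hfs : {n : MaximalSpectrum A | I ≤ n.asIdeal}.Finite := by
    refine Set.Finite.subset
      ((Ideal.finite_minimalPrimes_of_isNoetherianRing A I).preimage
        (f := fun n : MaximalSpectrum A => n.asIdeal) fun a _ b _ h => MaximalSpectrum.ext h) fun n hn => ?_
    refine ⟨⟨n.isMaximal.isPrime, hn⟩, fun P hP hPn => ?_⟩
    haveI := hP.1
    haveI : (P.comap (algebraMap O A)).IsMaximal := by
      have hle : m ≤ P.comap (algebraMap O A) := Ideal.map_le_iff_le_comap.1 hP.2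
      rw [← (IsLocalRing.maximalIdeal.isMaximal O).eq_of_le (Ideal.IsPrime.ne_top inferInstance) hle]
      exact IsLocalRing.maximalIdeal.isMaximal O
    exact ((Ideal.isMaximal_of_isIntegral_of_isMaximal_comap (R := O) P inferInstance).eq_of_le
      n.isMaximal.ne_top hPn).ge
  let L := l * (N + k)
  refine ⟨hfs.toFinset.image fun n => (n, L), fun a ha => ?_⟩
  simp only [Submodule.mem_iInf] at ha
  have h1 : ∀ n ∈ hfs.toFinset, algebraMap O A a ∈ n.asIdeal ^ L := by
    intro n hn
    have h2 := ha (n, L) (Finset.mem_image_of_mem _ hn)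
    haveI := n.isMaximal
    dsimp only at h2
    rw [Ideal.mem_comap, RingHom.comp_apply, ← Localization.AtPrime.map_eq_maximalIdeal, ← Ideal.map_pow,
      IsLocalization.algebraMap_mem_map_algebraMap_iff n.asIdeal.primeCompl] at h2
    obtain ⟨t, ht, hta⟩ := h2
    by_cases hL : L = 0
    · simp [hL]
    have htop : n.asIdeal ^ L ⊔ Ideal.span {(t : A)} = ⊤ := by
      refine Ideal.pow_sup_eq_top ?_
      by_contra hne
      exact ht (((n.isMaximal.eq_of_le hne le_sup_left).symm ▸
        Ideal.mem_sup_right (Ideal.mem_span_singleton_self (t : A))))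
    obtain ⟨w, hw, v, hv, hwv⟩ := Submodule.mem_sup.1 ((Ideal.eq_top_iff_one _).1 htop)
    obtain ⟨u, rfl⟩ := Ideal.mem_span_singleton'.1 hv
    rw [← one_mul (algebraMap O A a), ← hwv, add_mul, mul_assoc]
    exact add_mem (Ideal.mul_mem_right _ _ hw) (Ideal.mul_mem_left _ _ hta)
  have h2 : ∀ s : Finset (MaximalSpectrum A), (∀ n ∈ s, algebraMap O A a ∈ n.asIdeal ^ L) →
      algebraMap O A a ∈ ∏ n ∈ s, n.asIdeal ^ L := by
    intro s hs
    rw [Ideal.prod_eq_iInf_of_pairwise_isCoprime fun i _ j _ hij => ?_]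
    · simpa [Submodule.mem_iInf] using hs
    · exact Ideal.isCoprime_iff_sup_eq.2 (Ideal.pow_sup_pow_eq_top
        (i.isMaximal.coprime_of_ne j.isMaximal fun h => hij (MaximalSpectrum.ext h)))
  have h3 : ∏ n ∈ hfs.toFinset, n.asIdeal ≤ I.radical := by
    rw [Ideal.radical_eq_sInf]
    refine le_sInf fun P hP => ?_
    haveI := hP.2
    haveI : (P.comap (algebraMap O A)).IsMaximal := by
      rw [← (IsLocalRing.maximalIdeal.isMaximal O).eq_of_le (Ideal.IsPrime.ne_top inferInstance)
        (Ideal.map_le_iff_le_comap.1 hP.1)]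
      exact IsLocalRing.maximalIdeal.isMaximal O
    exact Ideal.prod_le_inf.trans (Finset.inf_le (f := fun n : MaximalSpectrum A => n.asIdeal)
      (b := ⟨P, Ideal.isMaximal_of_isIntegral_of_isMaximal_comap (R := O) P inferInstance⟩)
      (hfs.mem_toFinset.2 hP.1))
  have h4 : algebraMap O A a ∈ (m ^ (N + k)).map (algebraMap O A) := by
    have := h2 _ h1
    rw [Finset.prod_pow] at this
    have h5 := (Ideal.pow_right_mono h3 _) this
    rw [pow_mul] at h5
    rw [Ideal.map_pow]
    exact Ideal.pow_right_mono hl _ h5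
  have h5 : (Algebra.linearMap O A a) ∈ m ^ (N + k) • ⊤ ⊓ LinearMap.range (Algebra.linearMap O A) := by
    refine ⟨?_, ⟨a, rfl⟩⟩
    rw [Ideal.smul_top_eq_map]
    exact h4
  rw [hk _ (Nat.le_add_left k N), Nat.add_sub_cancel] at h5
  have h6 := Submodule.smul_mono le_rfl (inf_le_right) h5
  rw [LinearMap.range_eq_map, ← Submodule.map_smul''] at h6
  obtain ⟨b, hb, hab⟩ := h6
  rw [smul_eq_mul, Ideal.mul_top] at hb
  exact hinj hab ▸ hb

end Groth.Agent.H06EGA11c
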