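import Mathlib
import Groth.Agent.H06EGA11.BaseChange
import Groth.Agent.H06EGA11b.PullFlat

/-!
Primes of a base change of sections as points of the fibre product, with flatness.
-/

set_option autoImplicit false
set_option linter.style.haveILetI false
set_option backward.isDefEq.respectTransparency false

universe u

open CategoryTheory CategoryTheory.Limits AlgebraicGeometry TensorProduct

namespace Groth.Agent.H06EGA11c

open H06EGA11

attribute [local instance] Algebra.TensorProduct.rightAlgebra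

variable {X S X' S' : Scheme.{u}}

set_option maxHeartbeats 1000000 in
/-- A prime of `Γ(X, U) ⊗ Γ(S', W)` is a point of the fibre product; flatness there localises. -/
theorem exists_point {f : X ⟶ S} {f' : X' ⟶ S'} {g : X' ⟶ X} {h : S' ⟶ S}
    (H : IsPullback g f' f h) (F : X.Modules) (hF : Coh.IsQCoh F) {U : X.Opens} (hU : IsAffineOpen U)
    {V : S.Opens} (hV : IsAffineOpen V) (eU : U ≤ f ⁻¹ᵁ V) {W : S'.Opens} (hW : IsAffineOpen W)
    (eW : W ≤ h ⁻¹ᵁ V) :
    letI := (h.appLE V W eW).hom.toAlgebra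
    letI := (f.appLE V U eU).hom.toAlgebra
    letI := Module.compHom Γ(F, U) (f.appLE V U eU).hom
    haveI : IsScalarTower Γ(S, V) Γ(X, U) Γ(F, U) := .of_algebraMap_smul fun _ _ => rfl
    ∀ (Q : Ideal (Γ(X, U) ⊗[Γ(S, V)] Γ(S', W))) [Q.IsPrime],
      ∃ (x' : X') (hx : g x' ∈ U) (hy : f' x' ∈ W),
        (hU.primeIdealOf ⟨g x', hx⟩).asIdeal =
          Q.comap (algebraMap Γ(X, U) (Γ(X, U) ⊗[Γ(S, V)] Γ(S', W))) ∧
        (hW.primeIdealOf ⟨f' x', hy⟩).asIdeal =
          Q.comap (algebraMap Γ(S', W) (Γ(X, U) ⊗[Γ(S, V)] Γ(S', W))) ∧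
        (FlatMod.IsFlatOverAt f' ((Scheme.Modules.pullback g).obj F) x' →
          Module.Flat Γ(S', W)
            (LocalizedModule Q.primeCompl (BC Γ(S, V) Γ(X, U) Γ(F, U) Γ(S', W)))) := by
  set U' := g ⁻¹ᵁ U ⊓ f' ⁻¹ᵁ W
  obtain ⟨hU', hpo⟩ := H06EGA11b.PullFlat.pushout_sections H hU hV eU hW eW
  letI := (h.appLE V W eW).hom.toAlgebra
  letI := (f.appLE V U eU).hom.toAlgebra
  letI := Module.compHom Γ(F, U) (f.appLE V U eU).hom
  haveI : IsScalarTower Γ(S, V) Γ(X, U) Γ(F, U) := .of_algebraMap_smul fun _ _ => rfl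
  intro Q _
  let F' := (Scheme.Modules.pullback g).obj F
  letI : Algebra Γ(S', W) Γ(X', U') := (f'.appLE W U' inf_le_right).hom.toAlgebra
  letI : Algebra Γ(X, U) Γ(X', U') := (g.appLE U U' inf_le_left).hom.toAlgebra
  letI : Algebra Γ(S, V) Γ(X', U') :=
    ((f'.appLE W U' inf_le_right).hom.comp (h.appLE V W eW).hom).toAlgebra
  haveI : IsScalarTower Γ(S, V) Γ(S', W) Γ(X', U') := IsScalarTower.of_algebraMap_eq fun _ => rfl
  haveI : IsScalarTower Γ(S, V) Γ(X, U) Γ(X', U') := IsScalarTower.of_algebraMap_eq fun x =>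
    congrArg (fun φ => φ.hom x) hpo.w.symm
  haveI hp : Algebra.IsPushout Γ(S, V) Γ(X, U) Γ(S', W) Γ(X', U') :=
    (CommRingCat.isPushout_iff_isPushout.mp hpo.flip).symm
  let σ : Γ(X, U) ⊗[Γ(S, V)] Γ(S', W) ≃ₐ[Γ(X, U)] Γ(X', U') :=
    Algebra.IsPushout.equiv Γ(S, V) Γ(X, U) Γ(S', W) Γ(X', U')
  have hσC : ∀ c, σ.symm (algebraMap Γ(S', W) Γ(X', U') c) =
      algebraMap Γ(S', W) (Γ(X, U) ⊗[Γ(S, V)] Γ(S', W)) c := fun c =>
    Algebra.IsPushout.equiv_symm_algebraMap_right Γ(S, V) Γ(X, U) Γ(S', W) Γ(X', U') c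
  let P : PrimeSpectrum Γ(X', U') := ⟨Q.comap σ.symm.toAlgHom.toRingHom, inferInstance⟩
  obtain ⟨⟨x', hx'⟩, hP⟩ := H29Blow.exists_primeIdealOf_eq hU' P
  have hcomap1 := IsAffineOpen.comap_primeIdealOf_appLE U hU U' hU' inf_le_left hx' (f := g)
  have hcomap2 := IsAffineOpen.comap_primeIdealOf_appLE W hW U' hU' inf_le_right hx' (f := f')
  rw [hP] at hcomap1 hcomap2
  refine ⟨x', hx'.1, hx'.2, ?_, ?_, fun hflat => ?_⟩
  · rw [← congrArg PrimeSpectrum.asIdeal hcomap1]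
    ext r
    show σ.symm ((g.appLE U U' inf_le_left).hom r) ∈ Q ↔ _
    rw [show (g.appLE U U' inf_le_left).hom r = algebraMap Γ(X, U) Γ(X', U') r from rfl, σ.symm.commutes]
    rfl
  · rw [← congrArg PrimeSpectrum.asIdeal hcomap2]
    ext c
    show σ.symm ((f'.appLE W U' inf_le_right).hom c) ∈ Q ↔ _
    rw [show (f'.appLE W U' inf_le_right).hom c = algebraMap Γ(S', W) Γ(X', U') c from rfl, hσC]
    rfl
  have h1 := (H8Props.FlatLocus.isFlatOverAt_iff_localizedModule f' F' (H29Fitt.isQCoh_pullback g F hF)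
    hW hU' inf_le_right ⟨x', hx'⟩).1 hflat
  letI := Module.compHom Γ(F', U') (f'.appLE W U' inf_le_right).hom
  haveI : IsScalarTower Γ(S', W) Γ(X', U') Γ(F', U') := .of_algebraMap_smul fun _ _ => rfl
  letI := Module.compHom Γ(F', U') (g.appLE U U' inf_le_left).hom
  haveI : IsScalarTower Γ(X, U) Γ(X', U') Γ(F', U') := .of_algebraMap_smul fun _ _ => rfl
  have hb := H8Props.PullSections.isBaseChange_pullLin g F (W := U) (U := U') inf_le_left hF hU hU'
  let e₀ : Γ(F', U') ≃+ BC Γ(S, V) Γ(X, U) Γ(F, U) Γ(S', W) :=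
    hb.equiv.symm.toAddEquiv.trans
      (TensorProduct.congr σ.symm.toLinearEquiv (LinearEquiv.refl Γ(X, U) Γ(F, U))).toAddEquiv
  have he : ∀ (s : Γ(X', U')) (x : Γ(F', U')), e₀ (s • x) = σ.symm s • e₀ x := by
    intro s x
    show TensorProduct.congr _ _ (hb.equiv.symm (s • x)) = σ.symm s • TensorProduct.congr _ _ (hb.equiv.symm x)
    rw [map_smul]
    induction hb.equiv.symm x with
    | zero => simp
    | tmul a m => simp [TensorProduct.smul_tmul']
    | add a b ha hb => simp only [smul_add, map_add, ha, hb]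
  let e : Γ(F', U') ≃ₗ[Γ(S', W)] BC Γ(S, V) Γ(X, U) Γ(F, U) Γ(S', W) :=
    { e₀ with
      map_smul' := fun c x => by
        show e₀ (c • x) = c • e₀ x
        rw [← algebraMap_smul Γ(X', U') c x, he, hσC, algebraMap_smul] }
  haveI := h1
  exact flat_localizedModule_of_equiv (R := Γ(S', W)) σ.symm.toAlgHom.toRingHom e he Q.primeCompl
    (hU'.primeIdealOf ⟨x', hx'⟩).asIdeal.primeCompl fun s hs hmem => hs (by rw [hP]; exact hmem)

end Groth.Agent.H06EGA11c
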