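import Groth.Agent.H02CA.GeomIrred
import Groth.Agent.H06Geom.SepClosedIn
import Groth.Agent.H17.AssFields

/-!
Tensor products `K ⊗ L` of fields with `k` separably closed in `L`: non-nilpotent elements are regular.
-/

set_option autoImplicit false
set_option linter.style.haveILetI false
set_option backward.isDefEq.respectTransparency false

universe u

open TensorProduct

namespace Groth.Agent.H06EGA11c

variable {k L : Type u} [Field k] [Field L] [Algebra k L]

/-- Irreducibility survives a purely inseparable base extension. -/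
theorem irreducibleSpace_purelyInseparable_tensor {S kb W : Type u} [Field S] [Field kb] [Algebra S kb]
    [IsPurelyInseparable S kb] [CommRing W] [Algebra S W] (h : IrreducibleSpace (PrimeSpectrum W)) :
    IrreducibleSpace (PrimeSpectrum (kb ⊗[S] W)) :=
  H02CA.GeomIrred.irreducibleSpace_of_ringEquiv (Algebra.TensorProduct.comm S kb W).toRingEquiv
    ((PrimeSpectrum.isHomeomorph_comap_of_isPurelyInseparable S kb W).homeomorph.irreducibleSpace_iff.mpr h)

/-- A field in which `k` is separably closed is geometrically irreducible. -/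
theorem irreducibleSpace_of_separableClosure_eq_bot (h : separableClosure k L = ⊥) (K : Type u) [Field K]
    [Algebra k K] : IrreducibleSpace (PrimeSpectrum (K ⊗[k] L)) := by
  let kb := AlgebraicClosure k
  let S := separableClosure k kb
  haveI : IsPurelyInseparable S kb := separableClosure.isPurelyInseparable k kb
  have h1 : IrreducibleSpace (PrimeSpectrum (S ⊗[k] L)) :=
    H02CA.GeomIrred.irreducibleSpace_of_finite_subextensions fun E hE => by
      haveI := hE
      haveI := H06Geom.isDomain_tensor_finite h E
      exact H02CA.GeomIrred.irreducibleSpace_of_ringEquiv (Algebra.TensorProduct.comm k E L).toRingEquiv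
        inferInstance
  refine H02CA.GeomIrred.irreducibleSpace_of_algClosure ?_ K
  exact H02CA.GeomIrred.irreducibleSpace_of_ringEquiv
    (Algebra.TensorProduct.cancelBaseChange k S S kb L).symm.toRingEquiv
    (irreducibleSpace_purelyInseparable_tensor h1)

/-- Non-nilpotent elements of `K ⊗ L` are regular when `k` is separably closed in `L`. -/
theorem eq_zero_of_mul_eq_zero_of_separableClosure_eq_bot (h : separableClosure k L = ⊥) (K : Type u) [Field K]
    [Algebra k K] (t b : K ⊗[k] L) (ht : ¬IsNilpotent t) (htb : t * b = 0) : b = 0 := by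
  by_contra hb
  let I : Ideal (K ⊗[k] L) := LinearMap.ker (LinearMap.mulRight (K ⊗[k] L) b)
  have hI : I ≠ ⊤ := fun hI => hb (by
    have : (1 : K ⊗[k] L) ∈ I := hI ▸ trivial
    simpa [I] using this)
  obtain ⟨m, hm, hIm⟩ := Ideal.exists_le_maximal I hI
  haveI := hm.isPrime
  obtain ⟨p, hp, -⟩ := Ideal.exists_minimalPrimes_le hIm
  haveI := hp.1.1
  have hw : H17.AssFields.WeakAss p := by
    refine ⟨b, fun s hs h0 => hs (hp.1.2 h0), fun r hr => ?_⟩
    let T : Submonoid (K ⊗[k] L) := p.primeCompl ⊔ Submonoid.powers r
    by_cases hdis : Disjoint (I : Set (K ⊗[k] L)) T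
    · obtain ⟨Q, hQ, hIQ, hQT⟩ := Ideal.exists_le_prime_disjoint I T hdis
      have hQp : Q ≤ p := fun x hx => by
        by_contra hxp
        exact Set.disjoint_left.1 hQT hx (Submonoid.mem_sup_left hxp)
      exact absurd (hp.2 ⟨hQ, hIQ⟩ hQp hr)
        fun hrQ => Set.disjoint_left.1 hQT hrQ (Submonoid.mem_sup_right (Submonoid.mem_powers r))
    · rw [Set.not_disjoint_iff] at hdis
      obtain ⟨x, hx, hxT⟩ := hdis
      obtain ⟨s, hs, _, ⟨n, rfl⟩, rfl⟩ := Submonoid.mem_sup.1 hxT
      exact ⟨n, s, hs, by rw [← mul_assoc]; exact hx⟩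
  have hnil : p = nilradical (K ⊗[k] L) := by
    have hmin := H17.AssFields.minimal_tensor_fields p hw
    have hn := (PrimeSpectrum.irreducibleSpace_iff_isPrime_nilradical (R := K ⊗[k] L)).1
      (irreducibleSpace_of_separableClosure_eq_bot h K)
    exact le_antisymm (hmin.2 ⟨hn, bot_le⟩ (nilradical_le_prime p)) (nilradical_le_prime p)
  refine ht (mem_nilradical.1 (hnil ▸ hp.1.2 ?_))
  exact htb

end Groth.Agent.H06EGA11c
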