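import Mathlib
import Groth.Agent.H06EGA11.Loc

/-!
An element of `U ⊗ M` killed by an element of `U` which is regular on the residue field at `q`
lies in every power of `q` up to `R ∖ q` (EGA IV 11.5.2).
-/

set_option autoImplicit false
set_option linter.style.haveILetI false
set_option backward.isDefEq.respectTransparency false

universe u

open TensorProduct

namespace Groth.Agent.H06EGA11c

variable {R U : Type u} [CommRing R] [CommRing U] [Algebra R U]

theorem range_baseChange_le {M : Type u} [AddCommGroup M] [Module R M] (J : Ideal R)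
    (y : U ⊗[R] ↥(J • (⊤ : Submodule R M))) :
    (J • ⊤ : Submodule R M).subtype.baseChange U y ∈ J • (⊤ : Submodule R (U ⊗[R] M)) := by
  induction y using TensorProduct.induction_on with
  | zero => simp
  | add a b ha hb => rw [map_add]; exact add_mem ha hb
  | tmul u m =>
    obtain ⟨m, hm⟩ := m
    rw [LinearMap.baseChange_tmul]
    show u ⊗ₜ[R] m ∈ _
    refine Submodule.smul_induction_on hm (fun a ha x _ => ?_) fun a b ha hb => ?_
    · rw [tmul_smul]
      exact Submodule.smul_mem_smul ha trivial
    · rw [tmul_add]; exact add_mem ha hb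

theorem exists_baseChange_eq {M : Type u} [AddCommGroup M] [Module R M] (J : Ideal R)
    {x : U ⊗[R] M} (hx : x ∈ J • (⊤ : Submodule R (U ⊗[R] M))) :
    ∃ y, (J • ⊤ : Submodule R M).subtype.baseChange U y = x := by
  refine Submodule.smul_induction_on hx (fun a ha x _ => ?_) fun a b ⟨a', ha⟩ ⟨b', hb⟩ =>
    ⟨a' + b', by rw [map_add, ha, hb]⟩
  ·
    induction x using TensorProduct.induction_on with
    | zero => exact ⟨0, by simp⟩
    | tmul u m =>
      refine ⟨u ⊗ₜ ⟨a • m, Submodule.smul_mem_smul ha trivial⟩, ?_⟩
      rw [LinearMap.baseChange_tmul]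
      exact tmul_smul a u m
    | add p r hp hr =>
      obtain ⟨p', hp'⟩ := hp trivial
      obtain ⟨r', hr'⟩ := hr trivial
      exact ⟨p' + r', by rw [map_add, hp', hr', smul_add]⟩

/-- On modules killed by `q`, a regular element kills only what `R ∖ q` kills. -/
theorem exists_smul_eq_zero_of_regular (q : Ideal R) [q.IsPrime] (t : U)
    (hreg : ∀ v : U ⊗[R] q.ResidueField, t • v = 0 → v = 0) {G : Type u} [AddCommGroup G] [Module R G]
    (hG : ∀ a ∈ q, ∀ x : G, a • x = 0) (y : U ⊗[R] G) (hy : t • y = 0) : ∃ s : R, s ∉ q ∧ s • y = 0 := by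
  classical
  let O := Localization.AtPrime q
  let Gq := LocalizedModule q.primeCompl G
  have htors : Module.IsTorsionBySet O Gq (IsLocalRing.maximalIdeal O : Set O) := by
    intro z ⟨a, ha⟩
    have h1 : a ∈ q.map (algebraMap R O) := by rwa [Localization.AtPrime.map_eq_maximalIdeal]
    show a • z = 0
    refine (show q.map (algebraMap R O) ≤ (LinearMap.toSpanSingleton O _ z).ker from
      Ideal.map_le_iff_le_comap.2 fun b hb => ?_) h1
    show algebraMap R O b • z = 0
    rw [algebraMap_smul]
    induction z using LocalizedModule.induction_on with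
    | h m s => rw [LocalizedModule.smul'_mk, hG b hb, LocalizedModule.zero_mk]
  letI : Module q.ResidueField Gq := htors.module
  haveI : IsScalarTower O q.ResidueField Gq := htors.isScalarTower
  haveI : IsScalarTower R q.ResidueField Gq := htors.isScalarTower
  let b := Module.Free.chooseBasis q.ResidueField Gq
  let jG : G →ₗ[R] Gq := LocalizedModule.mkLinearMap q.primeCompl G
  let e : Gq ≃ₗ[R] (_ →₀ q.ResidueField) := b.repr.restrictScalars R
  have h0 : jG.baseChange U y = 0 := by
    apply (LinearEquiv.baseChange R U _ _ e).injective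
    rw [map_zero]
    apply (TensorProduct.finsuppRight R U U q.ResidueField _).injective
    rw [map_zero]
    ext l
    rw [Finsupp.zero_apply]
    exact hreg _ (by
      rw [← Finsupp.smul_apply, ← map_smul, ← map_smul, ← map_smul, hy, map_zero, map_zero, map_zero,
        Finsupp.zero_apply])
  have hloc : H06EGA11.locT q.primeCompl G U (TensorProduct.comm R U G y) = 0 := by
    have h1 : ∀ z : U ⊗[R] G, H06EGA11.locT q.primeCompl G U (TensorProduct.comm R U G z) =
        TensorProduct.comm R U Gq (jG.baseChange U z) := fun z => by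
      induction z using TensorProduct.induction_on with
      | zero => simp
      | tmul u g => rfl
      | add a b ha hb => simp only [map_add, ha, hb]
    rw [h1, h0, map_zero]
  obtain ⟨s, hs⟩ := (IsLocalizedModule.eq_zero_iff q.primeCompl _).1 hloc
  refine ⟨s.1, s.2, (TensorProduct.comm R U G).injective ?_⟩
  rw [map_smul, map_zero]
  exact hs

/-- An element killed by a regular element is in every power of `q`, up to `R ∖ q`. -/
theorem exists_smul_mem_pow_of_regular (I : Ideal R)
    (hinj : ∀ (L N : Type u) [AddCommGroup L] [Module R L] [AddCommGroup N] [Module R N] (f : L →ₗ[R] N),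
      Function.Injective f → (∀ a ∈ I, ∀ x : N, a • x = 0) → Function.Injective (f.baseChange U))
    (q : Ideal R) [q.IsPrime] (t : U) (hreg : ∀ v : U ⊗[R] q.ResidueField, t • v = 0 → v = 0)
    {M : Type u} [AddCommGroup M] [Module R M] (hM : ∀ a ∈ I, ∀ x : M, a • x = 0)
    (z : U ⊗[R] M) (hz : t • z = 0) (j : ℕ) :
    ∃ s : R, s ∉ q ∧ s • z ∈ q ^ j • (⊤ : Submodule R (U ⊗[R] M)) := by
  induction j with
  | zero =>
    exact ⟨1, (Ideal.ne_top_iff_one q).1 (Ideal.IsPrime.ne_top inferInstance), by simp⟩
  | succ j ih =>
    obtain ⟨s, hs, hsz⟩ := ih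
    obtain ⟨y₀, hy₀⟩ := exists_baseChange_eq _ hsz
    let L := (q ^ j • ⊤ : Submodule R M)
    let L' := (q ^ (j + 1) • ⊤ : Submodule R M)
    let π : L →ₗ[R] M ⧸ L' := L'.mkQ.comp L.subtype
    have hG : ∀ a ∈ q, ∀ x : LinearMap.range π, a • x = 0 := by
      rintro a ha ⟨_, x, rfl⟩
      refine Subtype.ext ?_
      show a • π x = 0
      rw [← map_smul]
      refine (Submodule.Quotient.mk_eq_zero _).2 ?_
      show a • (x : M) ∈ L'
      have := Submodule.smul_mem_smul ha x.2
      rwa [← Submodule.mul_smul, ← pow_succ'] at this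
    have hι := hinj (LinearMap.range π) (M ⧸ L') (LinearMap.range π).subtype Subtype.val_injective
      fun a ha x => by
        obtain ⟨x, rfl⟩ := Submodule.Quotient.mk_surjective _ x
        rw [← Submodule.Quotient.mk_smul, hM a ha, Submodule.Quotient.mk_zero]
    let y := π.rangeRestrict.baseChange U y₀
    have hy1 : (LinearMap.range π).subtype.baseChange U y = L'.mkQ.baseChange U (s • z) := by
      rw [← hy₀]
      show _ = (L'.mkQ.baseChange U).comp (L.subtype.baseChange U) y₀
      rw [← LinearMap.baseChange_comp]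
      show ((LinearMap.range π).subtype.baseChange U).comp (π.rangeRestrict.baseChange U) y₀ = _
      rw [← LinearMap.baseChange_comp]
      rfl
    have hty : t • y = 0 := hι (by
      rw [map_smul, hy1, ← map_smul, smul_comm, hz, smul_zero, map_zero, map_zero])
    obtain ⟨s', hs', hsy⟩ := exists_smul_eq_zero_of_regular q t hreg hG y hty
    refine ⟨s' * s, fun h => ((inferInstance : q.IsPrime).mem_or_mem h).elim hs' hs, ?_⟩
    rw [mul_smul]
    have h2 : L'.mkQ.baseChange U (s' • s • z) = 0 := by
      rw [LinearMap.map_smul_of_tower, ← hy1, ← LinearMap.map_smul_of_tower, hsy, map_zero]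
    obtain ⟨w, hw⟩ := (lTensor_exact U (LinearMap.exact_subtype_mkQ L') L'.mkQ_surjective _).1 h2
    rw [← hw]
    exact range_baseChange_le _ w

end Groth.Agent.H06EGA11c
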