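import Groth.Agent.H06EGA11c.Detect
import Groth.Agent.H06EGA11c.RegularStep
import Groth.Agent.H06EGA11c.PrimaryField

/-!
Flatness at a prime with primary residue extension from one point per local algebra (EGA IV 11.5.2).
-/

set_option autoImplicit false
set_option linter.style.haveILetI false
set_option backward.isDefEq.respectTransparency false

universe u

open TensorProduct

namespace Groth.Agent.H06EGA11c

open H06EGA11

attribute [local instance] Algebra.TensorProduct.rightAlgebra

variable {A R : Type u} [CommRing A] [CommRing R] [Algebra A R]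

/-- `U ⊗ (-)` is exact on modules killed by the maximal ideal, `U = R ⊗ K`. -/
theorem injective_baseChange_of_killed [IsLocalRing A] (K : Type u) [CommRing K] [Algebra A K]
    {L N : Type u} [AddCommGroup L] [Module R L] [AddCommGroup N] [Module R N] (f : L →ₗ[R] N)
    (hf : Function.Injective f)
    (hN : ∀ a ∈ (IsLocalRing.maximalIdeal A).map (algebraMap A R), ∀ x : N, a • x = 0) :
    Function.Injective (f.baseChange (R ⊗[A] K)) := by
  letI : Module A L := Module.compHom L (algebraMap A R)
  letI : Module A N := Module.compHom N (algebraMap A R)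
  haveI : IsScalarTower A R L := .of_algebraMap_smul fun _ _ => rfl
  haveI : IsScalarTower A R N := .of_algebraMap_smul fun _ _ => rfl
  haveI : Algebra.IsPushout A K R (R ⊗[A] K) := Algebra.IsPushout.symm inferInstance
  let k := A ⧸ IsLocalRing.maximalIdeal A
  letI : Field k := Ideal.Quotient.field _
  have hkN : Module.IsTorsionBySet A N (IsLocalRing.maximalIdeal A : Set A) := fun x a => by
    show a.1 • x = 0
    rw [← algebraMap_smul R a.1 x]
    exact hN _ (Ideal.mem_map_of_mem _ a.2) x
  have hkL : Module.IsTorsionBySet A L (IsLocalRing.maximalIdeal A : Set A) := fun x a => hf (by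
    show f (a.1 • x) = f 0
    rw [LinearMap.map_smul_of_tower, map_zero]
    exact @hkN (f x) a)
  letI := hkN.module
  letI := hkL.module
  haveI : IsScalarTower A k N := hkN.isScalarTower
  haveI : IsScalarTower A k L := hkL.isScalarTower
  let fk : L →ₗ[k] N := LinearMap.extendScalarsOfSurjective (R := A) (S := k) Ideal.Quotient.mk_surjective
    (f.restrictScalars A)
  obtain ⟨g, hg⟩ := fk.exists_leftInverse_of_injective (LinearMap.ker_eq_bot.2 hf)
  have hinj : Function.Injective ((f.restrictScalars A).lTensor K) := by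
    refine Function.LeftInverse.injective (g := (g.restrictScalars A).lTensor K) fun y => ?_
    rw [← LinearMap.lTensor_comp_apply,
      show (g.restrictScalars A) ∘ₗ (f.restrictScalars A) = LinearMap.id from
        LinearMap.ext fun x => LinearMap.congr_fun hg x, LinearMap.lTensor_id, LinearMap.id_apply]
  let eL := Algebra.IsPushout.cancelBaseChange A K R (R ⊗[A] K) L
  let eN := Algebra.IsPushout.cancelBaseChange A K R (R ⊗[A] K) N
  have hcomm : ∀ y, f.baseChange (R ⊗[A] K) (eL.symm y) = eN.symm ((f.restrictScalars A).lTensor K y) := by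
    intro y
    induction y using TensorProduct.induction_on with
    | zero => simp
    | tmul c m => simp [eL, eN, Algebra.IsPushout.cancelBaseChange_symm_tmul]
    | add a b ha hb => simp only [map_add, ha, hb]
  intro x y hxy
  obtain ⟨x, rfl⟩ := eL.symm.surjective x
  obtain ⟨y, rfl⟩ := eL.symm.surjective y
  rw [hcomm, hcomm] at hxy
  rw [hinj (eN.symm.injective hxy)]

/-- Elements of `R ⊗ K` outside a prime over `q` are regular on `κ(q)`. -/
theorem eq_zero_of_smul_residueField [IsLocalRing A] (K : Type u) [Field K] [Algebra A K]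
    [Algebra (IsLocalRing.ResidueField A) K] [IsScalarTower A (IsLocalRing.ResidueField A) K]
    (q : Ideal R) [q.IsPrime] [Algebra (IsLocalRing.ResidueField A) q.ResidueField]
    [IsScalarTower A (IsLocalRing.ResidueField A) q.ResidueField]
    (hprim : separableClosure (IsLocalRing.ResidueField A) q.ResidueField = ⊥)
    (t : R ⊗[A] K) {F : Type u} [Field F] (θ : (R ⊗[A] K) →+* F)
    (hθ : ∀ r : R, θ (r ⊗ₜ 1) = 0 ↔ r ∈ q) (ht : θ t ≠ 0)
    (v : (R ⊗[A] K) ⊗[R] q.ResidueField) (hv : t • v = 0) : v = 0 := by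
  let k := IsLocalRing.ResidueField A
  haveI : Algebra.IsPushout A K R (R ⊗[A] K) := Algebra.IsPushout.symm inferInstance
  let e₁ := Algebra.IsPushout.cancelBaseChangeAlg A K R (R ⊗[A] K) q.ResidueField
  haveI : CompatibleSMul k A K q.ResidueField := ⟨fun a x y => by
    rw [← algebraMap_smul k a x, ← algebraMap_smul k a y, smul_tmul]⟩
  haveI : CompatibleSMul A k K q.ResidueField := ⟨fun c x y => by
    obtain ⟨a, rfl⟩ := Ideal.Quotient.mk_surjective c
    rw [show Ideal.Quotient.mk _ a = algebraMap A k a from rfl, algebraMap_smul, algebraMap_smul, smul_tmul]⟩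
  let e₂ : K ⊗[A] q.ResidueField ≃ₐ[K] K ⊗[k] q.ResidueField :=
    Algebra.TensorProduct.equivOfCompatibleSMul k A K K q.ResidueField
  let e : (R ⊗[A] K) ⊗[R] q.ResidueField ≃+* K ⊗[k] q.ResidueField :=
    e₁.toRingEquiv.trans e₂.toRingEquiv
  let ζ : q.ResidueField →+* F :=
    Ideal.ResidueField.lift q (θ.comp (algebraMap R (R ⊗[A] K)))
      (fun r hr => (hθ r).2 hr) fun r hr => isUnit_iff_ne_zero.2 fun h => hr ((hθ r).1 h)
  letI : Algebra R F := (θ.comp (algebraMap R (R ⊗[A] K))).toAlgebra
  let Θ : (R ⊗[A] K) ⊗[R] q.ResidueField →ₐ[R] F :=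
    Algebra.TensorProduct.lift { θ with commutes' := fun r => rfl }
      { ζ with commutes' := fun r => Ideal.ResidueField.lift_algebraMap _ _ _ _ r }
      fun _ _ => Commute.all _ _
  have hnil : ¬IsNilpotent (e (t ⊗ₜ (1 : q.ResidueField))) := fun hn => by
    have h1 : IsNilpotent (t ⊗ₜ[R] (1 : q.ResidueField)) := (IsNilpotent.map_iff e.injective).1 hn
    have h2 := h1.map Θ
    rw [Algebra.TensorProduct.lift_tmul, map_one, mul_one] at h2
    exact ht h2.eq_zero
  have hmul : t • v = (t ⊗ₜ[R] (1 : q.ResidueField)) * v := by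
    clear hv
    induction v using TensorProduct.induction_on with
    | zero => simp
    | tmul a b => rw [TensorProduct.smul_tmul', smul_eq_mul, Algebra.TensorProduct.tmul_mul_tmul, one_mul]
    | add a b ha hb => rw [smul_add, mul_add, ha, hb]
  apply e.injective
  rw [map_zero]
  refine eq_zero_of_mul_eq_zero_of_separableClosure_eq_bot hprim K _ _ hnil ?_
  rw [← map_mul, ← hmul, hv, map_zero]

/-- An element of `M ⊗ K` which is in every power of `q`, up to `R ∖ q`, dies at `q`. -/
theorem exists_smul_eq_zero_of_forall_exists [IsLocalRing A] [IsNoetherianRing R] {M : Type u}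
    [AddCommGroup M] [Module A M] [Module R M] [IsScalarTower A R M] [Module.Finite R M] {K : Type u}
    [AddCommGroup K] [Module A K] (hK : Module.IsTorsionBySet A K (IsLocalRing.maximalIdeal A : Set A))
    (q : Ideal R) [q.IsPrime] (z : M ⊗[A] K)
    (h : ∀ j : ℕ, ∃ s : R, s ∉ q ∧ s • z ∈ q ^ j • (⊤ : Submodule R (M ⊗[A] K))) :
    ∃ s : R, s ∉ q ∧ s • z = 0 := by
  classical
  letI : Field (A ⧸ IsLocalRing.maximalIdeal A) := Ideal.Quotient.field _
  letI := hK.module
  haveI : IsScalarTower A (A ⧸ IsLocalRing.maximalIdeal A) K := hK.isScalarTower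
  let k := A ⧸ IsLocalRing.maximalIdeal A
  let b := Module.Free.chooseBasis k K
  let e : M ⊗[A] K ≃ₗ[R] (_ →₀ M ⊗[A] k) :=
    (AlgebraTensorModule.congr (LinearEquiv.refl R M) (b.repr.restrictScalars A)).trans
      (TensorProduct.finsuppRight A R M k _)
  haveI : Module.Finite R (M ⊗[A] k) := by
    refine Module.Finite.of_surjective ((AlgebraTensorModule.mk A R M k).flip 1) fun y => ?_
    induction y with
    | zero => exact ⟨0, map_zero _⟩
    | tmul m a =>
      obtain ⟨a, rfl⟩ := Ideal.Quotient.mk_surjective a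
      refine ⟨a • m, ?_⟩
      show (a • m) ⊗ₜ[A] (1 : k) = _
      rw [smul_tmul]
      congr 1
      exact (Algebra.algebraMap_eq_smul_one a).symm
    | add x y hx hy =>
      obtain ⟨x', rfl⟩ := hx
      obtain ⟨y', rfl⟩ := hy
      exact ⟨x' + y', map_add _ _ _⟩
  have key : ∀ l, ∃ s : R, s ∉ q ∧ s • e z l = 0 := by
    intro l
    obtain ⟨c, hc⟩ := q.exists_pow_inf_eq_pow_smul (R ∙ e z l)
    obtain ⟨s, hs, hsz⟩ := h (c + 1)
    have hy : s • e z l ∈ q ^ (c + 1) • (⊤ : Submodule R (M ⊗[A] k)) := by
      have h1 := Submodule.mem_map_of_mem (f := (Finsupp.lapply l).comp e.toLinearMap) hsz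
      rw [Submodule.map_smul'', map_smul] at h1
      exact Submodule.smul_mono le_rfl le_top h1
    have h1 : s • e z l ∈ q • (R ∙ e z l) := by
      have h2 : s • e z l ∈ q ^ (c + 1) • ⊤ ⊓ (R ∙ e z l) :=
        ⟨hy, Submodule.smul_mem _ _ (Submodule.mem_span_singleton_self _)⟩
      rw [hc _ (Nat.le_succ c), Nat.succ_sub (le_refl c), Nat.sub_self, pow_one] at h2
      exact Submodule.smul_mono le_rfl inf_le_right h2
    obtain ⟨a, ha, hae⟩ := Submodule.mem_smul_span_singleton.mp h1
    exact ⟨s - a, fun hmem => hs (by simpa using q.add_mem hmem ha), by rw [sub_smul, hae, sub_self]⟩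
  choose s hs hs0 using key
  refine ⟨∏ l ∈ (e z).support, s l, fun hmem => ?_, e.injective ?_⟩
  · obtain ⟨l, -, hl⟩ := (Ideal.IsPrime.prod_mem_iff).mp hmem
    exact hs l hl
  rw [map_smul, map_zero]
  ext l
  rw [Finsupp.smul_apply, Finsupp.zero_apply]
  by_cases hl : l ∈ (e z).support
  · rw [← Finset.prod_erase_mul _ _ hl, mul_smul, hs0, smul_zero]
  · rw [Finsupp.notMem_support_iff.mp hl, smul_zero]

/-- An element of `(R ⊗ K) ⊗ M` killed by an element regular on `κ(q)` is in all powers of `q`. -/
theorem exists_smul_mem_pow_of_killed [IsLocalRing A] {M : Type u} [AddCommGroup M] [Module R M]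
    (K : Type u) [Field K] [Algebra A K]
    (hK : ∀ a ∈ IsLocalRing.maximalIdeal A, algebraMap A K a = 0) (q : Ideal R) [q.IsPrime]
    (t : R ⊗[A] K) (hreg : ∀ v : (R ⊗[A] K) ⊗[R] q.ResidueField, t • v = 0 → v = 0)
    (z : (R ⊗[A] K) ⊗[R] M) (hz : t • z = 0) (j : ℕ) :
    ∃ s : R, s ∉ q ∧ s • z ∈ q ^ j • (⊤ : Submodule R ((R ⊗[A] K) ⊗[R] M)) := by
  let I := (IsLocalRing.maximalIdeal A).map (algebraMap A R)
  let M' := M ⧸ (I • ⊤ : Submodule R M)
  let π := (I • ⊤ : Submodule R M).mkQ
  have hI : ∀ a ∈ I, ∀ u : R ⊗[A] K, a • u = 0 := by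
    intro a ha u
    refine (show I ≤ (LinearMap.toSpanSingleton R _ u).ker from Ideal.map_le_iff_le_comap.2 fun b hb => ?_) ha
    show algebraMap A R b • u = 0
    rw [algebraMap_smul]
    induction u using TensorProduct.induction_on with
    | zero => simp
    | tmul r c => rw [← tmul_smul, Algebra.smul_def, hK b hb, zero_mul, tmul_zero]
    | add a b ha hb => rw [smul_add, ha, hb, add_zero]
  have hbij : Function.Bijective (π.baseChange (R ⊗[A] K)) := by
    refine ⟨(injective_iff_map_eq_zero _).2 fun x hx => ?_, LinearMap.lTensor_surjective _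
      (Submodule.mkQ_surjective _)⟩
    obtain ⟨w, rfl⟩ := (lTensor_exact _ (LinearMap.exact_subtype_mkQ (I • ⊤ : Submodule R M))
      (Submodule.mkQ_surjective _) _).1 hx
    clear hx
    induction w using TensorProduct.induction_on with
    | zero => simp
    | add a b ha hb => rw [map_add, ha, hb, add_zero]
    | tmul u m =>
      obtain ⟨m, hm⟩ := m
      show u ⊗ₜ[R] m = 0
      refine Submodule.smul_induction_on hm (fun a ha y _ => ?_) fun a b ha hb => by rw [tmul_add, ha, hb, add_zero]
      rw [← smul_tmul, hI a ha, zero_tmul]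
  obtain ⟨s, hs, hsz⟩ := exists_smul_mem_pow_of_regular I
    (fun L N _ _ _ _ f hf hN => injective_baseChange_of_killed K f hf hN) q t hreg (M := M')
    (fun a ha x => by
      obtain ⟨x, rfl⟩ := Submodule.Quotient.mk_surjective _ x
      exact (Submodule.Quotient.mk_eq_zero _).2 (Submodule.smul_mem_smul ha trivial))
    (π.baseChange (R ⊗[A] K) z) (by rw [← map_smul, hz, map_zero]) j
  refine ⟨s, hs, ?_⟩
  have hmap : q ^ j • (⊤ : Submodule R ((R ⊗[A] K) ⊗[R] M')) =
      (q ^ j • (⊤ : Submodule R ((R ⊗[A] K) ⊗[R] M))).map ((π.baseChange (R ⊗[A] K)).restrictScalars R) := by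
    rw [Submodule.map_smul'', Submodule.map_top, LinearMap.range_eq_top.2 (by exact hbij.2)]
  rw [hmap] at hsz
  obtain ⟨w, hw, hwz⟩ := hsz
  have : w = s • z := hbij.1 (by rw [LinearMap.map_smul_of_tower]; exact hwz)
  rwa [← this]

set_option maxHeartbeats 1000000 in
/-- Flatness at a prime with primary residue extension from one prime over it for each local algebra. -/
theorem flat_localizedModule_of_exists_family {M : Type u} [IsLocalRing A] [IsArtinianRing A]
    [IsNoetherianRing R] [AddCommGroup M] [Module A M] [Module R M] [IsScalarTower A R M] [Module.Finite R M]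
    (q : Ideal R) [q.IsPrime] [Algebra (IsLocalRing.ResidueField A) q.ResidueField]
    [IsScalarTower A (IsLocalRing.ResidueField A) q.ResidueField]
    (hprim : separableClosure (IsLocalRing.ResidueField A) q.ResidueField = ⊥)
    {ι : Type u} (C : ι → Type u) [∀ i, CommRing (C i)] [∀ i, IsLocalRing (C i)] [∀ i, Algebra A (C i)]
    (hC : ∀ a : A, (∀ i, algebraMap A (C i) a = 0) → a = 0)
    (h : ∀ i : ι, ∃ (Q : Ideal (R ⊗[A] C i)) (_ : Q.IsPrime),
      Q.comap (algebraMap R (R ⊗[A] C i)) = q ∧
      Q.comap (algebraMap (C i) (R ⊗[A] C i)) = IsLocalRing.maximalIdeal (C i) ∧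
      Module.Flat (C i) (LocalizedModule Q.primeCompl (BC A R M (C i)))) :
    Module.Flat A (LocalizedModule q.primeCompl M) := by
  classical
  refine flat_of_family _ C hC fun i => ?_
  obtain ⟨Q, _, hQR, hQC, hQflat⟩ := h i
  let T := R ⊗[A] C i
  let K := IsLocalRing.ResidueField (C i)
  let G := LocalizedModule Q.primeCompl (BC A R M (C i))
  let f : M →ₗ[R] G :=
    ((LocalizedModule.mkLinearMap Q.primeCompl (BC A R M (C i))).restrictScalars R).comp
      (TensorProduct.mk R T M 1)
  have hunit : ∀ s : q.primeCompl, IsUnit (algebraMap R (Module.End R G) s) := by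
    intro s
    rw [Module.End.isUnit_iff]
    have hs : algebraMap R T s.1 ∈ Q.primeCompl := fun hmem => s.2 (hQR.le hmem)
    have := (Module.End.isUnit_iff _).1
      (IsLocalizedModule.map_units (LocalizedModule.mkLinearMap Q.primeCompl (BC A R M (C i))) ⟨_, hs⟩)
    convert this using 1
    ext n
    rw [Module.algebraMap_end_apply, Module.algebraMap_end_apply, algebraMap_smul]
  let g : LocalizedModule q.primeCompl M →ₗ[R] G :=
    IsLocalizedModule.lift q.primeCompl (LocalizedModule.mkLinearMap q.primeCompl M) f hunit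
  refine ⟨PUnit, fun _ => G, inferInstance, inferInstance, fun _ => hQflat,
    fun _ => (g.restrictScalars A).liftBaseChange (C i), fun z hz => ?_⟩
  let E := AlgebraTensorModule.cancelBaseChange A (C i) K K (LocalizedModule q.primeCompl M)
  let D : LocalizedModule q.primeCompl M ⊗[A] K →+ K ⊗[C i] (C i ⊗[A] LocalizedModule q.primeCompl M) :=
    E.symm.toLinearMap.toAddMonoidHom.comp (TensorProduct.comm A _ _).toLinearMap.toAddMonoidHom
  let Ψ : LocalizedModule q.primeCompl M ⊗[A] K →+ G ⊗[C i] K :=
    ((TensorProduct.comm (C i) K G).toLinearMap.toAddMonoidHom.comp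
      (((g.restrictScalars A).liftBaseChange (C i)).baseChange K).toAddMonoidHom).comp D
  have hΨ : ∀ (n : LocalizedModule q.primeCompl M) (x : K), Ψ (n ⊗ₜ x) = g n ⊗ₜ x := by
    intro n x
    simp [Ψ, D, E]
  have hΨs : ∀ (s : R) (y : LocalizedModule q.primeCompl M ⊗[A] K),
      Ψ (s • y) = algebraMap R T s • Ψ y := by
    intro s y
    induction y with
    | zero => simp
    | tmul n x =>
      rw [TensorProduct.smul_tmul', hΨ, hΨ, map_smul, TensorProduct.smul_tmul', algebraMap_smul]
    | add x y hx hy => rw [smul_add, map_add, hx, hy, map_add, smul_add]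
  let zz := TensorProduct.comm A K _ (E z)
  have hzz : D zz = z := by simp [D, zz]
  obtain ⟨⟨z₀, s⟩, hs⟩ := IsLocalizedModule.surj q.primeCompl (locT q.primeCompl M K) zz
  have hloc : ∀ x : M ⊗[A] K,
      Ψ (locT q.primeCompl M K x) = locT Q.primeCompl (BC A R M (C i)) K (psi (B₀ := R) (C i) K x) := by
    intro x
    induction x with
    | zero => simp
    | tmul m a =>
      rw [psi_tmul, AlgebraTensorModule.rTensor_tmul, AlgebraTensorModule.rTensor_tmul, hΨ]
      simp only [g, IsLocalizedModule.lift_apply]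
      rfl
    | add x y hx hy => simp only [map_add, hx, hy]
  have hzero : Ψ zz = 0 := by
    show TensorProduct.comm (C i) K G _ = 0
    rw [show (((g.restrictScalars A).liftBaseChange (C i)).baseChange K).toAddMonoidHom (D zz) =
        ((g.restrictScalars A).liftBaseChange (C i)).baseChange K z by rw [hzz]; rfl, hz PUnit.unit, map_zero]
  obtain ⟨⟨t, htQ⟩, htw⟩ := (IsLocalizedModule.eq_zero_iff Q.primeCompl _).1
    (show locT Q.primeCompl (BC A R M (C i)) K (psi (B₀ := R) (M₀ := M) (C i) K z₀) = 0 by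
      rw [← hloc, ← hs, Submonoid.smul_def, hΨs, hzero, smul_zero])
  let ιK : C i →ₐ[A] K := IsScalarTower.toAlgHom A (C i) K
  have hψ0 := psi_map_smul (M₀ := M) ιK (LinearMap.id : K →ₗ[A] K)
    (fun c x => by rw [LinearMap.id_apply, LinearMap.id_apply, Algebra.smul_def c x]; rfl) t z₀ 0
    (by rw [map_zero]; exact htw.symm)
  rw [map_zero, map_zero, LinearMap.lTensor_id, LinearMap.id_apply] at hψ0
  let w := AlgebraTensorModule.rid K (R ⊗[A] K) (BC A R M K) (psi (B₀ := R) (M₀ := M) K K z₀)
  have hw : mapBC R ιK t • w = 0 := by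
    show mapBC R ιK t • AlgebraTensorModule.rid K (R ⊗[A] K) (BC A R M K) _ = 0
    rw [← map_smul, ← hψ0, map_zero]
  have hnilC : ∀ a ∈ IsLocalRing.maximalIdeal A, algebraMap A K a = 0 := fun a ha =>
    ((Ring.KrullDimLE.isNilpotent_iff_mem_maximalIdeal.mpr ha).map (algebraMap A K)).eq_zero
  letI : Algebra (IsLocalRing.ResidueField A) K :=
    (Ideal.Quotient.lift (IsLocalRing.maximalIdeal A) (algebraMap A K) hnilC).toAlgebra
  haveI : IsScalarTower A (IsLocalRing.ResidueField A) K := IsScalarTower.of_algebraMap_eq fun _ => rfl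
  let F := FractionRing (T ⧸ Q)
  let θT : T →ₐ[A] F := (Algebra.ofId (T ⧸ Q) F |>.restrictScalars A).comp (Ideal.Quotient.mkₐ A Q)
  have hθT : ∀ x : T, θT x = 0 ↔ x ∈ Q := fun x => by
    show algebraMap (T ⧸ Q) F (Ideal.Quotient.mk Q x) = 0 ↔ _
    rw [IsFractionRing.to_map_eq_zero_iff, Ideal.Quotient.eq_zero_iff_mem]
  let θC : C i →ₐ[A] F := θT.comp (IsScalarTower.toAlgHom A (C i) T)
  let θK : K →ₐ[A] F := Ideal.Quotient.liftₐ (IsLocalRing.maximalIdeal (C i)) θC
    fun c hc => (hθT _).2 (hQC.ge hc)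
  let θ : R ⊗[A] K →ₐ[A] F := Algebra.TensorProduct.lift (θT.comp (IsScalarTower.toAlgHom A R T)) θK
    fun _ _ => Commute.all _ _
  have hθ : ∀ r : R, θ (r ⊗ₜ 1) = 0 ↔ r ∈ q := fun r => by
    rw [Algebra.TensorProduct.lift_tmul, map_one, mul_one, ← hQR]
    exact hθT _
  have hθmap : ∀ x : T, θ (mapBC R ιK x) = θT x := fun x => by
    induction x using TensorProduct.induction_on with
    | zero => simp
    | tmul r c =>
      rw [mapBC_tmul, Algebra.TensorProduct.lift_tmul]
      show θT (algebraMap R T r) * θT (algebraMap (C i) T c) = _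
      rw [← map_mul]
      congr 1
      show (r ⊗ₜ[A] (1 : C i)) * ((1 : R) ⊗ₜ[A] c) = _
      rw [Algebra.TensorProduct.tmul_mul_tmul, mul_one, one_mul]
    | add a b ha hb => simp only [map_add, ha, hb]
  have hreg := eq_zero_of_smul_residueField K q hprim (mapBC R ιK t) θ.toRingHom hθ
    (fun h0 => htQ ((hθT t).1 (by rw [← hθmap]; exact h0)))
  have hK : Module.IsTorsionBySet A K (IsLocalRing.maximalIdeal A : Set A) := fun x a => by
    show a.1 • x = 0
    rw [Algebra.smul_def, hnilC a.1 a.2, zero_mul]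
  obtain ⟨s', hs', hz₀⟩ := exists_smul_eq_zero_of_forall_exists hK q z₀ fun j => by
    obtain ⟨s', hs', hmem⟩ := exists_smul_mem_pow_of_killed K hnilC q _ hreg w hw j
    refine ⟨s', hs', ?_⟩
    let Φ : M ⊗[A] K →ₗ[R] BC A R M K :=
      { toFun := fun y => AlgebraTensorModule.rid K (R ⊗[A] K) (BC A R M K) (psi (B₀ := R) (M₀ := M) K K y)
        map_add' := fun a b => by rw [map_add, map_add]
        map_smul' := fun r y => by
          rw [psi_smul, map_smul, RingHom.id_apply]
          exact algebraMap_smul (R ⊗[A] K) r _ }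
    have hΦ : Function.Bijective Φ :=
      (AlgebraTensorModule.rid K (R ⊗[A] K) (BC A R M K)).bijective.comp
        (psi (B₀ := R) (M₀ := M) K K).bijective
    have hmap : q ^ j • (⊤ : Submodule R (BC A R M K)) = (q ^ j • (⊤ : Submodule R (M ⊗[A] K))).map Φ := by
      rw [Submodule.map_smul'', Submodule.map_top, LinearMap.range_eq_top.2 hΦ.2]
    rw [hmap] at hmem
    obtain ⟨y, hy, hyz⟩ := hmem
    have : y = s' • z₀ := hΦ.1 (by rw [hyz, map_smul]; rfl)
    rwa [← this]
  have : zz = 0 := by
    apply IsLocalizedModule.smul_injective (locT q.primeCompl M K) s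
    apply IsLocalizedModule.smul_injective (locT q.primeCompl M K) (⟨s', hs'⟩ : q.primeCompl)
    simp only [smul_zero]
    rw [hs, Submonoid.smul_def, ← map_smul, hz₀, map_zero]
  rw [← hzz, this, map_zero]

end Groth.Agent.H06EGA11c
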