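import Groth.Agent.H06EGA11c.Adic
import Groth.Agent.H06EGA11c.PrimaryDetect

/-!
Flatness at a prime with primary residue extension from local algebras defining the topology below
(EGA IV 11.5.5).
-/

set_option autoImplicit false
set_option linter.style.haveILetI false
set_option backward.isDefEq.respectTransparency false

universe u

open TensorProduct

namespace Groth.Agent.H06EGA11c

open H06EGA11

attribute [local instance] Algebra.TensorProduct.rightAlgebra

variable {R₀ R M : Type u} [CommRing R₀] [CommRing R] [Algebra R₀ R] [AddCommGroup M] [Module R₀ M]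
  [Module R M] [IsScalarTower R₀ R M]

/-- There is only one prime of `R ⊗ A` over `q`, `A` a quotient of a local ring of the base. -/
theorem mem_iff_of_comap_eq (q : Ideal R) [q.IsPrime] (p : Ideal R₀) [p.IsPrime]
    (hp : q.comap (algebraMap R₀ R) = p) {A : Type u} [CommRing A] [Algebra R₀ A]
    (π : Localization.AtPrime p →ₐ[R₀] A) (hπ : Function.Surjective π) (q' : Ideal (R ⊗[R₀] A)) [q'.IsPrime]
    (hq' : q'.comap (algebraMap R (R ⊗[R₀] A)) = q) (t : R ⊗[R₀] A) {s : R₀} (hs : s ∉ p) {r : R}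
    (h : s • t = r ⊗ₜ 1) : t ∈ q' ↔ r ∈ q := by
  have hs' : algebraMap R₀ (R ⊗[R₀] A) s ∉ q' := fun hmem => hs (by
    rw [IsScalarTower.algebraMap_apply R₀ R (R ⊗[R₀] A)] at hmem
    exact hp.le (show algebraMap R₀ R s ∈ q from hq'.le hmem))
  rw [← hq', Ideal.mem_comap, show algebraMap R (R ⊗[R₀] A) r = r ⊗ₜ 1 from rfl, ← h, Algebra.smul_def]
  exact ⟨fun ht => q'.mul_mem_left _ ht, fun ht => ((inferInstance : q'.IsPrime).mem_or_mem ht).resolve_left hs'⟩

/-- The primary residue extension passes to the prime of `R ⊗ A` over `q`. -/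
theorem separableClosure_eq_bot_of_bc (q : Ideal R) [q.IsPrime] (p : Ideal R₀) [p.IsPrime]
    [Algebra p.ResidueField q.ResidueField] [IsScalarTower R₀ p.ResidueField q.ResidueField]
    {A : Type u} [CommRing A] [IsLocalRing A] [Algebra R₀ A]
    (π : Localization.AtPrime p →ₐ[R₀] A) (hπ : Function.Surjective π) (q' : Ideal (R ⊗[R₀] A)) [q'.IsPrime]
    (hq' : q'.comap (algebraMap R (R ⊗[R₀] A)) = q)
    (hprim : separableClosure p.ResidueField q.ResidueField = ⊥)
    [Algebra (IsLocalRing.ResidueField A) q'.ResidueField]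
    [IsScalarTower A (IsLocalRing.ResidueField A) q'.ResidueField] :
    separableClosure (IsLocalRing.ResidueField A) q'.ResidueField = ⊥ := by
  let e : q.ResidueField →+* q'.ResidueField := Ideal.ResidueField.map q q' (algebraMap R (R ⊗[R₀] A)) hq'.symm
  have heR : ∀ r : R, e (algebraMap R q.ResidueField r) = algebraMap (R ⊗[R₀] A) q'.ResidueField (r ⊗ₜ 1) :=
    fun r => Ideal.ResidueField.map_algebraMap _ _ _ _ _
  haveI : IsScalarTower R₀ A q'.ResidueField := IsScalarTower.of_algebraMap_eq fun a => by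
    rw [IsScalarTower.algebraMap_apply A (R ⊗[R₀] A) q'.ResidueField, ← IsScalarTower.algebraMap_apply R₀ A,
      ← IsScalarTower.algebraMap_apply R₀ (R ⊗[R₀] A) q'.ResidueField]
  have he₀ : ∀ a : R₀, e (algebraMap R₀ q.ResidueField a) = algebraMap R₀ q'.ResidueField a := fun a => by
    rw [IsScalarTower.algebraMap_apply R₀ R q.ResidueField, heR,
      IsScalarTower.algebraMap_apply R₀ (R ⊗[R₀] A) q'.ResidueField]
    rfl
  let ρ : p.ResidueField →+* IsLocalRing.ResidueField A := Ideal.Quotient.lift _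
    ((IsLocalRing.residue A).comp π.toRingHom) fun o ho => (IsLocalRing.residue_eq_zero_iff _).2 fun hu => by
      have hm : (IsLocalRing.maximalIdeal A).comap π.toRingHom = IsLocalRing.maximalIdeal (Localization.AtPrime p) :=
        IsLocalRing.eq_maximalIdeal (Ideal.comap_isMaximal_of_surjective π.toRingHom hπ)
      exact (IsLocalRing.mem_maximalIdeal _).1 (hm.ge ho) hu
  have hρ₀ : ∀ a : R₀, ρ (algebraMap R₀ p.ResidueField a) = IsLocalRing.residue A (algebraMap R₀ A a) := fun a =>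
    congrArg (IsLocalRing.residue A) (π.commutes a)
  have hcomm : ∀ c : p.ResidueField,
      e (algebraMap p.ResidueField q.ResidueField c) = algebraMap (IsLocalRing.ResidueField A) q'.ResidueField (ρ c) := by
    intro c
    refine RingHom.congr_fun (Ideal.ResidueField.ringHom_ext
      (f := e.comp (algebraMap p.ResidueField q.ResidueField))
      (g := (algebraMap (IsLocalRing.ResidueField A) q'.ResidueField).comp ρ) (RingHom.ext fun a => ?_)) c
    simp only [RingHom.comp_apply]
    rw [← IsScalarTower.algebraMap_apply, he₀, hρ₀, ← IsLocalRing.ResidueField.algebraMap_eq,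
      ← IsScalarTower.algebraMap_apply A, ← IsScalarTower.algebraMap_apply]
  have hρsurj : Function.Surjective ρ := fun c => by
    obtain ⟨a, rfl⟩ := IsLocalRing.residue_surjective c
    obtain ⟨o, rfl⟩ := hπ a
    exact ⟨IsLocalRing.residue _ o, rfl⟩
  have hesurj : Function.Surjective e := fun c => by
    obtain ⟨c, rfl⟩ := IsLocalRing.residue_surjective c
    obtain ⟨t, ⟨u, hu⟩, rfl⟩ := IsLocalization.exists_mk'_eq q'.primeCompl c
    obtain ⟨s, hs, r, hr⟩ := exists_smul_eq_tmul_one R p π hπ t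
    obtain ⟨s', hs', r', hr'⟩ := exists_smul_eq_tmul_one R p π hπ u
    let φ := algebraMap (R ⊗[R₀] A) q'.ResidueField
    refine ⟨algebraMap R q.ResidueField (s' • r) / algebraMap R q.ResidueField (s • r'), ?_⟩
    have hu0 : φ u ≠ 0 := fun h => hu (Ideal.algebraMap_residueField_eq_zero.1 h)
    have hunit : ∀ a : R₀, a ∉ p → IsUnit (algebraMap R₀ A a) := fun a ha => by
      rw [← π.commutes]
      exact (IsLocalization.map_units (Localization.AtPrime p) (⟨a, ha⟩ : p.primeCompl)).map π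
    have hss : ∀ a : R₀, a ∉ p → algebraMap R₀ q'.ResidueField a ≠ 0 := fun a ha => by
      rw [IsScalarTower.algebraMap_apply R₀ A q'.ResidueField]
      exact ((hunit a ha).map _).ne_zero
    rw [map_div₀, heR, heR, ← smul_tmul', ← smul_tmul', ← hr, ← hr', div_eq_iff]
    · show φ (s' • s • t) = IsLocalRing.residue _ (IsLocalization.mk' _ t ⟨u, hu⟩) * φ (s • s' • u)
      rw [smul_comm s' s t, smul_smul, smul_smul, Algebra.smul_def, Algebra.smul_def, map_mul φ,
        map_mul φ, mul_left_comm]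
      congr 1
      show IsLocalRing.residue _ (algebraMap (R ⊗[R₀] A) _ t) = _ * IsLocalRing.residue _ (algebraMap (R ⊗[R₀] A) _ u)
      rw [← map_mul, IsLocalization.mk'_spec_mk]
    · show φ (s • s' • u) ≠ 0
      rw [smul_smul, Algebra.smul_def, map_mul φ, ← IsScalarTower.algebraMap_apply, map_mul]
      exact mul_ne_zero (mul_ne_zero (hss s hs) (hss s' hs')) hu0
  refine le_bot_iff.1 fun a ha => IntermediateField.mem_bot.2 ?_
  obtain ⟨b, rfl⟩ := hesurj a
  have h0 : IsSeparable (IsLocalRing.ResidueField A) (e b) := mem_separableClosure_iff.1 ha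
  let E : p.ResidueField ≃+* IsLocalRing.ResidueField A := RingEquiv.ofBijective ρ ⟨ρ.injective, hρsurj⟩
  have hb : IsSeparable p.ResidueField b := by
    refine (Polynomial.Separable.map (f := E.symm.toRingHom)
      (h0 : (minpoly (IsLocalRing.ResidueField A) (e b)).Separable)).of_dvd (minpoly.dvd _ _ ?_)
    apply e.injective
    rw [map_zero, Polynomial.aeval_def, Polynomial.hom_eval₂, Polynomial.eval₂_map]
    have : (e.comp (algebraMap p.ResidueField q.ResidueField)).comp E.symm.toRingHom =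
        algebraMap (IsLocalRing.ResidueField A) q'.ResidueField := RingHom.ext fun c => by
      rw [RingHom.comp_apply, RingHom.comp_apply, hcomm]
      exact congrArg _ (E.apply_symm_apply c)
    rw [this, ← Polynomial.aeval_def, minpoly.aeval]
  obtain ⟨c, hc⟩ := IntermediateField.mem_bot.1 (hprim.le (mem_separableClosure_iff.2 hb))
  exact ⟨ρ c, by rw [← hcomm, hc]⟩

/-- A prime of `R ⊗ C` over `q` and the maximal ideal lifts to `(R ⊗ A) ⊗[A] D`, with flatness. -/
theorem exists_prime_trans (q : Ideal R) [q.IsPrime] (p : Ideal R₀) [p.IsPrime]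
    (hp : q.comap (algebraMap R₀ R) = p)
    {A : Type u} [CommRing A] [IsLocalRing A] [Algebra R₀ A]
    (π : Localization.AtPrime p →ₐ[R₀] A) (hπ : Function.Surjective π) (q' : Ideal (R ⊗[R₀] A)) [q'.IsPrime]
    (hq' : q'.comap (algebraMap R (R ⊗[R₀] A)) = q)
    {C D : Type u} [CommRing C] [IsLocalRing C] [Algebra R₀ C] [CommRing D] [IsLocalRing D] [Algebra R₀ D]
    [Algebra A D] [IsScalarTower R₀ A D] (ι' : C →ₐ[R₀] D) (hι : Function.Surjective ι')
    (hker : ∀ c, ι' c = 0 → c ∈ IsLocalRing.maximalIdeal C)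
    (Q : Ideal (R ⊗[R₀] C)) [Q.IsPrime] (hQR : Q.comap (algebraMap R (R ⊗[R₀] C)) = q)
    (hQC : Q.comap (algebraMap C (R ⊗[R₀] C)) = IsLocalRing.maximalIdeal C)
    (hflat : Module.Flat C (LocalizedModule Q.primeCompl (BC R₀ R M C))) :
    ∃ (Q' : Ideal ((R ⊗[R₀] A) ⊗[A] D)) (_ : Q'.IsPrime),
      Q'.comap (algebraMap (R ⊗[R₀] A) ((R ⊗[R₀] A) ⊗[A] D)) = q' ∧
      Q'.comap (algebraMap D ((R ⊗[R₀] A) ⊗[A] D)) = IsLocalRing.maximalIdeal D ∧
      Module.Flat D (LocalizedModule Q'.primeCompl (BC A (R ⊗[R₀] A) (BC R₀ R M A) D)) := by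
  let T := R ⊗[R₀] C
  let F := FractionRing (T ⧸ Q)
  let θT : T →ₐ[R₀] F := (Algebra.ofId (T ⧸ Q) F |>.restrictScalars R₀).comp (Ideal.Quotient.mkₐ R₀ Q)
  have hθT : ∀ x : T, θT x = 0 ↔ x ∈ Q := fun x => by
    show algebraMap (T ⧸ Q) F (Ideal.Quotient.mk Q x) = 0 ↔ _
    rw [IsFractionRing.to_map_eq_zero_iff, Ideal.Quotient.eq_zero_iff_mem]
  let θR : R →ₐ[R₀] F := θT.comp (IsScalarTower.toAlgHom R₀ R T)
  let θC : C →ₐ[R₀] F := θT.comp (IsScalarTower.toAlgHom R₀ C T)
  let θD : D →ₐ[R₀] F := AlgHom.liftOfSurjective ι' hι θC fun c hc => (hθT _).2 (hQC.ge (hker c hc))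
  have hθD : ∀ c, θD (ι' c) = θC c := fun c => AlgHom.liftOfSurjective_apply _ _ _ _ c
  letI : Algebra A F := (θD.toRingHom.comp (algebraMap A D)).toAlgebra
  haveI : IsScalarTower R₀ A F := IsScalarTower.of_algebraMap_eq fun a => by
    show _ = θD (algebraMap A D (algebraMap R₀ A a))
    rw [← IsScalarTower.algebraMap_apply, AlgHom.commutes]
  let θN : R ⊗[R₀] A →ₐ[R₀] F := Algebra.TensorProduct.lift θR (IsScalarTower.toAlgHom R₀ A F)
    fun _ _ => Commute.all _ _
  let θN' : R ⊗[R₀] A →ₐ[A] F :=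
    { θN with
      commutes' := fun a => by
        show θN ((1 : R) ⊗ₜ a) = algebraMap A F a
        rw [Algebra.TensorProduct.lift_tmul, map_one, one_mul]
        rfl }
  let θD' : D →ₐ[A] F := { θD with commutes' := fun a => rfl }
  let θ : (R ⊗[R₀] A) ⊗[A] D →ₐ[A] F := Algebra.TensorProduct.lift θN' θD' fun _ _ => Commute.all _ _
  let Q' : Ideal ((R ⊗[R₀] A) ⊗[A] D) := RingHom.ker θ.toRingHom
  haveI : Q'.IsPrime := RingHom.ker_isPrime _
  have hR : ∀ r : R, θ (algebraMap (R ⊗[R₀] A) _ (r ⊗ₜ 1)) = θR r := fun r => by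
    show θ ((r ⊗ₜ[R₀] (1 : A)) ⊗ₜ[A] (1 : D)) = θR r
    rw [Algebra.TensorProduct.lift_tmul, map_one, mul_one]
    show θN (r ⊗ₜ 1) = _
    rw [Algebra.TensorProduct.lift_tmul, map_one, mul_one]
  have hcomp : ∀ x : T, θ (transHom R₀ R A D (mapBC R ι' x)) = θT x := fun x => by
    induction x using TensorProduct.induction_on with
    | zero => simp
    | tmul r c =>
      rw [mapBC_tmul, transHom_tmul, Algebra.TensorProduct.lift_tmul]
      show θN (r ⊗ₜ 1) * θD (ι' c) = _
      rw [Algebra.TensorProduct.lift_tmul, map_one, mul_one, hθD]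
      show θT (algebraMap R T r) * θT (algebraMap C T c) = _
      rw [← map_mul]
      congr 1
      show (r ⊗ₜ[R₀] (1 : C)) * ((1 : R) ⊗ₜ[R₀] c) = _
      rw [Algebra.TensorProduct.tmul_mul_tmul, mul_one, one_mul]
    | add a b ha hb => simp only [map_add, ha, hb]
  have hθN : ∀ t : R ⊗[R₀] A, θ (algebraMap (R ⊗[R₀] A) _ t) = θN t := fun t => by
    show θ (t ⊗ₜ[A] (1 : D)) = _
    rw [Algebra.TensorProduct.lift_tmul, map_one, mul_one]
    rfl
  refine ⟨Q', inferInstance, ?_, ?_, ?_⟩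
  · ext t
    obtain ⟨s, hs, r, hr⟩ := exists_smul_eq_tmul_one R p π hπ t
    rw [mem_iff_of_comap_eq q p hp π hπ q' hq' t hs hr, Ideal.mem_comap]
    show θ _ = 0 ↔ _
    rw [hθN]
    have h1 : algebraMap R₀ F s * θN t = θR r := by
      rw [← Algebra.smul_def, ← map_smul, hr, Algebra.TensorProduct.lift_tmul, map_one, mul_one]
    have hs0 : algebraMap R₀ F s ≠ 0 := fun h0 => hs (by
      rw [← hp, ← hQR]
      show algebraMap R T (algebraMap R₀ R s) ∈ Q
      rw [← IsScalarTower.algebraMap_apply]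
      exact (hθT _).1 (by rw [AlgHom.commutes]; exact h0))
    rw [← hQR]
    show _ ↔ algebraMap R T r ∈ Q
    rw [← hθT]
    show _ ↔ θR r = 0
    rw [← h1, mul_eq_zero]
    simp [hs0]
  · ext d
    obtain ⟨c, rfl⟩ := hι d
    have hmax : (IsLocalRing.maximalIdeal D).comap ι'.toRingHom = IsLocalRing.maximalIdeal C :=
      IsLocalRing.eq_maximalIdeal (Ideal.comap_isMaximal_of_surjective ι'.toRingHom hι)
    show θ ((1 : R ⊗[R₀] A) ⊗ₜ[A] ι' c) = 0 ↔ _
    rw [Algebra.TensorProduct.lift_tmul, map_one, one_mul]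
    show θD (ι' c) = 0 ↔ _
    rw [hθD, show ι' c ∈ IsLocalRing.maximalIdeal D ↔ c ∈ IsLocalRing.maximalIdeal C from SetLike.ext_iff.1 hmax c,
      ← hQC]
    exact hθT _
  · have hcomap : (Q'.comap (transHom R₀ R A D).toRingHom).comap (mapBC R ι').toRingHom = Q := by
      ext x
      show θ (transHom R₀ R A D (mapBC R ι' x)) = 0 ↔ _
      rw [hcomp]
      exact hθT x
    have key : ∀ (P : Ideal T) [P.IsPrime], P = Q → Module.Flat C (LocalizedModule P.primeCompl (BC R₀ R M C)) := by
      intro P _ hP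
      subst hP
      exact hflat
    haveI := key _ hcomap
    haveI := flat_localizedModule_baseChange (M₀ := M) ι' (Q'.comap (transHom R₀ R A D).toRingHom)
    exact flat_localizedModule_trans Q'

set_option maxHeartbeats 1000000 in
/-- Flatness at a prime with primary residue extension from one prime per local algebra. -/
theorem flat_localizedModule_of_exists_adic_family [IsNoetherianRing R₀] [IsNoetherianRing R] [Module.Finite R M]
    (q : Ideal R) [q.IsPrime] (p : Ideal R₀) [p.IsPrime] (hp : q.comap (algebraMap R₀ R) = p)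
    [Algebra p.ResidueField q.ResidueField] [IsScalarTower R₀ p.ResidueField q.ResidueField]
    (hprim : separableClosure p.ResidueField q.ResidueField = ⊥)
    {ι : Type u} (C : ι → Type u) [∀ i, CommRing (C i)] [∀ i, IsLocalRing (C i)] [∀ i, Algebra R₀ (C i)]
    (hmax : ∀ i, (IsLocalRing.maximalIdeal (C i)).comap (algebraMap R₀ (C i)) = p)
    (htop : ∀ N : ℕ, ∃ s : Finset (ι × ℕ), ∀ a : R₀,
      (∀ pr ∈ s, algebraMap R₀ (C pr.1) a ∈ IsLocalRing.maximalIdeal (C pr.1) ^ pr.2) →
      algebraMap R₀ (Localization.AtPrime p) a ∈ IsLocalRing.maximalIdeal (Localization.AtPrime p) ^ N)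
    (h : ∀ i : ι, ∃ (Q : Ideal (R ⊗[R₀] C i)) (_ : Q.IsPrime),
      Q.comap (algebraMap R (R ⊗[R₀] C i)) = q ∧
      Q.comap (algebraMap (C i) (R ⊗[R₀] C i)) = IsLocalRing.maximalIdeal (C i) ∧
      Module.Flat (C i) (LocalizedModule Q.primeCompl (BC R₀ R M (C i)))) :
    Module.Flat R₀ (LocalizedModule q.primeCompl M) := by
  classical
  refine flat_localizedModule_of_killed q fun n Q _ _ hQ P x hx => ?_
  obtain ⟨s, hs⟩ := htop (n + 1)
  let O := Localization.AtPrime p
  let σt := {pr : ι × ℕ // pr ∈ s ∧ pr.2 ≠ 0}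
  let D : σt → Type u := fun j => C j.1.1 ⧸ IsLocalRing.maximalIdeal (C j.1.1) ^ j.1.2
  haveI : ∀ j : σt, IsLocalRing (D j) := fun j => by
    haveI : Nontrivial (D j) := Ideal.Quotient.nontrivial_iff.2 fun h =>
      (IsLocalRing.maximalIdeal.isMaximal (C j.1.1)).ne_top (top_le_iff.1 (h ▸ Ideal.pow_le_self j.2.2))
    exact IsLocalRing.of_surjective' (Ideal.Quotient.mk _) Ideal.Quotient.mk_surjective
  have hu : ∀ (j : σt) (y : p.primeCompl), IsUnit (Algebra.ofId R₀ (D j) y) := fun j y => by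
    have h1 : IsUnit (algebraMap R₀ (C j.1.1) y) := by
      by_contra hc
      exact y.2 ((hmax j.1.1).le hc)
    exact h1.map (Ideal.Quotient.mk _)
  let φ : ∀ j, O →ₐ[R₀] D j := fun j => IsLocalization.liftAlgHom (hu j)
  let J : Ideal O := ⨅ j, RingHom.ker (φ j).toRingHom
  have hJ : J ≤ IsLocalRing.maximalIdeal O ^ (n + 1) := by
    intro a ha
    obtain ⟨r, t, rfl⟩ := IsLocalization.exists_mk'_eq p.primeCompl a
    have h1 : algebraMap R₀ O r ∈ J := by
      rw [← IsLocalization.mk'_spec O r t]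
      exact J.mul_mem_right _ ha
    have h2 : algebraMap R₀ O r ∈ IsLocalRing.maximalIdeal O ^ (n + 1) := by
      refine hs r fun pr hpr => ?_
      by_cases h0 : pr.2 = 0
      · simp [h0]
      · have := (Submodule.mem_iInf _).1 h1 ⟨pr, hpr, h0⟩
        rw [RingHom.mem_ker, AlgHom.toRingHom_eq_coe, RingHom.coe_coe, AlgHom.commutes] at this
        exact Ideal.Quotient.eq_zero_iff_mem.1 this
    rw [IsLocalization.mk'_eq_mul_mk'_one]
    exact Ideal.mul_mem_right _ _ h2
  have hJ' : ∃ k, IsLocalRing.maximalIdeal O ^ k ≤ J := by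
    refine ⟨s.sup Prod.snd, le_iInf fun j => ?_⟩
    rw [← Localization.AtPrime.map_eq_maximalIdeal, ← Ideal.map_pow, Ideal.map_le_iff_le_comap]
    intro b hb
    show φ j (algebraMap R₀ O b) = 0
    rw [AlgHom.commutes]
    refine Ideal.Quotient.eq_zero_iff_mem.2 ?_
    have h1 := Ideal.mem_map_of_mem (algebraMap R₀ (C j.1.1)) hb
    rw [Ideal.map_pow] at h1
    exact Ideal.pow_le_pow_right (Finset.le_sup (f := Prod.snd) j.2.1)
      (Ideal.pow_right_mono (Ideal.map_le_iff_le_comap.2 (hmax j.1.1).ge) _ h1)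
  let A := O ⧸ J
  have hπ : Function.Surjective (Ideal.Quotient.mkₐ R₀ J) := Ideal.Quotient.mk_surjective
  refine exists_smul_eq_zero_of_flat_quotient (A := A) q p hp n (Ideal.Quotient.mkₐ R₀ J) hπ
    (fun a ha => hJ (Ideal.Quotient.eq_zero_iff_mem.1 ha)) (fun q' _ hq' => ?_) (fun a ha => hQ a (by rw [hp]; exact ha)) P x hx
  haveI : Nontrivial A := Ideal.Quotient.nontrivial_iff.2 fun h =>
    (IsLocalRing.maximalIdeal.isMaximal O).ne_top (top_le_iff.1 (h ▸ hJ.trans (Ideal.pow_le_self (Nat.succ_ne_zero n))))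
  haveI : IsLocalRing A := IsLocalRing.of_surjective' (Ideal.Quotient.mk J) Ideal.Quotient.mk_surjective
  haveI : IsNoetherianRing O := IsLocalization.isNoetherianRing p.primeCompl _ inferInstance
  haveI : IsArtinianRing A := by
    rw [isArtinianRing_iff_isNilpotent_maximalIdeal]
    obtain ⟨k, hk⟩ := hJ'
    refine ⟨k, le_bot_iff.1 ?_⟩
    rw [← IsLocalRing.map_maximalIdeal_of_surjective (Ideal.Quotient.mk J) Ideal.Quotient.mk_surjective,
      ← Ideal.map_pow, Ideal.map_le_iff_le_comap]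
    exact hk.trans (by rw [← RingHom.ker_eq_comap_bot, Ideal.mk_ker])
  haveI := isNoetherianRing_tensor_quotient (R := R) (A := A) p (Ideal.Quotient.mkₐ R₀ J) hπ
  let ψ : ∀ j : σt, A →ₐ[R₀] D j := fun j =>
    Ideal.Quotient.liftₐ J (φ j) fun a ha => (Submodule.mem_iInf _).1 ha j
  letI : ∀ j : σt, Algebra A (D j) := fun j => (ψ j).toRingHom.toAlgebra
  haveI : ∀ j : σt, IsScalarTower R₀ A (D j) := fun j => IsScalarTower.of_algebraMap_eq fun a => ((ψ j).commutes a).symm
  have hq'nil : ∀ a ∈ IsLocalRing.maximalIdeal A, algebraMap A q'.ResidueField a = 0 := fun a ha =>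
    ((Ring.KrullDimLE.isNilpotent_iff_mem_maximalIdeal.mpr ha).map _).eq_zero
  letI : Algebra (IsLocalRing.ResidueField A) q'.ResidueField :=
    (Ideal.Quotient.lift _ (algebraMap A q'.ResidueField) hq'nil).toAlgebra
  haveI : IsScalarTower A (IsLocalRing.ResidueField A) q'.ResidueField := IsScalarTower.of_algebraMap_eq fun _ => rfl
  refine flat_localizedModule_of_exists_family q'
    (separableClosure_eq_bot_of_bc q p (Ideal.Quotient.mkₐ R₀ J) hπ q' hq' hprim) D (fun a ha => ?_) fun j => ?_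
  · obtain ⟨a, rfl⟩ := Ideal.Quotient.mk_surjective a
    exact Ideal.Quotient.eq_zero_iff_mem.2 ((Submodule.mem_iInf _).2 fun j => ha j)
  obtain ⟨Q, hQ, hQR, hQC, hQflat⟩ := h j.1.1
  exact exists_prime_trans q p hp (Ideal.Quotient.mkₐ R₀ J) hπ q' hq' (Ideal.Quotient.mkₐ R₀ _)
    Ideal.Quotient.mk_surjective
    (fun c hc => Ideal.pow_le_self j.2.2 (Ideal.Quotient.eq_zero_iff_mem.1 hc)) Q hQR hQC hQflat

end Groth.Agent.H06EGA11c
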