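import Mathlib
import Groth.Agent.H06EGA11c.AdicScheme
import Groth.Agent.H06EGA11c.PrimaryAdic
import Groth.Agent.H06EGA11c.PointPrime
import Groth.Agent.H06EGA11c.PrimarySchemePrime
import Groth.Agent.H10Coh.FinType2

/-!
Flatness at a point from local algebras defining the topology of the local ring below with primary residue extension (EGA IV 11.5.5).
-/

set_option autoImplicit false
set_option linter.style.haveILetI false
set_option backward.isDefEq.respectTransparency false

universe u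

open CategoryTheory CategoryTheory.Limits AlgebraicGeometry TensorProduct

namespace Groth.Agent.H06EGA11c

set_option maxHeartbeats 1000000 in
/-- Flatness at `x` with primary residue extension from one point per local algebra. -/
theorem isFlatOverAt_of_exists_adic_family {X Y : Scheme.{u}} [IsLocallyNoetherian Y]
    (f : X ⟶ Y) [LocallyOfFiniteType f] (F : X.Modules) (hF : Coh.IsCoh F) (x : X)
    {ι : Type u} (A : ι → Type u) [∀ i, CommRing (A i)] [∀ i, IsLocalRing (A i)]
    (φ : ∀ i, (Y.presheaf.stalk (f x) : Type u) →+* A i) [∀ i, IsLocalHom (φ i)]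
    (htop : ∀ N : ℕ, ∃ s : Finset (ι × ℕ),
      ⨅ p ∈ s, Ideal.comap (φ p.1) (IsLocalRing.maximalIdeal (A p.1) ^ p.2) ≤
        IsLocalRing.maximalIdeal ↑(Y.presheaf.stalk (f x)) ^ N)
    (hprim : letI := (f.residueFieldMap x).hom.toAlgebra
      ∀ a : ↑(X.residueField x), IsSeparable ↑(Y.residueField (f x)) a → a ∈ (f.residueFieldMap x).hom.range)
    (hflat : ∀ i : ι, ∃ x' : ↥(pullback f (Spec.map (CommRingCat.ofHom (φ i)) ≫ Y.fromSpecStalk (f x))),
      pullback.fst f (Spec.map (CommRingCat.ofHom (φ i)) ≫ Y.fromSpecStalk (f x)) x' = x ∧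
      pullback.snd f (Spec.map (CommRingCat.ofHom (φ i)) ≫ Y.fromSpecStalk (f x)) x' =
        IsLocalRing.closedPoint (A i) ∧
      FlatMod.IsFlatOverAt (pullback.snd f (Spec.map (CommRingCat.ofHom (φ i)) ≫ Y.fromSpecStalk (f x)))
        ((Scheme.Modules.pullback
          (pullback.fst f (Spec.map (CommRingCat.ofHom (φ i)) ≫ Y.fromSpecStalk (f x)))).obj F) x') :
    FlatMod.IsFlatOverAt f F x := by
  haveI : IsLocallyNoetherian X := LocallyOfFiniteType.isLocallyNoetherian f
  let y := f x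
  let g : ∀ i, Spec (CommRingCat.of (A i)) ⟶ Y := fun i =>
    Spec.map (CommRingCat.ofHom (φ i)) ≫ Y.fromSpecStalk y
  let eC := fun i => (Scheme.ΓSpecIso (CommRingCat.of (A i))).commRingCatIsoToRingEquiv
  haveI : ∀ i, IsLocalRing Γ(Spec (CommRingCat.of (A i)), ⊤) := fun i => (eC i).symm.isLocalRing
  obtain ⟨V, hV, hyV, -⟩ := exists_isAffineOpen_mem_and_subset (U := (⊤ : Y.Opens)) (x := y) trivial
  obtain ⟨U, hU, hxU, eU⟩ := exists_isAffineOpen_mem_and_subset (U := f ⁻¹ᵁ V) (x := x) hyV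
  haveI : IsNoetherianRing Γ(X, U) := IsLocallyNoetherian.component_noetherian ⟨U, hU⟩
  haveI : IsNoetherianRing Γ(Y, V) := IsLocallyNoetherian.component_noetherian ⟨V, hV⟩
  haveI : F.IsQuasicoherent := hF.1
  haveI : Module.Finite Γ(X, U) Γ(F, U) := H10Coh.finite_sections F hF.2 hU
  have eg : ∀ i, ⊤ ≤ g i ⁻¹ᵁ V := fun i z _ => by
    have : g i z ∈ Set.range (Y.fromSpecStalk y) := ⟨_, (Scheme.Hom.comp_apply _ _ z).symm⟩
    rw [Scheme.range_fromSpecStalk] at this
    exact (Set.mem_setOf.1 this).mem_open V.isOpen hyV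
  letI := fun i => ((g i).appLE V ⊤ (eg i)).hom.toAlgebra
  letI := (f.appLE V U eU).hom.toAlgebra
  letI := Module.compHom Γ(F, U) (f.appLE V U eU).hom
  haveI : IsScalarTower Γ(Y, V) Γ(X, U) Γ(F, U) := .of_algebraMap_smul fun _ _ => rfl
  let p := hV.primeIdealOf ⟨y, hyV⟩
  letI : Algebra Γ(Y, V) (Y.presheaf.stalk y) := (Y.presheaf.germ V y hyV).hom.toAlgebra
  haveI : IsLocalization.AtPrime (Y.presheaf.stalk y) p.asIdeal := hV.isLocalization_stalk ⟨y, hyV⟩
  have hmap : ∀ i (a : Γ(Y, V)), algebraMap Γ(Y, V) Γ(Spec (CommRingCat.of (A i)), ⊤) a =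
      (eC i).symm (φ i (algebraMap Γ(Y, V) (Y.presheaf.stalk y) a)) := fun i a => by
    show ((g i).appLE V ⊤ (eg i)).hom a = _
    rw [appLE_SpecMap_fromSpecStalk _ hyV (eg i)]
    rfl
  have hsymm : ∀ i, (IsLocalRing.maximalIdeal Γ(Spec (CommRingCat.of (A i)), ⊤)).comap (eC i).symm.toRingHom =
      IsLocalRing.maximalIdeal (A i) := fun i =>
    IsLocalRing.eq_maximalIdeal (Ideal.comap_isMaximal_of_surjective _ (eC i).symm.surjective)
  let q := (hU.primeIdealOf ⟨x, hxU⟩).asIdeal
  have hpq : q.comap (algebraMap Γ(Y, V) Γ(X, U)) = p.asIdeal :=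
    congrArg PrimeSpectrum.asIdeal (IsAffineOpen.comap_primeIdealOf_appLE V hV U hU eU hxU)
  letI : Algebra p.asIdeal.ResidueField q.ResidueField :=
    (Ideal.ResidueField.map p.asIdeal q (algebraMap Γ(Y, V) Γ(X, U)) hpq.symm).toAlgebra
  haveI : IsScalarTower Γ(Y, V) p.asIdeal.ResidueField q.ResidueField := IsScalarTower.of_algebraMap_eq fun a => by
    rw [IsScalarTower.algebraMap_apply Γ(Y, V) Γ(X, U) q.ResidueField]
    exact (Ideal.ResidueField.map_algebraMap _ _ _ _ _).symm
  refine (H8Props.FlatLocus.isFlatOverAt_iff_localizedModule f F hF.1 hV hU eU ⟨x, hxU⟩).2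
    (flat_localizedModule_of_exists_adic_family q p.asIdeal hpq
      (separableClosure_residueField_prime_eq_bot f hV hU eU hxU hprim) (fun i => Γ(Spec (CommRingCat.of (A i)), ⊤))
      (fun i => ?_) (fun N => ?_) fun i => ?_)
  · ext a
    rw [Ideal.mem_comap, hmap,
      show (eC i).symm (φ i (algebraMap Γ(Y, V) (Y.presheaf.stalk y) a)) ∈ IsLocalRing.maximalIdeal _ ↔
        φ i (algebraMap Γ(Y, V) (Y.presheaf.stalk y) a) ∈ IsLocalRing.maximalIdeal (A i) from
        (SetLike.ext_iff.1 (hsymm i) _), ← IsLocalization.AtPrime.to_map_mem_maximal_iff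
        (Y.presheaf.stalk y) p.asIdeal, IsLocalRing.mem_maximalIdeal, IsLocalRing.mem_maximalIdeal]
    exact (isUnit_map_iff (φ i) _).not
  · obtain ⟨s, hs⟩ := htop N
    refine ⟨s, fun a ha => ?_⟩
    have h1 : algebraMap Γ(Y, V) (Y.presheaf.stalk y) a ∈ IsLocalRing.maximalIdeal (Y.presheaf.stalk y) ^ N := by
      refine hs ?_
      simp only [Submodule.mem_iInf]
      intro pr hpr
      have h2 := Ideal.mem_map_of_mem (eC pr.1).toRingHom (ha pr hpr)
      rw [hmap, Ideal.map_pow] at h2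
      have h3 := Ideal.pow_right_mono
        (IsLocalRing.map_maximalIdeal_of_surjective (eC pr.1).toRingHom (eC pr.1).surjective).le _ h2
      rw [RingEquiv.toRingHom_eq_coe, RingEquiv.coe_toRingHom, RingEquiv.apply_symm_apply] at h3
      exact h3
    let e := IsLocalization.algEquiv p.asIdeal.primeCompl (Y.presheaf.stalk y) (Localization.AtPrime p.asIdeal)
    have h2 := Ideal.mem_map_of_mem e.toAlgHom.toRingHom h1
    rw [Ideal.map_pow] at h2
    have h3 := Ideal.pow_right_mono
      (IsLocalRing.map_maximalIdeal_of_surjective e.toAlgHom.toRingHom e.surjective).le _ h2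
    rwa [AlgHom.toRingHom_eq_coe, RingHom.coe_coe, AlgHom.commutes] at h3
  · obtain ⟨x', hx1, hx2, hx3⟩ := hflat i
    obtain ⟨Q, hQ, h1, h2, h3⟩ := exists_prime (IsPullback.of_hasPullback f (g i)) F hF.1 hU hV eU
      (isAffineOpen_top _) (eg i) x' (by rw [hx1]; exact hxU) trivial
    refine ⟨Q, hQ, ?_, ?_, h3 hx3⟩
    · rw [← h1]
      congr 2
      exact Subtype.ext hx1
    · rw [← h2]
      haveI := (isAffineOpen_top (Spec (CommRingCat.of (A i)))).primeIdealOf_isMaximal_of_isClosed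
        ⟨pullback.snd f (g i) x', trivial⟩
        (by rw [hx2]; exact IsLocalRing.isClosed_singleton_closedPoint _)
      exact IsLocalRing.eq_maximalIdeal this

end Groth.Agent.H06EGA11c
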