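import Mathlib
import Groth.Agent.H06Flat.NilpotentCover

/-!
Flatness over an Artinian local ring from a jointly injective family of local algebras (EGA IV 11.5.1).
-/

set_option autoImplicit false
set_option linter.style.haveILetI false
set_option backward.isDefEq.respectTransparency false

universe u

open TensorProduct

namespace Groth.Agent.H06EGA11c

/-- A finite subfamily already separates a finite-dimensional space. -/
theorem exists_finset_ker_eq_bot {K V : Type u} [Field K] [AddCommGroup V] [Module K V] [FiniteDimensional K V]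
    {κ : Type u} {W : κ → Type u} [∀ q, AddCommGroup (W q)] [∀ q, Module K (W q)] (L : ∀ q, V →ₗ[K] W q)
    (h : ∀ v, (∀ q, L q v = 0) → v = 0) : ∃ t : Finset κ, ∀ v, (∀ q ∈ t, L q v = 0) → v = 0 := by
  classical
  let S : Set (Submodule K V) := Set.range fun t : Finset κ => t.inf fun q => LinearMap.ker (L q)
  obtain ⟨_, ⟨t, rfl⟩, hmin⟩ := (IsWellFounded.wf : WellFounded ((· < ·) : Submodule K V → _ → Prop)).has_min S
    ⟨_, ∅, rfl⟩
  refine ⟨t, fun v hv => h v fun q => ?_⟩
  have hle : (insert q t).inf (fun q => LinearMap.ker (L q)) ≤ t.inf fun q => LinearMap.ker (L q) :=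
    Finset.inf_mono (Finset.subset_insert _ _)
  have heq := eq_of_le_of_not_lt hle (hmin _ ⟨insert q t, rfl⟩)
  have hmem : v ∈ t.inf fun q => LinearMap.ker (L q) := by
    simpa [Submodule.mem_finsetInf] using hv
  rw [← heq, Finset.inf_insert] at hmem
  exact hmem.1

set_option maxHeartbeats 1000000 in
/-- Flatness over an Artinian local ring from flat targets detecting the residual fibres. -/
theorem flat_of_family {A : Type u} [CommRing A] [IsLocalRing A] [IsArtinianRing A] (M : Type u)
    [AddCommGroup M] [Module A M] {ι : Type u} (C : ι → Type u) [∀ i, CommRing (C i)] [∀ i, IsLocalRing (C i)]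
    [∀ i, Algebra A (C i)] (hC : ∀ a : A, (∀ i, algebraMap A (C i) a = 0) → a = 0)
    (hdet : ∀ i, ∃ (κ : Type u) (G : κ → Type u) (_ : ∀ q, AddCommGroup (G q))
      (_ : ∀ q, Module (C i) (G q)) (_ : ∀ q, Module.Flat (C i) (G q))
      (φ : ∀ q, C i ⊗[A] M →ₗ[C i] G q), ∀ z : IsLocalRing.ResidueField (C i) ⊗[C i] (C i ⊗[A] M),
        (∀ q, (φ q).baseChange (IsLocalRing.ResidueField (C i)) z = 0) → z = 0) :
    Module.Flat A M := by
  classical
  letI : Field (A ⧸ IsLocalRing.maximalIdeal A) := Ideal.Quotient.field _
  have hJ : IsNilpotent (IsLocalRing.maximalIdeal A) := by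
    rw [← IsLocalRing.jacobson_eq_maximalIdeal (⊥ : Ideal A) bot_ne_top]
    exact IsArtinianRing.isNilpotent_jacobson_bot
  haveI : Module.Free (A ⧸ IsLocalRing.maximalIdeal A) ((A ⧸ IsLocalRing.maximalIdeal A) ⊗[A] M) :=
    Module.Free.of_divisionRing _ _
  obtain ⟨J, π, hπ, hker⟩ := H06Flat.exists_free_cover (M := M) hJ
  suffices hinj : Function.Injective π from
    Module.Flat.of_linearEquiv (LinearEquiv.ofBijective π ⟨hinj, hπ⟩).symm
  refine (injective_iff_map_eq_zero π).mpr fun c hc => Finsupp.ext fun l₀ => hC _ fun i => ?_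
  obtain ⟨κ, G, _, _, _, φ, hφ⟩ := hdet i
  let K := IsLocalRing.ResidueField (C i)
  let E := AlgebraTensorModule.cancelBaseChange A (C i) K K M
  let vbar : J → K ⊗[C i] (C i ⊗[A] M) := fun l => 1 ⊗ₜ (1 ⊗ₜ π (Finsupp.single l 1))
  have hind : LinearIndependent K vbar := by
    have hb := H06Flat.baseChange_bijective hJ π hπ hker K
    have h1 := ((Finsupp.basisSingleOne (R := A) (ι := J)).baseChange K).linearIndependent.map'
      (π.baseChange K) (LinearMap.ker_eq_bot.mpr hb.1)
    refine LinearIndependent.of_comp E.toLinearMap ?_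
    have heq : E.toLinearMap ∘ vbar = π.baseChange K ∘ ((Finsupp.basisSingleOne (R := A) (ι := J)).baseChange K) :=
      funext fun l => by simp [vbar, E]
    rw [heq]
    exact h1
  let s := c.support
  obtain ⟨t, ht⟩ := exists_finset_ker_eq_bot
    (fun q => ((φ q).baseChange K).comp (Fintype.linearCombination K fun l : s => vbar l))
    fun lam hlam => funext fun l => by
      have h0 := hφ (Fintype.linearCombination K (fun l : s => vbar l) lam) hlam
      exact Fintype.linearIndependent_iff.mp (hind.comp (fun l : s => (l : J)) Subtype.val_injective) lam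
        (by rwa [Fintype.linearCombination_apply] at h0) l
  let W := DirectSum t fun q => G q.1
  let ψ : C i ⊗[A] M →ₗ[C i] W := ∑ q : t, (DirectSum.lof (C i) t (fun q => G q.1) q).comp (φ q.1)
  have hψ : ∀ x (q : t), DirectSum.component (C i) t (fun q => G q.1) q (ψ x) = φ q.1 x := by
    intro x q
    simp only [ψ]
    erw [LinearMap.sum_apply]
    erw [map_sum]
    simp only [LinearMap.comp_apply]
    refine (Finset.sum_eq_single q (fun b _ hb => ?_) (fun h => absurd (Finset.mem_univ q) h)).trans
      (DirectSum.component.lof_self _ _ _)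
    exact (DirectSum.component.of (C i) (M := fun q : t => G q.1) _ _ _).trans (dif_neg hb)
  let v : s → W := fun l => ψ (1 ⊗ₜ π (Finsupp.single (l : J) 1))
  have hv : LinearIndependent (C i) v := by
    refine Module.IsLocalRing.linearIndependent_of_flat v (Fintype.linearIndependent_iff.mpr fun lam hlam l => ?_)
    have h0 : lam = 0 := ht lam fun q hq => by
      have := congrArg ((DirectSum.component (C i) t (fun q => G q.1) ⟨q, hq⟩).baseChange K) hlam
      rw [map_sum, map_zero] at this
      simp only [Function.comp_apply, TensorProduct.mk_apply, map_smul, LinearMap.baseChange_tmul, v, hψ] at this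
      rw [LinearMap.comp_apply, Fintype.linearCombination_apply, map_sum]
      simp only [map_smul, vbar, LinearMap.baseChange_tmul]
      exact this
    rw [h0]; rfl
  by_cases hl : l₀ ∈ s
  swap
  · rw [Finsupp.notMem_support_iff.mp hl, map_zero]
  refine Fintype.linearIndependent_iff.mp hv (fun l => algebraMap A (C i) (c l)) ?_ ⟨l₀, hl⟩
  have hc' : π c = ∑ l : s, c l • π (Finsupp.single (l : J) 1) := by
    conv_lhs => rw [← Finsupp.sum_single c]
    rw [map_finsuppSum, Finsupp.sum, ← Finset.sum_coe_sort c.support]
    exact Finset.sum_congr rfl fun l _ => by rw [← map_smul, Finsupp.smul_single, smul_eq_mul, mul_one]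
  simp only [v, ← map_smul, ← map_sum]
  have : ∑ l : s, algebraMap A (C i) (c l) • ((1 : C i) ⊗ₜ[A] π (Finsupp.single (l : J) 1)) =
      (1 : C i) ⊗ₜ[A] π c := by
    rw [hc', tmul_sum]
    exact Finset.sum_congr rfl fun l _ => by rw [algebraMap_smul, tmul_smul]
  rw [this, hc, tmul_zero, map_zero]

end Groth.Agent.H06EGA11c
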