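import Groth.Agent.H06EGA11.BaseChange
import Groth.Agent.H06EGA11c.FamilyFlat

/-!
Flatness at a prime over an Artinian local ring from a family of local algebras (EGA IV 11.5.1).
-/

set_option autoImplicit false
set_option linter.style.haveILetI false
set_option backward.isDefEq.respectTransparency false

universe u

open TensorProduct

namespace Groth.Agent.H06EGA11c

open H06EGA11

attribute [local instance] Algebra.TensorProduct.rightAlgebra

/-- An element of `M ⊗ K` which is, up to a power of `r ∉ q`, in every power of `q`, dies at `q`. -/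
theorem exists_smul_eq_zero_of_forall_mem_pow {A R M K : Type u} [CommRing A] [IsLocalRing A] [CommRing R]
    [Algebra A R] [IsNoetherianRing R] [AddCommGroup M] [Module A M] [Module R M] [IsScalarTower A R M]
    [Module.Finite R M] [AddCommGroup K] [Module A K]
    (hK : Module.IsTorsionBySet A K (IsLocalRing.maximalIdeal A : Set A))
    (q : Ideal R) [q.IsPrime] (z : M ⊗[A] K) (r : R) (hr : r ∉ q)
    (h : ∀ j : ℕ, r ^ j • z ∈ q ^ j • (⊤ : Submodule R (M ⊗[A] K))) : ∃ s : R, s ∉ q ∧ s • z = 0 := by
  classical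
  letI : Field (A ⧸ IsLocalRing.maximalIdeal A) := Ideal.Quotient.field _
  letI := hK.module
  haveI : IsScalarTower A (A ⧸ IsLocalRing.maximalIdeal A) K := hK.isScalarTower
  let k := A ⧸ IsLocalRing.maximalIdeal A
  let b := Module.Free.chooseBasis k K
  let e : M ⊗[A] K ≃ₗ[R] (_ →₀ M ⊗[A] k) :=
    (AlgebraTensorModule.congr (LinearEquiv.refl R M) (b.repr.restrictScalars A)).trans
      (TensorProduct.finsuppRight A R M k _)
  haveI : Module.Finite R (M ⊗[A] k) := by
    refine Module.Finite.of_surjective ((AlgebraTensorModule.mk A R M k).flip 1) fun y => ?_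
    induction y with
    | zero => exact ⟨0, map_zero _⟩
    | tmul m a =>
      obtain ⟨a, rfl⟩ := Ideal.Quotient.mk_surjective a
      refine ⟨a • m, ?_⟩
      show (a • m) ⊗ₜ[A] (1 : k) = _
      rw [smul_tmul]
      congr 1
      exact (Algebra.algebraMap_eq_smul_one a).symm
    | add x y hx hy =>
      obtain ⟨x', rfl⟩ := hx
      obtain ⟨y', rfl⟩ := hy
      exact ⟨x' + y', map_add _ _ _⟩
  have key : ∀ l, ∃ s : R, s ∉ q ∧ s • e z l = 0 := by
    intro l
    have hy : ∀ j, r ^ j • e z l ∈ q ^ j • (⊤ : Submodule R (M ⊗[A] k)) := fun j => by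
      have h1 := Submodule.mem_map_of_mem (f := (Finsupp.lapply l).comp e.toLinearMap) (h j)
      rw [Submodule.map_smul'', map_smul] at h1
      exact Submodule.smul_mono le_rfl le_top h1
    obtain ⟨c, hc⟩ := q.exists_pow_inf_eq_pow_smul (R ∙ e z l)
    have h1 : r ^ (c + 1) • e z l ∈ q • (R ∙ e z l) := by
      have h2 : r ^ (c + 1) • e z l ∈ q ^ (c + 1) • ⊤ ⊓ (R ∙ e z l) :=
        ⟨hy _, Submodule.smul_mem _ _ (Submodule.mem_span_singleton_self _)⟩
      rw [hc _ (Nat.le_succ c), Nat.succ_sub (le_refl c), Nat.sub_self, pow_one] at h2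
      exact Submodule.smul_mono le_rfl inf_le_right h2
    obtain ⟨a, ha, hae⟩ := Submodule.mem_smul_span_singleton.mp h1
    refine ⟨r ^ (c + 1) - a, fun hmem => ?_, by rw [sub_smul, hae, sub_self]⟩
    exact hr ((inferInstance : q.IsPrime).mem_of_pow_mem _ (by simpa using q.add_mem hmem ha))
  choose s hs hs0 using key
  refine ⟨∏ l ∈ (e z).support, s l, fun hmem => ?_, e.injective ?_⟩
  · obtain ⟨l, -, hl⟩ := (Ideal.IsPrime.prod_mem_iff).mp hmem
    exact hs l hl
  rw [map_smul, map_zero]
  ext l
  rw [Finsupp.smul_apply, Finsupp.zero_apply]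
  by_cases hl : l ∈ (e z).support
  · rw [← Finset.prod_erase_mul _ _ hl, mul_smul, hs0, smul_zero]
  · rw [Finsupp.notMem_support_iff.mp hl, smul_zero]

section

variable {A R M : Type u} [CommRing A] [CommRing R] [Algebra A R] [AddCommGroup M] [Module A M]
  [Module R M] [IsScalarTower A R M] {C : Type u} [CommRing C] [Algebra A C]

/-- The preimage of an extended ideal under `psi`. -/
theorem psi_symm_smul_mem {K : Type u} [AddCommGroup K] [Module A K] [Module C K] [IsScalarTower A C K]
    (I : Ideal R) {a : R ⊗[A] C} (ha : a ∈ I.map (algebraMap R (R ⊗[A] C))) (y : BC A R M C ⊗[C] K) :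
    (psi (B₀ := R) (M₀ := M) C K).symm (a • y) ∈ I • (⊤ : Submodule R (M ⊗[A] K)) := by
  induction ha using Submodule.span_induction generalizing y with
  | zero => simp
  | add a a' _ _ ha ha' => rw [add_smul, map_add]; exact add_mem (ha y) (ha' y)
  | smul c a _ ha => rw [smul_eq_mul, mul_comm, mul_smul]; exact ha _
  | mem x hx =>
    obtain ⟨b, hb, rfl⟩ := hx
    have : (psi (B₀ := R) (M₀ := M) C K).symm (algebraMap R (R ⊗[A] C) b • y) =
        b • (psi (B₀ := R) (M₀ := M) C K).symm y := by
      apply (psi (B₀ := R) (M₀ := M) C K).injective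
      rw [AddEquiv.apply_symm_apply, psi_smul, AddEquiv.apply_symm_apply]
      rfl
    rw [this]
    exact Submodule.smul_mem_smul hb trivial

end

set_option maxHeartbeats 1000000 in
/-- Flatness at a prime from a family of local algebras. -/
theorem flat_localizedModule_of_family {A R M : Type u} [CommRing A] [IsLocalRing A] [IsArtinianRing A]
    [CommRing R] [Algebra A R] [IsNoetherianRing R] [AddCommGroup M] [Module A M] [Module R M]
    [IsScalarTower A R M] [Module.Finite R M] (q : Ideal R) [q.IsPrime]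
    {ι : Type u} (C : ι → Type u) [∀ i, CommRing (C i)] [∀ i, IsLocalRing (C i)] [∀ i, Algebra A (C i)]
    (hC : ∀ a : A, (∀ i, algebraMap A (C i) a = 0) → a = 0)
    (h : ∀ (i : ι) (Q : Ideal (R ⊗[A] C i)) [Q.IsPrime],
      Q.comap (algebraMap R (R ⊗[A] C i)) = q →
      Q.comap (algebraMap (C i) (R ⊗[A] C i)) = IsLocalRing.maximalIdeal (C i) →
      Module.Flat (C i) (LocalizedModule Q.primeCompl (BC A R M (C i)))) :
    Module.Flat A (LocalizedModule q.primeCompl M) := by
  classical
  refine flat_of_family _ C hC fun i => ?_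
  let Cq := C i
  let T := R ⊗[A] C i
  let K := IsLocalRing.ResidueField (C i)
  let P : Set (Ideal T) := {Q | ∃ _ : Q.IsPrime, Q.comap (algebraMap R T) = q ∧
    Q.comap (algebraMap (C i) T) = IsLocalRing.maximalIdeal (C i)}
  haveI hP : ∀ Q : P, Q.1.IsPrime := fun Q => Q.2.1
  let G : P → Type u := fun Q => LocalizedModule Q.1.primeCompl (BC A R M (C i))
  let f : ∀ Q : P, M →ₗ[R] G Q := fun Q =>
    ((LocalizedModule.mkLinearMap Q.1.primeCompl (BC A R M (C i))).restrictScalars R).comp
      (TensorProduct.mk R T M 1)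
  have hunit : ∀ (Q : P) (s : q.primeCompl), IsUnit (algebraMap R (Module.End R (G Q)) s) := by
    intro Q s
    rw [Module.End.isUnit_iff]
    have hs : algebraMap R T s.1 ∈ Q.1.primeCompl := fun hmem => s.2 (Q.2.2.1.le hmem)
    have := (Module.End.isUnit_iff _).1
      (IsLocalizedModule.map_units (LocalizedModule.mkLinearMap Q.1.primeCompl (BC A R M (C i))) ⟨_, hs⟩)
    convert this using 1
    ext n
    rw [Module.algebraMap_end_apply, Module.algebraMap_end_apply, algebraMap_smul]
  let g : ∀ Q : P, LocalizedModule q.primeCompl M →ₗ[R] G Q := fun Q =>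
    IsLocalizedModule.lift q.primeCompl (LocalizedModule.mkLinearMap q.primeCompl M) (f Q) (hunit Q)
  refine ⟨P, G, inferInstance, inferInstance, fun Q => h i Q.1 Q.2.2.1 Q.2.2.2,
    fun Q => ((g Q).restrictScalars A).liftBaseChange (C i), fun z hz => ?_⟩
  let E := AlgebraTensorModule.cancelBaseChange A (C i) K K (LocalizedModule q.primeCompl M)
  let D : LocalizedModule q.primeCompl M ⊗[A] K →+ K ⊗[C i] (C i ⊗[A] LocalizedModule q.primeCompl M) :=
    E.symm.toLinearMap.toAddMonoidHom.comp (TensorProduct.comm A _ _).toLinearMap.toAddMonoidHom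
  let Ψ : ∀ Q : P, LocalizedModule q.primeCompl M ⊗[A] K →+ G Q ⊗[C i] K := fun Q =>
    ((TensorProduct.comm (C i) K (G Q)).toLinearMap.toAddMonoidHom.comp
      ((((g Q).restrictScalars A).liftBaseChange (C i)).baseChange K).toAddMonoidHom).comp D
  have hΨ : ∀ (Q : P) (n : LocalizedModule q.primeCompl M) (x : K), Ψ Q (n ⊗ₜ x) = g Q n ⊗ₜ x := by
    intro Q n x
    simp [Ψ, D, E]
  have hΨs : ∀ (Q : P) (s : R) (y : LocalizedModule q.primeCompl M ⊗[A] K),
      Ψ Q (s • y) = algebraMap R T s • Ψ Q y := by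
    intro Q s y
    induction y with
    | zero => simp
    | tmul n x =>
      rw [TensorProduct.smul_tmul', hΨ, hΨ, map_smul, TensorProduct.smul_tmul', algebraMap_smul]
    | add x y hx hy => rw [smul_add, map_add, hx, hy, map_add, smul_add]
  let zz := TensorProduct.comm A K _ (E z)
  have hzz : D zz = z := by simp [D, zz]
  obtain ⟨⟨z₀, s⟩, hs⟩ := IsLocalizedModule.surj q.primeCompl (locT q.primeCompl M K) zz
  let w := psi (B₀ := R) (M₀ := M) (C i) K z₀
  have hloc : ∀ (Q : P) (x : M ⊗[A] K),
      Ψ Q (locT q.primeCompl M K x) = locT Q.1.primeCompl (BC A R M (C i)) K (psi (B₀ := R) (C i) K x) := by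
    intro Q x
    induction x with
    | zero => simp
    | tmul m a =>
      rw [psi_tmul, AlgebraTensorModule.rTensor_tmul, AlgebraTensorModule.rTensor_tmul, hΨ]
      simp only [g, IsLocalizedModule.lift_apply]
      rfl
    | add x y hx hy => simp only [map_add, hx, hy]
  have hw : ∀ Q : P, ∃ t : T, t ∉ Q.1 ∧ t • w = 0 := by
    intro Q
    have hzero : Ψ Q zz = 0 := by
      show TensorProduct.comm (C i) K (G Q) _ = 0
      rw [show ((((g Q).restrictScalars A).liftBaseChange (C i)).baseChange K).toAddMonoidHom (D zz) =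
          (((g Q).restrictScalars A).liftBaseChange (C i)).baseChange K z by rw [hzz]; rfl, hz Q, map_zero]
    have h1 : locT Q.1.primeCompl (BC A R M (C i)) K w = 0 := by
      rw [← hloc, ← hs, Submonoid.smul_def, hΨs, hzero, smul_zero]
    obtain ⟨t, ht⟩ := (IsLocalizedModule.eq_zero_iff Q.1.primeCompl _).1 h1
    exact ⟨t.1, t.2, ht⟩
  have hmC : ∀ c ∈ IsLocalRing.maximalIdeal (C i), algebraMap (C i) T c • w = 0 := by
    intro c hc
    rw [algebraMap_smul]
    generalize w = y
    induction y with
    | zero => simp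
    | tmul m x =>
      rw [← tmul_smul, show c • x = 0 from by
        rw [Algebra.smul_def, show algebraMap (C i) K c = 0 from (IsLocalRing.residue_eq_zero_iff c).2 hc,
          zero_mul], tmul_zero]
    | add x y hx hy => rw [smul_add, hx, hy, add_zero]
  let J : Ideal T := LinearMap.ker (LinearMap.toSpanSingleton T (BC A R M (C i) ⊗[C i] K) w)
  obtain ⟨r, hr, hrJ⟩ : ∃ r : R, r ∉ q ∧ algebraMap R T r ∈ J ⊔ q.map (algebraMap R T) := by
    by_contra hcon
    have hdisj : Disjoint ((J ⊔ q.map (algebraMap R T) : Ideal T) : Set T)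
        (q.primeCompl.map (algebraMap R T) : Submonoid T) := by
      rw [Set.disjoint_left]
      rintro _ hx ⟨r, hr, rfl⟩
      exact hcon ⟨r, hr, hx⟩
    obtain ⟨Q, hQ, hle, hd⟩ := Ideal.exists_le_prime_disjoint _ _ hdisj
    have hQR : Q.comap (algebraMap R T) = q := by
      refine le_antisymm (fun r hr => ?_) (Ideal.map_le_iff_le_comap.1 (le_sup_right.trans hle))
      by_contra hrq
      exact Set.disjoint_left.1 hd hr ⟨r, hrq, rfl⟩
    have hQC : Q.comap (algebraMap (C i) T) = IsLocalRing.maximalIdeal (C i) :=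
      ((IsLocalRing.maximalIdeal.isMaximal (C i)).eq_of_le (Ideal.IsPrime.ne_top inferInstance)
        fun c hc => hle (Ideal.mem_sup_left (hmC c hc))).symm
    obtain ⟨t, ht, htw⟩ := hw ⟨Q, hQ, hQR, hQC⟩
    exact ht (hle (Ideal.mem_sup_left htw))
  obtain ⟨j, hj, a, ha, hja⟩ := Submodule.mem_sup.1 hrJ
  have hpow : ∀ n : ℕ, psi (B₀ := R) (C i) K (r ^ n • z₀) = a ^ n • w := by
    intro n
    have h1 : algebraMap R T r • w = a • w := by rw [← hja, add_smul, show j • w = 0 from hj, zero_add]
    induction n with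
    | zero => simp [w]
    | succ n ih =>
      rw [pow_succ', mul_smul, psi_smul, ih, ← mul_smul,
        show (r ⊗ₜ[A] (1 : C i) : T) = algebraMap R T r from rfl, mul_comm, mul_smul, h1, ← mul_smul, pow_succ]
  obtain ⟨s', hs', hz₀⟩ := exists_smul_eq_zero_of_forall_mem_pow (K := K)
    (fun x a => by
      have hnil : IsNilpotent a.1 := Ring.KrullDimLE.isNilpotent_iff_mem_maximalIdeal.mpr a.2
      rw [← algebraMap_smul (C i) a.1 x, Algebra.smul_def,
        show algebraMap (C i) K (algebraMap A (C i) a.1) = 0 from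
          (hnil.map _).map (algebraMap (C i) K) |>.eq_zero, zero_mul])
    q z₀ r hr fun n => by
      rw [← AddEquiv.symm_apply_apply (psi (B₀ := R) (M₀ := M) (C i) K) (r ^ n • z₀), hpow]
      exact psi_symm_smul_mem _ (by rw [Ideal.map_pow]; exact Ideal.pow_mem_pow ha n) w
  have : zz = 0 := by
    apply IsLocalizedModule.smul_injective (locT q.primeCompl M K) s
    apply IsLocalizedModule.smul_injective (locT q.primeCompl M K) (⟨s', hs'⟩ : q.primeCompl)
    simp only [smul_zero]
    rw [hs, Submonoid.smul_def, ← map_smul, hz₀, map_zero]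
  rw [← hzz, this, map_zero]

end Groth.Agent.H06EGA11c
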