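import Groth.Agent.H7Lim.ModStage
import Groth.Agent.H17.AssPts
import Groth.Agent.H06Mod.StalkPullback

/-!
Vanishing of germs of inverse images of sections descends to a stage.
-/

set_option autoImplicit false
set_option linter.style.haveILetI false
set_option backward.isDefEq.respectTransparency false

universe u

open CategoryTheory Limits AlgebraicGeometry TopologicalSpace Opposite TensorProduct

namespace Groth.Agent.H06EGA11c

open H8Props

/-- The germ of the inverse image of a section. -/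
theorem germ_pullLin {X Y : Scheme.{u}} (f : X ⟶ Y) (M : Y.Modules) {U : Y.Opens} {W : X.Opens}
    (e : W ≤ f ⁻¹ᵁ U) (x : X) (hx : x ∈ W) (m : Γ(M, U)) :
    ((Scheme.Modules.pullback f).obj M).presheaf.germ W x hx (PullSections.pullLin f M e m) =
      H06Mod.pullStalk f M x (M.presheaf.germ U (f x) (e hx) m) := by
  rw [H06Mod.pullStalk_germ]
  exact TopCat.Presheaf.germ_res_apply _ (homOfLE e) x hx _

theorem mem_basicOpen_of_appLE {P Q : Scheme.{u}} (a : P ⟶ Q) {V : Q.Opens} {U : P.Opens}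
    (e : U ≤ a ⁻¹ᵁ V) (s : Γ(Q, V)) (y : P) (h : y ∈ P.basicOpen (a.appLE V U e s)) : a y ∈ Q.basicOpen s := by
  rw [Scheme.Hom.appLE, CommRingCat.comp_apply, Scheme.basicOpen_res, ← Scheme.preimage_basicOpen] at h
  exact h.2

section OneMap

variable {X Y : Scheme.{u}} (f : X ⟶ Y) (M : Y.Modules) (hM : Coh.IsQCoh M) {U : Y.Opens} (hU : IsAffineOpen U)
  {W : X.Opens} (hW : IsAffineOpen W) (e : W ≤ f ⁻¹ᵁ U) (x : X) (hx : x ∈ W)

include hM hU hW in
theorem exists_tmul_eq_zero (m : Γ(M, U)) (h : H06Mod.pullStalk f M x (M.presheaf.germ U (f x) (e hx) m) = 0) :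
    letI := (f.appLE U W e).hom.toAlgebra
    ∃ v : Γ(X, W), x ∈ X.basicOpen v ∧ v ⊗ₜ[Γ(Y, U)] m = 0 := by
  letI := (f.appLE U W e).hom.toAlgebra
  letI := Module.compHom Γ((Scheme.Modules.pullback f).obj M, W) (f.appLE U W e).hom
  haveI : IsScalarTower Γ(Y, U) Γ(X, W) Γ((Scheme.Modules.pullback f).obj M, W) :=
    .of_algebraMap_smul fun _ _ => rfl
  have hb := PullSections.isBaseChange_pullLin f M e hM hU hW
  obtain ⟨v, hv, hvm⟩ := H17.AssPts.exists_smul_eq_zero_of_germ _ (H29Fitt.isQCoh_pullback _ M hM) hW hx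
    ((germ_pullLin f M e x hx m).trans h)
  refine ⟨v, hv, hb.equiv.injective ?_⟩
  rw [map_zero, IsBaseChange.equiv_tmul]
  exact hvm

include hM hU hW in
theorem pullStalk_eq_zero_of_tmul (m : Γ(M, U)) (v : Γ(X, W)) (hv : x ∈ X.basicOpen v)
    (h : letI := (f.appLE U W e).hom.toAlgebra
      v ⊗ₜ[Γ(Y, U)] m = 0) :
    H06Mod.pullStalk f M x (M.presheaf.germ U (f x) (e hx) m) = 0 := by
  letI := (f.appLE U W e).hom.toAlgebra
  letI := Module.compHom Γ((Scheme.Modules.pullback f).obj M, W) (f.appLE U W e).hom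
  haveI : IsScalarTower Γ(Y, U) Γ(X, W) Γ((Scheme.Modules.pullback f).obj M, W) :=
    .of_algebraMap_smul fun _ _ => rfl
  have hb := PullSections.isBaseChange_pullLin f M e hM hU hW
  rw [← germ_pullLin f M e x hx m]
  refine H17.AssPts.germ_eq_zero_of_smul _ hx hv ?_
  rw [← IsBaseChange.equiv_tmul hb v m, h, map_zero]

end OneMap

variable {I : Type u} [SmallCategory I] [IsCofiltered I] {D : I ⥤ Scheme.{u}} {c : Cone D} {i₀ : I}
  [∀ (i j : I) (f : i ⟶ j), IsAffineHom (D.map f)]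

set_option maxHeartbeats 1000000 in
/-- Finitely many sections whose germs die in the limit die at a stage. -/
theorem exists_stage_pullStalk_eq_zero (hc : IsLimit c) (M : (D.obj i₀).Modules) (hM : Coh.IsQCoh M)
    {U : (D.obj i₀).Opens} (hU : IsAffineOpen U) (y : c.pt) (hy : c.π.app i₀ y ∈ U)
    (s : Finset Γ(M, U))
    (h : ∀ m ∈ s, H06Mod.pullStalk (c.π.app i₀) M y (M.presheaf.germ U (c.π.app i₀ y) hy m) = 0) :
    ∃ (j : Over i₀) (hj : D.map j.hom (c.π.app j.left y) ∈ U), ∀ m ∈ s,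
      H06Mod.pullStalk (D.map j.hom) M (c.π.app j.left y)
        (M.presheaf.germ U (D.map j.hom (c.π.app j.left y)) hj m) = 0 := by
  classical
  letI := fun j : Over i₀ => H7Lim.ModStage.stageAlgebra (D := D) U j
  letI := H7Lim.ModStage.limitAlgebra (c := c) U
  let sy := H7Lim.ModStage.stageSystem hc U hU
  haveI : IsAffineHom (c.π.app i₀) := isAffineHom_π_app D c hc i₀
  let W : c.pt.Opens := c.π.app i₀ ⁻¹ᵁ U
  have hy' : y ∈ W := hy
  have hW : IsAffineOpen W := hU.preimage _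
  have hv : ∀ m ∈ s, ∃ v : Γ(c.pt, W), y ∈ c.pt.basicOpen v ∧ v ⊗ₜ[Γ(D.obj i₀, U)] m = 0 := fun m hm =>
    exists_tmul_eq_zero (X := c.pt) (c.π.app i₀) M hM hU hW (le_refl W) y hy' m (h m hm)
  choose v hv hvm using hv
  let v₀ : Γ(c.pt, W) := ∏ m ∈ s.attach, v m.1 m.2
  have hv₀m : ∀ m ∈ s, v₀ ⊗ₜ[Γ(D.obj i₀, U)] m = 0 := fun m hm => by
    obtain ⟨r, hr⟩ : v m hm ∣ v₀ := Finset.dvd_prod_of_mem _ (Finset.mem_attach s ⟨m, hm⟩)
    rw [hr, mul_comm, ← smul_eq_mul, ← TensorProduct.smul_tmul', hvm m hm, smul_zero]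
  obtain ⟨j₀, t₀, ht₀⟩ := sy.surj v₀
  have main : ∀ s' : Finset Γ(M, U), s' ⊆ s →
      ∃ (j : Over i₀) (t : H7Lim.ModStage.stageRing D U j), sy.g j t = v₀ ∧
        ∀ m ∈ s', t ⊗ₜ[Γ(D.obj i₀, U)] m = 0 := by
    intro s'
    induction s' using Finset.induction with
    | empty => exact fun _ => ⟨j₀, t₀, ht₀, by simp⟩
    | insert m s' _ ih =>
      intro hsub
      obtain ⟨j, t, ht, hts⟩ := ih fun x hx => hsub (Finset.mem_insert_of_mem hx)
      obtain ⟨k, a, ha⟩ := sy.exists_eq_zero (N := Γ(M, U)) j (t ⊗ₜ m) (by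
        rw [LinearMap.rTensor_tmul, AlgHom.toLinearMap_apply, ht]
        exact hv₀m m (hsub (Finset.mem_insert_self _ _)))
      rw [LinearMap.rTensor_tmul, AlgHom.toLinearMap_apply] at ha
      refine ⟨k, sy.m a t, (sy.w a t).trans ht, fun m' hm' => ?_⟩
      obtain rfl | hm' := Finset.mem_insert.1 hm'
      · exact ha
      · have h1 := congrArg ((sy.m a).toLinearMap.rTensor Γ(M, U)) (hts m' hm')
        rwa [map_zero, LinearMap.rTensor_tmul, AlgHom.toLinearMap_apply] at h1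
  obtain ⟨j, t, ht, hts⟩ := main s subset_rfl
  have hyj : D.map j.hom (c.π.app j.left y) ∈ U := by
    rw [← Scheme.Hom.comp_apply, c.w]
    exact hy
  refine ⟨j, hyj, fun m hm => ?_⟩
  let Wj : (D.obj j.left).Opens := D.map j.hom ⁻¹ᵁ U
  have hyj' : c.π.app j.left y ∈ Wj := hyj
  have hyt : c.π.app j.left y ∈ (D.obj j.left).basicOpen t := by
    have h1 : y ∈ c.pt.basicOpen v₀ := by
      have h2 : IsUnit (c.pt.presheaf.germ W y hy' v₀) := by
        show IsUnit ((c.pt.presheaf.germ W y hy').hom (∏ m ∈ s.attach, v m.1 m.2))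
        rw [map_prod, IsUnit.prod_iff]
        exact fun m _ => (H17.AssPts.isUnit_germ_iff hy' _).2 (hv m.1 m.2)
      exact (H17.AssPts.isUnit_germ_iff hy' v₀).1 h2
    rw [← ht] at h1
    exact mem_basicOpen_of_appLE (c.π.app j.left) _ t y h1
  exact pullStalk_eq_zero_of_tmul (D.map j.hom) M hM hU (hU.preimage _) (le_refl Wj) _ hyj' m t hyt (hts m hm)

end Groth.Agent.H06EGA11c
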