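import Groth.Agent.H8Props.FunDescent.DimLimit
import Groth.Agent.H7Lim.Basic
import Groth.Agent.H7Flat.FlatAtDescent
import Groth.Agent.H06EGA9.FlatFibreBC

/-!
Flatness at a point of a limit descends to a stage, with no quasi-compactness on the stage (EGA IV 11.2.6).
-/

set_option autoImplicit false
set_option linter.style.haveILetI false
set_option backward.isDefEq.respectTransparency false

universe u

open CategoryTheory Limits AlgebraicGeometry TopologicalSpace Opposite

namespace Groth.Agent.H06EGA11c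

/-- Flatness over an open immersion. -/
theorem isFlatOverAt_comp_openImmersion_iff {X Y Z : Scheme.{u}} (p : X ⟶ Y) (q : Y ⟶ Z) [IsOpenImmersion q]
    (F : X.Modules) (x : X) : FlatMod.IsFlatOverAt (p ≫ q) F x ↔ FlatMod.IsFlatOverAt p F x := by
  refine ⟨fun h => ?_, H06Mod.isFlatOverAt_comp_of_flat p q F x⟩
  letI := FlatMod.moduleStalkOver p F x
  letI : Module (Z.presheaf.stalk (q (p x))) (F.presheaf.stalk x) := FlatMod.moduleStalkOver (p ≫ q) F x
  haveI : Module.Flat (Z.presheaf.stalk (q (p x))) (F.presheaf.stalk x) := h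
  exact (H06EGA9.flat_iff_of_semilinear (q.stalkMap (p x)).hom
    (ConcreteCategory.bijective_of_isIso (q.stalkMap (p x))) (AddMonoidHom.id _) Function.bijective_id
    fun r a => by
      show ((p ≫ q).stalkMap x).hom r • a = (p.stalkMap x).hom ((q.stalkMap (p x)).hom r) • a
      rw [Scheme.Hom.stalkMap_comp]
      rfl).1 inferInstance

section

variable {X₀ Y₀ : Scheme.{u}} {f₀ : X₀ ⟶ Y₀} {U : X₀.Opens} {V : Y₀.Opens} (e : U ≤ f₀ ⁻¹ᵁ V)
  {X Y : Scheme.{u}} {f : X ⟶ Y} {qY : Y ⟶ Y₀} {qX : X ⟶ X₀} (hX : IsPullback qX f f₀ qY)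
  {Yv : Scheme.{u}} {jY : Yv ⟶ Y} {pv : Yv ⟶ V.toScheme} (hj : IsPullback jY pv qY V.ι)

/-- The restricted base change inside the base change. -/
noncomputable def restrictMap : pullback (f₀.resLE V U e) pv ⟶ X :=
  hX.lift (pullback.fst _ _ ≫ U.ι) (pullback.snd _ _ ≫ jY) (by
    simp only [Category.assoc]
    rw [hj.w, ← Scheme.Hom.resLE_comp_ι f₀ e, reassoc_of% pullback.condition])

theorem restrictMap_fst : restrictMap e hX hj ≫ qX = pullback.fst _ _ ≫ U.ι := hX.lift_fst _ _ _

theorem restrictMap_snd : restrictMap e hX hj ≫ f = pullback.snd _ _ ≫ jY := hX.lift_snd _ _ _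

theorem isPullback_restrictMap :
    IsPullback (restrictMap e hX hj) (pullback.fst (f₀.resLE V U e) pv) qX U.ι := by
  have h1 : IsPullback (pullback.fst (f₀.resLE V U e) pv) (pullback.snd (f₀.resLE V U e) pv ≫ jY)
      (f₀.resLE V U e ≫ V.ι) qY := (IsPullback.of_hasPullback _ _).paste_vert hj.flip
  rw [Scheme.Hom.resLE_comp_ι, ← restrictMap_snd e hX hj] at h1
  exact (IsPullback.of_bot h1 (restrictMap_fst e hX hj).symm hX).flip

/-- Flatness on the restricted base change. -/
theorem isFlatOverAt_restrict_iff (F₀ : X₀.Modules) (z : ↥(pullback (f₀.resLE V U e) pv)) :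
    FlatMod.IsFlatOverAt (pullback.snd (f₀.resLE V U e) pv)
        ((Scheme.Modules.pullback (pullback.fst (f₀.resLE V U e) pv)).obj ((Scheme.Modules.pullback U.ι).obj F₀)) z ↔
      FlatMod.IsFlatOverAt f ((Scheme.Modules.pullback qX).obj F₀) (restrictMap e hX hj z) := by
  haveI : IsOpenImmersion (restrictMap e hX hj) :=
    MorphismProperty.of_isPullback (isPullback_restrictMap e hX hj).flip inferInstance
  haveI : IsOpenImmersion jY := MorphismProperty.of_isPullback hj.flip inferInstance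
  refine Iff.trans ?_ (H06Mod.isFlatOverAt_pullback_iff (restrictMap e hX hj) f _ z)
  refine Iff.trans ?_ (H06Mod.isFlatOverAt_congr (restrictMap_snd e hX hj).symm _ z)
  refine Iff.trans (isFlatOverAt_comp_openImmersion_iff _ jY _ z).symm ?_
  exact H06EGA9.isFlatOverAt_congr_iso _
    ((Scheme.Modules.pullbackComp (pullback.fst (f₀.resLE V U e) pv) U.ι).app F₀ ≪≫
      (Scheme.Modules.pullbackCongr (restrictMap_fst e hX hj).symm).app F₀ ≪≫
      ((Scheme.Modules.pullbackComp (restrictMap e hX hj) qX).app F₀).symm) z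

end

set_option maxHeartbeats 1000000 in
/-- A point where the limit is flat has a flat image at some stage. -/
theorem exists_stage_isFlatOverAt {I : Type u} [SmallCategory I] [IsCofiltered I]
    (D : I ⥤ Scheme.{u}) (c : Limits.Cone D) (hc : Limits.IsLimit c)
    [∀ (i j : I) (φ : i ⟶ j), IsAffineHom (D.map φ)] (i₀ : I)
    {X₀ Y₀ : Scheme.{u}} (f₀ : X₀ ⟶ Y₀) (g₀ : Y₀ ⟶ D.obj i₀) [LocallyOfFinitePresentation f₀]
    (F₀ : X₀.Modules) (hFq : Coh.IsQCoh F₀) (hF₀ : CohB1.IsFP F₀)
    {X Y : Scheme.{u}} {f : X ⟶ Y} {g : Y ⟶ c.pt} {qY : Y ⟶ Y₀} {qX : X ⟶ X₀}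
    (hY : IsPullback qY g g₀ (c.π.app i₀)) (hX : IsPullback qX f f₀ qY) (x : X)
    (h : FlatMod.IsFlatOverAt f ((Scheme.Modules.pullback qX).obj F₀) x) :
    ∃ (i : I) (φ : i ⟶ i₀) (Xi Yi : Scheme.{u}) (fi : Xi ⟶ Yi) (gi : Yi ⟶ D.obj i)
        (pY : Yi ⟶ Y₀) (pX : Xi ⟶ X₀) (vY : Y ⟶ Yi) (vX : X ⟶ Xi),
        IsPullback pY gi g₀ (D.map φ) ∧ IsPullback pX fi f₀ pY ∧
          vY ≫ pY = qY ∧ vY ≫ gi = g ≫ c.π.app i ∧ vX ≫ pX = qX ∧ vX ≫ fi = f ≫ vY ∧
          FlatMod.IsFlatOverAt fi ((Scheme.Modules.pullback pX).obj F₀) (vX x) := by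
  classical
  obtain ⟨V, hV, hxV, -⟩ := exists_isAffineOpen_mem_and_subset (U := (⊤ : Y₀.Opens)) (x := f₀ (qX x)) trivial
  obtain ⟨U, hU, hxU, e⟩ := exists_isAffineOpen_mem_and_subset (U := f₀ ⁻¹ᵁ V) (x := qX x) hxV
  haveI : IsAffine V.toScheme := hV
  haveI : IsAffine U.toScheme := hU
  let f' : U.toScheme ⟶ V.toScheme := f₀.resLE V U e
  haveI : LocallyOfFinitePresentation f' := inferInstanceAs (LocallyOfFinitePresentation (f₀.resLE V U e))
  let F' := (Scheme.Modules.pullback U.ι).obj F₀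
  let a : V.toScheme ⟶ D.obj i₀ := V.ι ≫ g₀
  let D' : Over i₀ ⥤ Over V.toScheme :=
    { obj := fun j => Over.mk ((H7Lim.pbFst D i₀ a).app j)
      map := fun {j k} φ => Over.homMk ((H7Lim.pbDiagram D i₀ a).map φ) (by simp)
      map_id := fun j => Over.OverMorphism.ext ((H7Lim.pbDiagram D i₀ a).map_id j)
      map_comp := fun φ ψ => Over.OverMorphism.ext ((H7Lim.pbDiagram D i₀ a).map_comp φ ψ) }
  let c' : Cone D' :=
    { pt := Over.mk (pullback.fst a (c.π.app i₀))
      π :=
        { app := fun j => Over.homMk ((H7Lim.pbCone D c i₀ a).π.app j) (by simp [D'])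
          naturality := fun j k φ => Over.OverMorphism.ext ((H7Lim.pbCone D c i₀ a).π.naturality φ) } }
  have hD' : ∀ j, IsAffine (D'.obj j).left := fun j => by
    haveI : IsAffineHom (pullback.fst a (D.map j.hom)) :=
      MorphismProperty.pullback_fst _ _ inferInstance
    exact isAffine_of_isAffineHom (pullback.fst a (D.map j.hom))
  have hc' : IsLimit ((Over.forget V.toScheme).mapCone c') := H7Lim.isLimitPbCone D i₀ a hc
  -- the limit over `V`
  let jY : pullback a (c.π.app i₀) ⟶ Y :=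
    hY.lift (pullback.fst _ _ ≫ V.ι) (pullback.snd _ _) (by rw [Category.assoc]; exact pullback.condition)
  have hjY : IsPullback jY (pullback.fst a (c.π.app i₀)) qY V.ι := by
    have h1 : IsPullback (pullback.fst a (c.π.app i₀)) (jY ≫ g) (V.ι ≫ g₀) (c.π.app i₀) := by
      rw [hY.lift_snd]
      exact IsPullback.of_hasPullback _ _
    exact (IsPullback.of_bot h1 (hY.lift_fst _ _ _).symm hY).flip
  let m := restrictMap e hX hjY
  obtain ⟨z, hz⟩ : x ∈ Set.range m := by
    have hb := isPullback_restrictMap e hX hjY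
    obtain ⟨w, hw⟩ : x ∈ Set.range (pullback.fst qX U.ι) := by
      rw [Scheme.Pullback.range_fst]
      show qX x ∈ Set.range U.ι
      rw [Scheme.Opens.range_ι]
      exact hxU
    refine ⟨hb.isoPullback.inv w, ?_⟩
    rw [← Scheme.Hom.comp_apply, hb.isoPullback_inv_fst]
    exact hw
  have hz' : FlatMod.IsFlatOverAt (PicF.XTproj f' c'.pt) (FGA.ET f' F' c'.pt) z := by
    refine (isFlatOverAt_restrict_iff e hX hjY F₀ z).2 ?_
    rw [show restrictMap e hX hjY z = x from hz]
    exact h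
  obtain ⟨j, hj⟩ := H8Props.FunDescent.exists_stage_isFlatOverAt f' F' (H29Fitt.isQCoh_pullback _ F₀ hFq)
    (H06EGA9.isFP_pullback _ hF₀) D' c' hc' hD' z hz'
  let pY := pullback.fst g₀ (D.map j.hom)
  let vY : Y ⟶ pullback g₀ (D.map j.hom) := pullback.lift qY (g ≫ c.π.app j.left)
    (by rw [Category.assoc, c.w, hY.w])
  let vX : X ⟶ pullback f₀ pY := pullback.lift qX (f ≫ vY)
    (by rw [Category.assoc, pullback.lift_fst, hX.w])
  refine ⟨j.left, j.hom, pullback f₀ pY, pullback g₀ (D.map j.hom), pullback.snd f₀ pY,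
    pullback.snd g₀ (D.map j.hom), pY, pullback.fst f₀ pY, vY, vX, IsPullback.of_hasPullback _ _,
    IsPullback.of_hasPullback _ _, pullback.lift_fst _ _ _, pullback.lift_snd _ _ _, pullback.lift_fst _ _ _,
    pullback.lift_snd _ _ _, ?_⟩
  let jj : pullback a (D.map j.hom) ⟶ pullback g₀ (D.map j.hom) :=
    pullback.lift (pullback.fst _ _ ≫ V.ι) (pullback.snd _ _) (by rw [Category.assoc]; exact pullback.condition)
  have hjj : IsPullback jj (pullback.fst a (D.map j.hom)) pY V.ι := by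
    have h1 : IsPullback (pullback.fst a (D.map j.hom)) (jj ≫ pullback.snd g₀ (D.map j.hom)) (V.ι ≫ g₀)
        (D.map j.hom) := by
      rw [pullback.lift_snd]
      exact IsPullback.of_hasPullback _ _
    exact (IsPullback.of_bot h1 (pullback.lift_fst _ _ _).symm (IsPullback.of_hasPullback _ _)).flip
  have key := (isFlatOverAt_restrict_iff e (IsPullback.of_hasPullback f₀ pY) hjj F₀ _).1 hj
  have hcomp : PicF.XTmap f' (c'.π.app j) ≫ restrictMap e (IsPullback.of_hasPullback f₀ pY) hjj = m ≫ vX := by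
    apply pullback.hom_ext
    · rw [Category.assoc, restrictMap_fst, Category.assoc, pullback.lift_fst, restrictMap_fst,
        ← Category.assoc, FGA.XTmap_fst]
      rfl
    · rw [Category.assoc, restrictMap_snd, Category.assoc, pullback.lift_snd, ← Category.assoc m,
        restrictMap_snd, ← Category.assoc, (H8Props.FunDescent.isPullback_XTmap f' (c'.π.app j)).w, Category.assoc]
      erw [Category.assoc]
      congr 1
      apply pullback.hom_ext
      · simp [jj, c', vY, jY, pY, hY.lift_fst]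
      · simp [jj, c', vY, jY, hY.lift_snd_assoc]
  rw [← hz, ← Scheme.Hom.comp_apply, ← hcomp, Scheme.Hom.comp_apply]
  exact key

end Groth.Agent.H06EGA11c
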