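import Groth.Agent.H06EGA11c.KerBC
import Groth.Agent.H06EGA11c.GermStage
import Groth.Agent.H06EGA11c.StagePoint
import Groth.Agent.H06EGA11.InjFlat
import Groth.Agent.H7Lim.ModExact

/-!
Injectivity with flat cokernel at a point of a limit descends to a stage (EGA IV 11.3.7).
-/

set_option autoImplicit false
set_option linter.style.haveILetI false
set_option backward.isDefEq.respectTransparency false

universe u

open CategoryTheory Limits AlgebraicGeometry TopologicalSpace Opposite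

namespace Groth.Agent.H06EGA11c

variable {X Y Z : Scheme.{u}}

theorem stalkLin_comp {M N P : X.Modules} (φ : M ⟶ N) (ψ : N ⟶ P) (x : X) (a : M.presheaf.stalk x) :
    H06Mod.stalkLin (φ ≫ ψ) x a = H06Mod.stalkLin ψ x (H06Mod.stalkLin φ x a) := by
  obtain ⟨U, hU, a, rfl⟩ := M.presheaf.exists_germ_eq a
  rw [H06Mod.stalkLin_germ, H06Mod.stalkLin_germ, H06Mod.stalkLin_germ]
  rfl

theorem stalkLin_id (M : X.Modules) (x : X) (a : M.presheaf.stalk x) : H06Mod.stalkLin (𝟙 M) x a = a := by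
  obtain ⟨U, hU, a, rfl⟩ := M.presheaf.exists_germ_eq a
  rw [H06Mod.stalkLin_germ]
  rfl

theorem injective_stalkLin_iso {M N M' N' : X.Modules} {φ : M ⟶ N} {φ' : M' ⟶ N'} (a : M ≅ M') (b : N ≅ N')
    (w : a.hom ≫ φ' = φ ≫ b.hom) (x : X) :
    Function.Injective (H06Mod.stalkLin φ x) ↔ Function.Injective (H06Mod.stalkLin φ' x) := by
  have inv : ∀ {P Q : X.Modules} (e : P ≅ Q) (z : P.presheaf.stalk x),
      H06Mod.stalkLin e.inv x (H06Mod.stalkLin e.hom x z) = z := fun e z => by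
    rw [← stalkLin_comp, e.hom_inv_id, stalkLin_id]
  constructor <;> intro h z₁ z₂ hz
  · have h1 : φ' = a.inv ≫ φ ≫ b.hom := by rw [← w, a.inv_hom_id_assoc]
    rw [h1, stalkLin_comp, stalkLin_comp, stalkLin_comp, stalkLin_comp] at hz
    have h2 := congrArg (H06Mod.stalkLin b.inv x) hz
    rw [inv, inv] at h2
    have h3 := congrArg (H06Mod.stalkLin a.hom x) (h h2)
    rwa [← stalkLin_comp, ← stalkLin_comp, a.inv_hom_id, stalkLin_id, stalkLin_id] at h3
  · have h1 : φ = a.hom ≫ φ' ≫ b.inv := by rw [reassoc_of% w, b.hom_inv_id, Category.comp_id]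
    rw [h1, stalkLin_comp, stalkLin_comp, stalkLin_comp, stalkLin_comp] at hz
    have h2 := congrArg (H06Mod.stalkLin b.hom x) hz
    rw [← stalkLin_comp b.inv, ← stalkLin_comp b.inv, b.inv_hom_id, stalkLin_id, stalkLin_id] at h2
    have h3 := congrArg (H06Mod.stalkLin a.inv x) (h h2)
    rwa [inv, inv] at h3

theorem injective_stalkLin_comp_iff (a : X ⟶ Y) (b : Y ⟶ Z) (q : X ⟶ Z) (h : a ≫ b = q) {M N : Z.Modules}
    (φ : M ⟶ N) (x : X) :
    Function.Injective (H06Mod.stalkLin ((Scheme.Modules.pullback a).map ((Scheme.Modules.pullback b).map φ)) x) ↔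
      Function.Injective (H06Mod.stalkLin ((Scheme.Modules.pullback q).map φ) x) :=
  let η := Scheme.Modules.pullbackComp a b ≪≫ Scheme.Modules.pullbackCongr h
  injective_stalkLin_iso (η.app M) (η.app N) (η.hom.naturality φ).symm x

theorem isFlatOverAt_pullback_cokernel_iff (q : X ⟶ Z) (f : X ⟶ Y) {M N : Z.Modules} (φ : M ⟶ N) (x : X) :
    FlatMod.IsFlatOverAt f (cokernel ((Scheme.Modules.pullback q).map φ)) x ↔
      FlatMod.IsFlatOverAt f ((Scheme.Modules.pullback q).obj (cokernel φ)) x :=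
  haveI := H7Lim.ModExact.preservesFiniteColimits_pullback q
  H06EGA9.isFlatOverAt_congr_iso f (PreservesCokernel.iso (Scheme.Modules.pullback q) φ).symm x

/-- The kernel near a point with flat cokernel is generated by finitely many sections. -/
theorem exists_ker_generators (f : X ⟶ Y) [LocallyOfFinitePresentation f] {M N : X.Modules}
    (hM : CohB1.IsFP M) (hN : CohB1.IsFP N) (φ : M ⟶ N) (x : X)
    (h : FlatMod.IsFlatOverAt f (cokernel φ) x) :
    ∃ (U : X.Opens) (hx : x ∈ U) (s : Finset Γ(M, U)), IsAffineOpen U ∧ (∀ m ∈ s, φ.app U m = 0) ∧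
      ∀ z : M.presheaf.stalk x, H06Mod.stalkLin φ x z = 0 →
        z ∈ Submodule.span (X.presheaf.stalk x) (M.presheaf.germ U x hx '' (s : Set Γ(M, U))) := by
  classical
  haveI : M.IsQuasicoherent := H29Fitt.isQCoh_of_isFP M hM
  haveI : N.IsQuasicoherent := H29Fitt.isQCoh_of_isFP N hN
  haveI := H10Coh.isQuasicoherent_cokernel φ
  have hC := H06EGA11.isFP_cokernel hN hM φ
  let L : X.Opens := ⟨_, H8Props.FlatLocus.isOpen_setOf_isFlatOverAt f (cokernel φ) hC⟩
  obtain ⟨W, hW, hxW, -⟩ := exists_isAffineOpen_mem_and_subset (U := (⊤ : Y.Opens)) (x := f x) trivial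
  obtain ⟨U, hU, hxU, hle⟩ := exists_isAffineOpen_mem_and_subset (U := L ⊓ f ⁻¹ᵁ W) (x := x) ⟨h, hxW⟩
  have hUL : ∀ y ∈ U, y ∈ L := fun y hy => (hle hy).1
  have hUW : U ≤ f ⁻¹ᵁ W := fun y hy => (hle hy).2
  haveI := H17.FPExt.fpAt_of_isFP hM hU
  haveI := H17.FPExt.fpAt_of_isFP hN hU
  haveI := H17.FPExt.fpAt_of_isFP hC hU
  haveI : Module.FinitePresentation Γ(X, U) Γ(M, U) := H17.FPExt.fpAt_of_isFP hM hU
  haveI : Module.FinitePresentation Γ(X, U) Γ(N, U) := H17.FPExt.fpAt_of_isFP hN hU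
  haveI : Module.FinitePresentation Γ(X, U) Γ(cokernel φ, U) := H17.FPExt.fpAt_of_isFP hC hU
  letI := Module.compHom Γ(cokernel φ, U) (f.appLE W U hUW).hom
  letI := (f.appLE W U hUW).hom.toAlgebra
  haveI : IsScalarTower Γ(Y, W) Γ(X, U) Γ(cokernel φ, U) := .of_algebraMap_smul fun _ _ => rfl
  haveI : Algebra.FinitePresentation Γ(Y, W) Γ(X, U) :=
    HasRingHomProperty.appLE @LocallyOfFinitePresentation f ‹_› ⟨W, hW⟩ ⟨U, hU⟩ hUW
  haveI : Module.Flat Γ(Y, W) Γ(cokernel φ, U) :=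
    H06EGA11.flat_sections f (cokernel φ) ‹_› hW hU hUW hUL
  obtain ⟨hsur, hex⟩ := H06EGA11.exact_sections_cokernel φ hU
  haveI := H06EGA11.finitePresentation_ker (A := Γ(Y, W)) (H29Fitt.appLin (cokernel.π φ) U) hsur
  let ψ := H29Fitt.appLin φ U
  haveI : Module.FinitePresentation Γ(X, U) (LinearMap.range ψ) := hex ▸ ‹_›
  have hfg : (LinearMap.ker ψ).FG := by
    rw [← LinearMap.ker_rangeRestrict]
    exact Module.FinitePresentation.fg_ker _ ψ.surjective_rangeRestrict
  obtain ⟨K, hK⟩ := hfg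
  have hK0 : ∀ m ∈ K, φ.app U m = 0 := fun m hm =>
    (LinearMap.mem_ker.1 (hK ▸ Submodule.subset_span hm : m ∈ LinearMap.ker ψ) :)
  refine ⟨U, hxU, K, hU, hK0, fun z hz => ?_⟩
  obtain ⟨t, m, ht, htz⟩ := H17.AssPts.exists_smul_germ_eq M ‹_› hU hxU z
  have h0 : N.presheaf.germ U x hxU (φ.app U m) = 0 := by
    rw [← H06Mod.stalkLin_germ, ← htz, map_smul, hz, smul_zero]
  obtain ⟨v, hv, hvm⟩ := H17.AssPts.exists_smul_eq_zero_of_germ N ‹_› hU hxU h0
  have hker : v • m ∈ Submodule.span Γ(X, U) (K : Set Γ(M, U)) := by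
    rw [hK, LinearMap.mem_ker, map_smul]
    exact hvm
  have key : ∀ n ∈ Submodule.span Γ(X, U) (K : Set Γ(M, U)), M.presheaf.germ U x hxU n ∈
      Submodule.span (X.presheaf.stalk x) (M.presheaf.germ U x hxU '' (K : Set Γ(M, U))) := by
    intro n hn
    induction hn using Submodule.span_induction with
    | mem k hk => exact Submodule.subset_span ⟨k, hk, rfl⟩
    | zero => rw [map_zero]; exact Submodule.zero_mem _
    | add a b _ _ ha hb => rw [map_add]; exact Submodule.add_mem _ ha hb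
    | smul r a _ ha => rw [H06Mod.germ_smul]; exact Submodule.smul_mem _ _ ha
  have h1 := key _ hker
  rw [H06Mod.germ_smul, ← htz, smul_smul] at h1
  exact (Submodule.smul_mem_iff_of_isUnit _ (((H17.AssPts.isUnit_germ_iff hxU v).2 hv).mul
    ((H17.AssPts.isUnit_germ_iff hxU t).2 ht))).1 h1

variable {I : Type u} [SmallCategory I] {D : I ⥤ Scheme.{u}} {i₀ : I} {X₀ Y₀ : Scheme.{u}}

/-- The base change of `f₀` to a stage, on the base change of the composite. -/
noncomputable def stageHom (f₀ : X₀ ⟶ Y₀) (g₀ : Y₀ ⟶ D.obj i₀) (j : Over i₀) :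
    (H7Lim.pbDiagram D i₀ (f₀ ≫ g₀)).obj j ⟶ pullback g₀ (D.map j.hom) :=
  pullback.lift (pullback.fst _ _ ≫ f₀) (pullback.snd _ _) (by rw [Category.assoc]; exact pullback.condition)

theorem isPullback_stageHom (f₀ : X₀ ⟶ Y₀) (g₀ : Y₀ ⟶ D.obj i₀) (j : Over i₀) :
    IsPullback (pullback.fst (f₀ ≫ g₀) (D.map j.hom)) (stageHom f₀ g₀ j) f₀ (pullback.fst g₀ (D.map j.hom)) := by
  have h1 : IsPullback (pullback.fst (f₀ ≫ g₀) (D.map j.hom))
      (stageHom f₀ g₀ j ≫ pullback.snd g₀ (D.map j.hom)) (f₀ ≫ g₀) (D.map j.hom) := by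
    rw [stageHom, pullback.lift_snd]
    exact IsPullback.of_hasPullback _ _
  exact IsPullback.of_bot h1 (pullback.lift_fst _ _ _).symm (IsPullback.of_hasPullback _ _)

set_option maxHeartbeats 2000000 in
/-- Injectivity and flatness of the cokernel at a point descend to a stage. -/
theorem exists_stage_injective [IsCofiltered I] [∀ (i j : I) (φ : i ⟶ j), IsAffineHom (D.map φ)]
    (c : Cone D) (hc : IsLimit c) (f₀ : X₀ ⟶ Y₀) (g₀ : Y₀ ⟶ D.obj i₀) [LocallyOfFinitePresentation f₀]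
    {F₀ G₀ : X₀.Modules} (hF₀ : CohB1.IsFP F₀) (hG₀ : CohB1.IsFP G₀) (h₀ : F₀ ⟶ G₀)
    {X Y : Scheme.{u}} {f : X ⟶ Y} {g : Y ⟶ c.pt} {qY : Y ⟶ Y₀} {qX : X ⟶ X₀}
    (hY : IsPullback qY g g₀ (c.π.app i₀)) (hX : IsPullback qX f f₀ qY) (x : X)
    (hinj : Function.Injective (H06Mod.stalkLin ((Scheme.Modules.pullback qX).map h₀) x))
    (hflat : FlatMod.IsFlatOverAt f ((Scheme.Modules.pullback qX).obj (cokernel h₀)) x) :
    ∃ (i : I) (φ : i ⟶ i₀) (Xi Yi : Scheme.{u}) (fi : Xi ⟶ Yi) (gi : Yi ⟶ D.obj i)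
        (pY : Yi ⟶ Y₀) (pX : Xi ⟶ X₀) (vY : Y ⟶ Yi) (vX : X ⟶ Xi),
        IsPullback pY gi g₀ (D.map φ) ∧ IsPullback pX fi f₀ pY ∧
          vY ≫ pY = qY ∧ vY ≫ gi = g ≫ c.π.app i ∧ vX ≫ pX = qX ∧ vX ≫ fi = f ≫ vY ∧
          Function.Injective (H06Mod.stalkLin ((Scheme.Modules.pullback pX).map h₀) (vX x)) ∧
          FlatMod.IsFlatOverAt fi ((Scheme.Modules.pullback pX).obj (cokernel h₀)) (vX x) := by
  classical
  have hCfp : CohB1.IsFP (cokernel h₀) := H06EGA11.isFP_cokernel hG₀ hF₀ h₀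
  obtain ⟨i, φ, Xi, Yi, fi, gi, pY, pX, vY, vX, hYi, hXi, e1, e2, e3, e4, hfl⟩ :=
    exists_stage_isFlatOverAt D c hc i₀ f₀ g₀ (cokernel h₀) (H29Fitt.isQCoh_of_isFP _ hCfp) hCfp hY hX x hflat
  let a := f₀ ≫ g₀
  let P := H7Lim.pbDiagram D i₀ a
  let pc := H7Lim.pbCone D c i₀ a
  have hXY : IsPullback qX (f ≫ g) a (c.π.app i₀) := hX.paste_vert hY
  let e : X ≅ pc.pt := hXY.isoPullback
  let c' : Cone P := pc.extend e.hom
  have hc' : IsLimit c' := (H7Lim.isLimitPbCone D i₀ a hc).extendIso e.hom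
  haveI : ∀ (j k : Over i₀) (ψ : j ⟶ k), IsAffineHom (P.map ψ) := fun j k ψ =>
    H7Lim.isAffineHom_pbDiagram_map D i₀ a j k ψ
  let q : ∀ j : Over i₀, P.obj j ⟶ X₀ := fun j => pullback.fst a (D.map j.hom)
  have hπq : ∀ j : Over i₀, c'.π.app j ≫ q j = qX := fun j => by
    simp [c', pc, q, P, e]
  have hπs : ∀ j : Over i₀, c'.π.app j ≫ pullback.snd a (D.map j.hom) = (f ≫ g) ≫ c.π.app j.left := fun j => by
    simp [c', pc, P, e, pullback.map]
  let w : ∀ j : Over i₀, Y ⟶ pullback g₀ (D.map j.hom) := fun j =>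
    pullback.lift qY (g ≫ c.π.app j.left) (by rw [Category.assoc, c.w, hY.w])
  have hπw : ∀ j : Over i₀, c'.π.app j ≫ stageHom f₀ g₀ j = f ≫ w j := fun j => by
    apply pullback.hom_ext
    · rw [Category.assoc, Category.assoc, pullback.lift_fst, stageHom, pullback.lift_fst, ← Category.assoc]
      erw [hπq j]
      exact hX.w
    · rw [Category.assoc, Category.assoc, pullback.lift_snd, stageHom, pullback.lift_snd]
      erw [hπs j]
      rw [Category.assoc]
  -- transfer of the flatness to the chosen model of the stage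
  let r : Over i₀ := Over.mk φ
  have hXiD : IsPullback pX (fi ≫ gi) a (D.map φ) := hXi.paste_vert hYi
  let s : P.obj r ⟶ Xi := hXiD.lift (q r) (pullback.snd _ _) pullback.condition
  let t : pullback g₀ (D.map r.hom) ⟶ Yi := hYi.lift (pullback.fst _ _) (pullback.snd _ _) pullback.condition
  have hst : IsPullback s (stageHom f₀ g₀ r) fi t := by
    refine IsPullback.of_right (by rw [hXiD.lift_fst, hYi.lift_fst]; exact isPullback_stageHom f₀ g₀ r) ?_ hXi
    apply hYi.hom_ext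
    · rw [Category.assoc, ← hXi.w, ← Category.assoc, hXiD.lift_fst, Category.assoc, hYi.lift_fst, stageHom,
        pullback.lift_fst]
    · rw [Category.assoc, hXiD.lift_snd, Category.assoc, hYi.lift_snd, stageHom, pullback.lift_snd]
  have hsx : s (c'.π.app r x) = vX x := by
    rw [← Scheme.Hom.comp_apply]
    refine congrArg (fun m : X ⟶ Xi => m x) ?_
    refine hXiD.hom_ext ?_ ?_
    · rw [Category.assoc, hXiD.lift_fst, e3]
      exact hπq r
    · rw [Category.assoc, hXiD.lift_snd, ← Category.assoc vX, e4, Category.assoc, e2, ← Category.assoc]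
      exact hπs r
  have hr : FlatMod.IsFlatOverAt (stageHom f₀ g₀ r) ((Scheme.Modules.pullback (q r)).obj (cokernel h₀))
      (c'.π.app r x) :=
    (H06EGA9.isFlatOverAt_congr_iso _ ((Scheme.Modules.pullbackComp s pX).app _ ≪≫
      (Scheme.Modules.pullbackCongr (hXiD.lift_fst _ _ _)).app _) _).1
      (H06EGA9.isFlatOverAt_of_isPullback hst _ _ (by rw [hsx]; exact hfl))
  haveI : LocallyOfFinitePresentation (stageHom f₀ g₀ r) :=
    MorphismProperty.of_isPullback (isPullback_stageHom f₀ g₀ r) ‹LocallyOfFinitePresentation f₀›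
  let M := (Scheme.Modules.pullback (q r)).obj F₀
  let hM := (Scheme.Modules.pullback (q r)).map h₀
  have hr' : FlatMod.IsFlatOverAt (stageHom f₀ g₀ r) (cokernel hM) (c'.π.app r x) :=
    (isFlatOverAt_pullback_cokernel_iff (q r) _ h₀ _).2 hr
  obtain ⟨U, hxU, S, hU, hS0, hSgen⟩ := exists_ker_generators (stageHom f₀ g₀ r)
    (H06EGA9.isFP_pullback (q r) hF₀) (H06EGA9.isFP_pullback (q r) hG₀) hM (c'.π.app r x) hr'
  have hinjr : Function.Injective (H06Mod.stalkLin ((Scheme.Modules.pullback (c'.π.app r)).map hM) x) :=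
    (injective_stalkLin_comp_iff (c'.π.app r) (q r) qX (hπq r) h₀ x).2 hinj
  obtain ⟨j, hj, hj0⟩ := exists_stage_pullStalk_eq_zero hc' M
    (H29Fitt.isQCoh_of_isFP _ (H06EGA9.isFP_pullback (q r) hF₀)) hU x hxU S fun m hm => by
      refine hinjr ?_
      rw [map_zero]
      refine (H06Mod.pullStalk_naturality (c'.π.app r) M x hM _).trans ?_
      rw [show (TopCat.Presheaf.stalkFunctor Ab.{u} (c'.π.app r x)).map hM.mapPresheaf
        (M.presheaf.germ U (c'.π.app r x) hxU m) = _ from H06Mod.stalkLin_germ hM _ U hxU m, hS0 m hm,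
        map_zero, map_zero]
  let l : Over i₀ := j.left
  let y := c'.π.app l x
  have hpt : P.map j.hom y = c'.π.app r x := by
    rw [← Scheme.Hom.comp_apply, c'.w]
    rfl
  have hgen0 : ∀ p, p = c'.π.app r x → ∀ (hp : p ∈ U), ∀ z : M.presheaf.stalk p, H06Mod.stalkLin hM p z = 0 →
      z ∈ Submodule.span ((P.obj r).presheaf.stalk p) (M.presheaf.germ U p hp '' (S : Set Γ(M, U))) := by
    rintro p rfl hp
    exact hSgen
  have hgen := hgen0 _ hpt hj
  have hsq : IsPullback (P.map j.hom) (stageHom f₀ g₀ l) (stageHom f₀ g₀ r)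
      (pullback.map g₀ (D.map l.hom) g₀ (D.map r.hom) (𝟙 _) (D.map j.hom.left) (𝟙 _) (by simp)
        (by rw [Category.comp_id, ← D.map_comp, Over.w j.hom])) := by
    refine IsPullback.of_right ?_ ?_ (isPullback_stageHom f₀ g₀ r)
    · rw [show P.map j.hom ≫ pullback.fst (f₀ ≫ g₀) (D.map r.hom) = pullback.fst (f₀ ≫ g₀) (D.map l.hom) from
        (pullback.lift_fst _ _ _).trans (Category.comp_id _), pullback.lift_fst, Category.comp_id]
      exact isPullback_stageHom f₀ g₀ l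
    · apply pullback.hom_ext
      · rw [Category.assoc, Category.assoc, stageHom, pullback.lift_fst, stageHom, pullback.lift_fst,
          pullback.lift_fst_assoc, Category.comp_id]
        exact (pullback.lift_fst_assoc _ _ _ _).trans (by erw [Category.comp_id])
      · rw [Category.assoc, Category.assoc, stageHom, pullback.lift_snd, stageHom, pullback.lift_snd,
          pullback.lift_snd_assoc]
        exact pullback.lift_snd _ _ _
  have hPq : P.map j.hom ≫ q r = q l := by simp [P, q, l]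
  refine ⟨l.left, l.hom, P.obj l, pullback g₀ (D.map l.hom), stageHom f₀ g₀ l, pullback.snd _ _,
    pullback.fst _ _, q l, w l, c'.π.app l, IsPullback.of_hasPullback _ _, isPullback_stageHom f₀ g₀ l,
    pullback.lift_fst _ _ _, pullback.lift_snd _ _ _, hπq l, hπw l, ?_, ?_⟩
  · refine (injective_stalkLin_comp_iff (P.map j.hom) (q r) (q l) hPq h₀ y).1
      ((injective_iff_map_eq_zero _).2 fun z hz => ?_)
    refine (Submodule.span_eq_bot.2 ?_).le
      (ker_stalkLin_pullback hsq hM y (by rw [hpt]; exact hr') z hz)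
    rintro _ ⟨⟨m, hm⟩, rfl⟩
    have hm' := hgen m (LinearMap.mem_ker.1 hm)
    show H06Mod.pullStalk (P.map j.hom) M y m = 0
    clear hm
    induction hm' using Submodule.span_induction with
    | mem k hk =>
      obtain ⟨k, hk, rfl⟩ := hk
      exact hj0 k hk
    | zero => exact map_zero _
    | add a b _ _ ha hb => rw [map_add, ha, hb, add_zero]
    | smul b a _ ha => rw [H06Mod.pullStalk_smul, ha, smul_zero]
  · exact (H06EGA9.isFlatOverAt_congr_iso _ ((Scheme.Modules.pullbackComp (P.map j.hom) (q r)).app _ ≪≫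
      (Scheme.Modules.pullbackCongr hPq).app _) y).1
      (H06EGA9.isFlatOverAt_of_isPullback hsq _ y (by rw [hpt]; exact hr))

end Groth.Agent.H06EGA11c
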