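import Groth.Agent.H06EGA11c.ProperDescent
import Groth.Agent.H7Lim.Approx.IntegralSystem
import Groth.Agent.H7Lim.Points
import Groth.Agent.H06EGA9.StructureStalk

/-!
Descent of flatness along an integral extension of the base (EGA IV 11.5.4).
-/

set_option autoImplicit false
set_option linter.style.haveILetI false
set_option backward.isDefEq.respectTransparency false

universe u

open CategoryTheory Limits AlgebraicGeometry TopologicalSpace Opposite

namespace Groth.Agent.H06EGA11c

set_option maxHeartbeats 1000000 in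
/-- Flatness descends along an integral morphism injective on functions, affine base. -/
theorem flat_stalkMap_of_integral_injective {S S' X : Scheme.{u}} [IsAffine S] (f : X ⟶ S)
    [LocallyOfFinitePresentation f] (gA : S' ⟶ S) [IsIntegralHom gA] (hinj : Function.Injective gA.appTop) (x : X)
    (h : ∀ x' : ↥(pullback f gA), pullback.fst f gA x' = x → ((pullback.snd f gA).stalkMap x').hom.Flat) :
    (f.stalkMap x).hom.Flat := by
  classical
  obtain ⟨I, _, _, _, D, c₀, hc₀, hfin, ⟨e⟩⟩ := H7Lim.Approx.exists_finite_fp_system gA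
  obtain ⟨hd₀⟩ := H7Lim.Approx.nonempty_isLimit_forget hc₀
  let E : Iᵒᵖ ⥤ Scheme.{u} := D ⋙ Over.forget S
  let h' : ∀ j, E.obj j ⟶ S := fun j => (D.obj j).hom
  haveI : IsIso e.inv.left := inferInstanceAs (IsIso ((Over.forget S).map e.inv))
  let d : Cone E := ((Over.forget S).mapCone c₀).extend (show S' ⟶ ((Over.forget S).mapCone c₀).pt from e.inv.left)
  have hd : IsLimit d := hd₀.extendIso (show S' ⟶ ((Over.forget S).mapCone c₀).pt from e.inv.left)
  have hdπ : ∀ j, d.π.app j ≫ h' j = gA := fun j => by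
    show (e.inv.left ≫ (c₀.π.app j).left) ≫ (D.obj j).hom = gA
    rw [Category.assoc, Over.w (c₀.π.app j)]
    exact Over.w e.inv
  have hfinE : ∀ j, IsFinite (h' j) := fun j => (hfin j).1
  haveI : ∀ j, LocallyOfFinitePresentation (h' j) := fun j => (hfin j).2
  haveI : ∀ j, IsFinite (h' j) := hfinE
  haveI : ∀ (i j : Iᵒᵖ) (φ : i ⟶ j), IsFinite (E.map φ) := fun i j φ => by
    refine MorphismProperty.of_postcomp (W' := @IsSeparated) (W := @IsFinite) (E.map φ) (h' j) inferInstance ?_
    rw [show E.map φ ≫ h' j = h' i from Over.w (D.map φ)]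
    infer_instance
  haveI : ∀ (i j : Iᵒᵖ) (φ : i ⟶ j), IsAffineHom (E.map φ) := fun i j φ => inferInstance
  obtain ⟨i₀⟩ := IsCofiltered.nonempty (C := Iᵒᵖ)
  let f₀ : pullback f (h' i₀) ⟶ E.obj i₀ := pullback.snd f (h' i₀)
  haveI : LocallyOfFinitePresentation f₀ := MorphismProperty.pullback_snd _ _ inferInstance
  let W := pullback f gA
  let qW : W ⟶ pullback f (h' i₀) := pullback.lift (pullback.fst f gA) (pullback.snd f gA ≫ d.π.app i₀)
    (by rw [pullback.condition, Category.assoc, hdπ])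
  have hqW : IsPullback qW (pullback.snd f gA) f₀ (d.π.app i₀) := by
    refine IsPullback.of_right (h₁₂ := pullback.fst f (h' i₀)) (h₂₂ := h' i₀) (v₁₃ := f) ?_ (pullback.lift_snd _ _ _)
      (IsPullback.of_hasPullback _ _)
    rw [pullback.lift_fst, hdπ]
    exact IsPullback.of_hasPullback f gA
  let Q := H7Lim.pbDiagram E i₀ f₀
  let pc := H7Lim.pbCone E d i₀ f₀
  let c' : Cone Q := pc.extend (show W ⟶ pc.pt from hqW.isoPullback.hom)
  haveI : IsIso (show W ⟶ pc.pt from hqW.isoPullback.hom) := inferInstanceAs (IsIso hqW.isoPullback.hom)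
  have hc' : IsLimit c' := (H7Lim.isLimitPbCone E i₀ f₀ hd).extendIso (show W ⟶ pc.pt from hqW.isoPullback.hom)
  have hv1 : ∀ l : Over i₀, c'.π.app l ≫ pullback.fst f₀ (E.map l.hom) = qW := fun l => by
    simp [c', pc, Q]
  have hv2 : ∀ l : Over i₀, c'.π.app l ≫ pullback.snd f₀ (E.map l.hom) = pullback.snd f gA ≫ d.π.app l.left := by
    intro l
    simp [c', pc, Q, pullback.map]
  let G₀ := Coh.structureModule (pullback f (h' i₀))
  have hG₀ : CohB1.IsFP G₀ := H06EGA9.isFP_structureModule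
  let Good : ∀ l : Over i₀, Set (Q.obj l) := fun l => {z | ((pullback.snd f₀ (E.map l.hom)).stalkMap z).hom.Flat}
  have hpt : ∀ w : W, pullback.fst f gA w = x → ∃ l, c'.π.app l w ∈ Good l := fun w hw => by
    obtain ⟨j, hj⟩ := exists_stage_isFlatOverAt' E d hd i₀ f₀ (𝟙 (E.obj i₀)) G₀
      (H29Fitt.isQCoh_of_isFP _ hG₀) hG₀ (g := 𝟙 d.pt) (qY := d.π.app i₀)
      (IsPullback.of_vert_isIso ⟨(Category.comp_id _).trans (Category.id_comp _).symm⟩) hqW w
      ((H06EGA9.isFlatOverAt_pullback_structure_iff _ _ w).2 (h w hw))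
    refine ⟨j, ?_⟩
    let t : E.obj j.left ⟶ pullback (𝟙 (E.obj i₀)) (E.map j.hom) :=
      pullback.lift (E.map j.hom) (𝟙 _) (by rw [Category.comp_id, Category.id_comp])
    let kk : Q.obj j ⟶ pullback f₀ (pullback.fst (𝟙 (E.obj i₀)) (E.map j.hom)) :=
      pullback.lift (pullback.fst _ _) (pullback.snd _ _ ≫ t)
        (by rw [Category.assoc, pullback.lift_fst]; exact pullback.condition)
    have hkk : IsPullback kk (pullback.snd f₀ (E.map j.hom))
        (pullback.snd f₀ (pullback.fst (𝟙 (E.obj i₀)) (E.map j.hom))) t :=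
      IsPullback.of_right (by rw [pullback.lift_fst, pullback.lift_fst]; exact IsPullback.of_hasPullback _ _)
        (pullback.lift_snd _ _ _) (IsPullback.of_hasPullback _ _)
    have h1 := hj (c'.π.app j ≫ kk) (by rw [Category.assoc, pullback.lift_fst]; exact hv1 j) (by
      rw [Category.assoc, pullback.lift_snd_assoc, Category.assoc, pullback.lift_snd, Category.comp_id,
        Category.id_comp]
      exact hv2 j)
    have h2 := (H06EGA9.isFlatOverAt_structureModule_iff _ _).2
      ((H06EGA9.isFlatOverAt_pullback_structure_iff _ _ _).1 h1)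
    exact (H06EGA9.isFlatOverAt_pullback_structure_iff _ kk _).1 (H06EGA9.isFlatOverAt_of_isPullback hkk _ _ h2)
  have hstab : ∀ {j l : Over i₀} (ψ : l ⟶ j) (z : Q.obj l), Q.map ψ z ∈ Good j → z ∈ Good l := by
    intro j l ψ z hz
    have hsq : IsPullback (Q.map ψ) (pullback.snd f₀ (E.map l.hom)) (pullback.snd f₀ (E.map j.hom)) (E.map ψ.left) := by
      refine IsPullback.of_right (h₁₂ := pullback.fst f₀ (E.map j.hom)) (h₂₂ := E.map j.hom) (v₁₃ := f₀) ?_ (by simp [Q, pullback.map])
        (IsPullback.of_hasPullback _ _)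
      rw [← E.map_comp, Over.w ψ]
      simp only [Q, H7Lim.pbDiagram_map, pullback.map, pullback.lift_fst, Category.comp_id]
      exact IsPullback.of_hasPullback _ _
    exact (H06EGA9.isFlatOverAt_pullback_structure_iff _ _ _).1
      (H06EGA9.isFlatOverAt_of_isPullback hsq _ z ((H06EGA9.isFlatOverAt_structureModule_iff _ _).2 hz))
  let toX : ∀ l : Over i₀, Q.obj l ⟶ X := fun l => pullback.fst f₀ (E.map l.hom) ≫ pullback.fst f (h' i₀)
  have hQfin : ∀ l : Over i₀, ((toX l) ⁻¹' {x}).Finite := fun l => by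
    haveI : IsFinite (pullback.fst f₀ (E.map l.hom)) := MorphismProperty.pullback_fst _ _ inferInstance
    haveI : IsFinite (pullback.fst f (h' i₀)) := MorphismProperty.pullback_fst _ _ inferInstance
    exact (toX l).finite_preimage_singleton x
  have hQx : ∀ {j l : Over i₀} (ψ : l ⟶ j) (z : Q.obj l), toX l z = x → toX j (Q.map ψ z) = x := by
    intro j l ψ z hz
    rw [← Scheme.Hom.comp_apply, show Q.map ψ ≫ toX j = toX l by simp [toX, Q, pullback.map]]
    exact hz
  obtain ⟨l, hl⟩ : ∃ l : Over i₀, ∀ z : Q.obj l, toX l z = x → z ∈ Good l := by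
    by_contra hne
    push_neg at hne
    let F : Over i₀ ⥤ Type u :=
      { obj := fun l => {z : Q.obj l // toX l z = x ∧ z ∉ Good l}
        map := fun ψ => TypeCat.ofHom fun z => ⟨Q.map ψ z.1, hQx ψ z.1 z.2.1, fun hz => z.2.2 (hstab ψ z.1 hz)⟩
        map_id := fun l => by ext z; simp
        map_comp := fun ψ φ => by ext z; simp }
    haveI : ∀ l, Finite (F.obj l) := fun l =>
      ((hQfin l).subset fun z (hz : toX l z = x ∧ z ∉ Good l) => hz.1).to_subtype
    haveI : ∀ l, Nonempty (F.obj l) := fun l => let ⟨z, hz, hz'⟩ := hne l; ⟨⟨z, hz, hz'⟩⟩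
    obtain ⟨s, hs⟩ := nonempty_sections_of_finite_cofiltered_system F
    haveI : ∀ (i j : Over i₀) (φ : i ⟶ j), IsAffineHom (Q.map φ) := fun i j φ =>
      H7Lim.isAffineHom_pbDiagram_map E i₀ f₀ i j φ
    obtain ⟨w, hw⟩ := H7Lim.exists_π_app_eq hc' (fun l => (s l).1) fun j k φ => congrArg Subtype.val (hs φ)
    have hwx : pullback.fst f gA w = x := by
      have h1 := (s (Over.mk (𝟙 i₀))).2.1
      rw [← hw, ← Scheme.Hom.comp_apply,
        show c'.π.app (Over.mk (𝟙 i₀)) ≫ toX (Over.mk (𝟙 i₀)) = pullback.fst f gA by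
          show c'.π.app _ ≫ pullback.fst _ _ ≫ pullback.fst f (h' i₀) = _
          rw [← Category.assoc]
          erw [hv1]
          exact pullback.lift_fst _ _ _] at h1
      exact h1
    obtain ⟨l, hl⟩ := hpt w hwx
    rw [hw l] at hl
    exact (s l).2.2 hl
  let g := h' l.left
  have hgi : g = E.map l.hom ≫ h' i₀ := (Over.w (D.map l.hom)).symm
  refine (H06EGA9.isFlatOverAt_structureModule_iff f x).1
    (isFlatOverAt_of_proper f _ (H29Fitt.isQCoh_of_isFP _ H06EGA9.isFP_structureModule)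
      H06EGA9.isFP_structureModule x g (fun V s hyV hs => ?_) fun z hz => ?_)
  · obtain ⟨V', hV', hyV', hVV'⟩ := exists_isAffineOpen_mem_and_subset (U := V) (x := f x) hyV
    haveI : IsAffine V'.toScheme := hV'
    haveI : QuasiCompact gA := inferInstance
    have hk := injective_appTop_of_flat (IsPullback.of_hasPullback gA V'.ι) hinj
    have e1 : (⊤ : V'.toScheme.Opens) ≤ V'.ι ⁻¹ᵁ V := fun p _ => hVV' p.2
    have hgV : gA.app V s = 0 := by
      rw [show gA.app V s = gA.appLE V (gA ⁻¹ᵁ V) le_rfl s by rw [Scheme.Hom.app_eq_appLE]]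
      have hle : gA ⁻¹ᵁ V ≤ d.π.app l.left ⁻¹ᵁ (g ⁻¹ᵁ V) := by
        rw [← Scheme.Hom.comp_preimage, hdπ l.left]
      rw [show gA.appLE V (gA ⁻¹ᵁ V) le_rfl s = (d.π.app l.left).appLE (g ⁻¹ᵁ V) (gA ⁻¹ᵁ V) hle
        (g.appLE V (g ⁻¹ᵁ V) le_rfl s) from
        (H8Props.FunDescent.appLE_comp_apply _ _ _ (hdπ l.left) hle le_rfl le_rfl s).symm,
        ← Scheme.Hom.app_eq_appLE, hs, map_zero]
    let s'' := V'.ι.appLE V ⊤ e1 s
    have h2 : (pullback.snd gA V'.ι).appTop s'' = 0 := by
      have e2 : (⊤ : (pullback gA V'.ι).Opens) ≤ (pullback.fst gA V'.ι) ⁻¹ᵁ (gA ⁻¹ᵁ V) := by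
        intro p _
        show gA (pullback.fst gA V'.ι p) ∈ V
        rw [← Scheme.Hom.comp_apply, pullback.condition, Scheme.Hom.comp_apply]
        exact hVV' (pullback.snd gA V'.ι p).2
      rw [Scheme.Hom.appTop, Scheme.Hom.app_eq_appLE]
      show (pullback.snd gA V'.ι).appLE ⊤ ⊤ le_rfl (V'.ι.appLE V ⊤ e1 s) = 0
      have e3 : (⊤ : (pullback gA V'.ι).Opens) ≤ (pullback.fst gA V'.ι ≫ gA) ⁻¹ᵁ V := e2
      rw [H8Props.FunDescent.appLE_comp_apply (pullback.snd gA V'.ι) V'.ι
        (pullback.fst gA V'.ι ≫ gA) pullback.condition.symm (W' := ⊤) le_top e1 e3 s,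
        ← H8Props.FunDescent.appLE_comp_apply (pullback.fst gA V'.ι) gA
        (pullback.fst gA V'.ι ≫ gA) rfl (V := gA ⁻¹ᵁ V) e2 le_rfl e3 s, ← Scheme.Hom.app_eq_appLE, hgV, map_zero]
    have h3 : s'' = 0 := hk (h2.trans (map_zero _).symm)
    refine ⟨V', hyV', hVV', ?_⟩
    have h4 : V'.topIso.hom s'' = 0 := by rw [h3, map_zero]
    rw [← h4]
    simp only [s'', Scheme.Opens.ι_appLE, Scheme.Opens.topIso_hom]
    rw [← CommRingCat.comp_apply, ← Functor.map_comp]
    rfl
  · let kk : pullback f g ⟶ Q.obj l :=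
      pullback.lift (pullback.lift (pullback.fst _ _) (pullback.snd _ _ ≫ E.map l.hom)
        (by rw [Category.assoc, ← hgi, pullback.condition])) (pullback.snd _ _) (pullback.lift_snd _ _ _)
    have hkk : IsPullback kk (pullback.snd f g) (pullback.snd f₀ (E.map l.hom)) (𝟙 _) := by
      refine IsPullback.of_right (h₁₂ := pullback.fst f₀ (E.map l.hom)) (h₂₂ := E.map l.hom) (v₁₃ := f₀) ?_
        (by rw [pullback.lift_snd, Category.comp_id]) (IsPullback.of_hasPullback _ _)
      rw [pullback.lift_fst, Category.id_comp]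
      refine IsPullback.of_right (h₁₂ := pullback.fst f (h' i₀)) (h₂₂ := h' i₀) (v₁₃ := f) ?_ (pullback.lift_snd _ _ _)
        (IsPullback.of_hasPullback _ _)
      rw [pullback.lift_fst, ← hgi]
      exact IsPullback.of_hasPullback f g
    have hg : kk z ∈ Good l := hl _ (by
      rw [← Scheme.Hom.comp_apply, show kk ≫ toX l = pullback.fst f g by simp [kk, toX]]; exact hz)
    exact (H06EGA9.isFlatOverAt_pullback_structure_iff _ _ z).2
      ((H06EGA9.isFlatOverAt_pullback_structure_iff _ _ z).1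
        (H06EGA9.isFlatOverAt_of_isPullback hkk _ z ((H06EGA9.isFlatOverAt_structureModule_iff _ _).2 hg)))

end Groth.Agent.H06EGA11c
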