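import Mathlib
import Groth.Agent.H06Mod.StalkBaseChange
import Groth.Agent.H06Mod.StalkExact
import Groth.Agent.H8Props.FunDescent.Stalk
import Groth.Agent.H06EGA9.FlatFibreBC

/-!
The kernel of a map with flat cokernel commutes with base change, on stalks.
-/

set_option autoImplicit false
set_option linter.style.haveILetI false
set_option backward.isDefEq.respectTransparency false

universe u

open CategoryTheory Limits AlgebraicGeometry TensorProduct TopologicalSpace Opposite

namespace Groth.Agent.H06EGA11c

section Algebra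

variable (R A R' C : Type u) [CommRing R] [CommRing A] [CommRing R'] [CommRing C]
  [Algebra R A] [Algebra R R'] [Algebra R C] [Algebra A C] [Algebra R' C] [IsScalarTower R A C]
  [IsScalarTower R R' C]

/-- `(A ⊗ R') ⊗_A P = R' ⊗_R P`. -/
noncomputable def tensorCancel (P : Type u) [AddCommGroup P] [Module R P] [Module A P] [IsScalarTower R A P] :
    (A ⊗[R] R') ⊗[A] P ≃+ R' ⊗[R] P :=
  ((TensorProduct.comm A (A ⊗[R] R') P).toAddEquiv.trans
    (AlgebraTensorModule.cancelBaseChange R A A P R').toAddEquiv).trans (TensorProduct.comm R P R').toAddEquiv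

omit [CommRing C] [Algebra R C] [Algebra A C] [Algebra R' C] [IsScalarTower R A C] [IsScalarTower R R' C] in
theorem tensorCancel_natural {P Q : Type u} [AddCommGroup P] [Module R P] [Module A P] [IsScalarTower R A P]
    [AddCommGroup Q] [Module R Q] [Module A Q] [IsScalarTower R A Q] (g : P →ₗ[A] Q)
    (z : (A ⊗[R] R') ⊗[A] P) :
    tensorCancel R A R' Q (g.lTensor (A ⊗[R] R') z) = (g.restrictScalars R).lTensor R' (tensorCancel R A R' P z) := by
  induction z with
  | zero => simp only [map_zero]
  | add a b ha hb => simp only [map_add, ha, hb]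
  | tmul t p =>
    induction t with
    | zero => simp only [zero_tmul, map_zero]
    | add a b ha hb => simp only [add_tmul, map_add, ha, hb]
    | tmul a r => simp [tensorCancel]

variable {M N Q : Type u} [AddCommGroup M] [Module A M] [AddCommGroup N] [Module R N] [Module A N]
  [IsScalarTower R A N] [AddCommGroup Q] [Module R Q] [Module A Q] [IsScalarTower R A Q] [Module.Flat R Q]

/-- The kernel commutes with base change when the cokernel is flat. -/
theorem ker_lTensor_le_of_flat_coker (h : (H06Mod.tensorLift R A R' C).toRingHom.Flat) (φ : M →ₗ[A] N)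
    (π : N →ₗ[A] Q) (hπ : Function.Surjective π) (hex : Function.Exact φ π) :
    LinearMap.ker (φ.lTensor C) ≤ LinearMap.range ((LinearMap.ker φ).subtype.lTensor C) := by
  let P := LinearMap.range φ
  letI : Algebra (A ⊗[R] R') C := (H06Mod.tensorLift R A R' C).toRingHom.toAlgebra
  haveI : IsScalarTower A (A ⊗[R] R') C := .of_algebraMap_eq fun r => by
    show algebraMap A C r = H06Mod.tensorLift R A R' C (r ⊗ₜ 1)
    simp [H06Mod.tensorLift]
  haveI : Module.Flat (A ⊗[R] R') C := h
  let j : P →ₗ[A] N := P.subtype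
  have h1 : Function.Injective ((j.restrictScalars R).lTensor R') :=
    LinearMap.lTensor_injective_of_exact_of_flat (π.restrictScalars R) hπ (j.restrictScalars R)
      Subtype.val_injective (fun y => by
        rw [LinearMap.coe_restrictScalars, hex y]
        exact ⟨fun hy => ⟨⟨y, hy⟩, rfl⟩, fun ⟨z, hz⟩ => hz ▸ z.2⟩) R'
  have h2 : Function.Injective (j.baseChange (A ⊗[R] R')) := by
    intro a b hab
    refine (tensorCancel R A R' P).injective (h1 ?_)
    rw [← tensorCancel_natural, ← tensorCancel_natural]
    exact congrArg _ hab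
  have h3 : Function.Injective (j.lTensor C) := by
    have h4 := Module.Flat.lTensor_preserves_injective_linearMap (M := C) (j.baseChange (A ⊗[R] R')) h2
    let e (S : Type u) [AddCommGroup S] [Module A S] :=
      AlgebraTensorModule.cancelBaseChange A (A ⊗[R] R') C C S
    have key : ∀ z, e N ((j.baseChange (A ⊗[R] R')).lTensor C z) = j.lTensor C (e P z) := by
      intro z
      induction z with
      | zero => simp only [map_zero]
      | add a b ha hb => simp only [map_add, ha, hb]
      | tmul c t =>
        induction t with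
        | zero => simp only [tmul_zero, map_zero]
        | add a b ha hb => simp only [tmul_add, map_add, ha, hb]
        | tmul a p => simp [e]
    intro a b hab
    obtain ⟨a, rfl⟩ := (e P).surjective a
    obtain ⟨b, rfl⟩ := (e P).surjective b
    rw [← key, ← key] at hab
    rw [h4 ((e N).injective hab)]
  intro z hz
  have h5 : φ.rangeRestrict.lTensor C z = 0 := by
    refine h3 ?_
    rw [map_zero, ← LinearMap.comp_apply, ← LinearMap.lTensor_comp]
    exact hz
  exact (lTensor_exact C (fun y => by
    rw [← LinearMap.mem_ker, LinearMap.ker_rangeRestrict]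
    exact ⟨fun hy => ⟨⟨y, hy⟩, rfl⟩, fun ⟨w, hw⟩ => hw ▸ w.2⟩) φ.surjective_rangeRestrict z).1 h5

end Algebra

attribute [local instance] H06Mod.stalkAlgebra

variable {X Y X' Y' : Scheme.{u}} {f : X ⟶ Y} {f' : X' ⟶ Y'} {jX : X' ⟶ X} {jY : Y' ⟶ Y}

set_option maxHeartbeats 1000000 in
/-- Elements killed by the base change of a map with flat cokernel come from its kernel. -/
theorem ker_stalkLin_pullback (hc : IsPullback jX f' f jY) {M N : X.Modules} (φ : M ⟶ N) (x' : X')
    (h : FlatMod.IsFlatOverAt f (cokernel φ) (jX x'))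
    (z : ((Scheme.Modules.pullback jX).obj M).presheaf.stalk x')
    (hz : H06Mod.stalkLin ((Scheme.Modules.pullback jX).map φ) x' z = 0) :
    z ∈ Submodule.span (X'.presheaf.stalk x')
      (Set.range fun m : LinearMap.ker (H06Mod.stalkLin φ (jX x')) => H06Mod.pullStalk jX M x' m.1) := by
  let x := jX x'
  let y' := f' x'
  have hy : jY y' = f x := by
    show jY (f' x') = f (jX x')
    rw [← Scheme.Hom.comp_apply, ← Scheme.Hom.comp_apply, hc.w]
  let β : Y.presheaf.stalk (f x) ⟶ Y'.presheaf.stalk y' :=
    Y.presheaf.stalkSpecializes (specializes_of_eq hy) ≫ jY.stalkMap y'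
  letI : Algebra (Y.presheaf.stalk (f x)) (Y'.presheaf.stalk y') := β.hom.toAlgebra
  letI : Algebra (Y.presheaf.stalk (f x)) (X.presheaf.stalk x) := H06Mod.stalkAlgebra f x
  letI : Algebra (X.presheaf.stalk x) (X'.presheaf.stalk x') := H06Mod.stalkAlgebra jX x'
  letI : Algebra (Y'.presheaf.stalk y') (X'.presheaf.stalk x') := H06Mod.stalkAlgebra f' x'
  letI : Algebra (Y.presheaf.stalk (f x)) (X'.presheaf.stalk x') :=
    (f.stalkMap x ≫ jX.stalkMap x').hom.toAlgebra
  haveI : IsScalarTower (Y.presheaf.stalk (f x)) (X.presheaf.stalk x) (X'.presheaf.stalk x') :=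
    .of_algebraMap_eq fun _ => rfl
  have hb : Spec.map β ≫ Y.fromSpecStalk (f x) = Y'.fromSpecStalk y' ≫ jY := by
    rw [Spec.map_comp, Category.assoc, Scheme.SpecMap_stalkSpecializes_fromSpecStalk,
      Scheme.SpecMap_stalkMap_fromSpecStalk]
  have ha : Spec.map (f.stalkMap x) ≫ Y.fromSpecStalk (f x) = X.fromSpecStalk x ≫ f :=
    Scheme.SpecMap_stalkMap_fromSpecStalk f
  clear_value β
  have hcomm : β ≫ f'.stalkMap x' = f.stalkMap x ≫ jX.stalkMap x' := by
    apply Spec.map_injective
    rw [← cancel_mono (Y.fromSpecStalk (f x)), Spec.map_comp, Spec.map_comp, Category.assoc,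
      Category.assoc, hb, ha, ← Category.assoc, ← Category.assoc,
      Scheme.SpecMap_stalkMap_fromSpecStalk, Scheme.SpecMap_stalkMap_fromSpecStalk, Category.assoc,
      Category.assoc, hc.w]
  haveI : IsScalarTower (Y.presheaf.stalk (f x)) (Y'.presheaf.stalk y') (X'.presheaf.stalk x') :=
    .of_algebraMap_eq fun r => congr($(congrArg CommRingCat.Hom.hom hcomm) r).symm
  have hflat := H06Mod.flat_tensorLift (Y.presheaf.stalk (f x)) (X.presheaf.stalk x)
    (Y'.presheaf.stalk y') (X'.presheaf.stalk x') f jY (X.fromSpecStalk x)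
    (Y.fromSpecStalk (f x)) (Y'.fromSpecStalk y') ha hb (X'.fromSpecStalk x' ≫ hc.isoPullback.hom)
    (by rw [Category.assoc, hc.isoPullback_hom_fst]; exact Scheme.SpecMap_stalkMap_fromSpecStalk _)
    (by rw [Category.assoc, hc.isoPullback_hom_snd]; exact Scheme.SpecMap_stalkMap_fromSpecStalk _)
  letI := FlatMod.moduleStalkOver f N x
  letI := FlatMod.moduleStalkOver f (cokernel φ) x
  haveI : IsScalarTower (Y.presheaf.stalk (f x)) (X.presheaf.stalk x) (N.presheaf.stalk x) :=
    .of_algebraMap_smul fun _ _ => rfl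
  haveI : IsScalarTower (Y.presheaf.stalk (f x)) (X.presheaf.stalk x) ((cokernel φ).presheaf.stalk x) :=
    .of_algebraMap_smul fun _ _ => rfl
  haveI : Module.Flat (Y.presheaf.stalk (f x)) ((cokernel φ).presheaf.stalk x) := h
  let S : ShortComplex X.Modules := ShortComplex.mk (Abelian.image.ι φ) (cokernel.π φ) (kernel.condition _)
  have hS : S.ShortExact :=
    { exact := ShortComplex.exact_of_f_is_kernel _ (kernelIsKernel _) }
  have hsurj := H06Mod.stalk_surjective S hS x
  haveI : Epi (Abelian.factorThruImage φ) := inferInstance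
  have hex : Function.Exact (H06Mod.stalkLin φ x) (H06Mod.stalkLin (cokernel.π φ) x) := by
    have e1 : ∀ a, H06Mod.stalkLin φ x a =
        H06Mod.stalkLin S.f x (H06Mod.stalkLin (Abelian.factorThruImage φ) x a) := by
      intro a
      obtain ⟨W, hW, a, rfl⟩ := M.presheaf.exists_germ_eq a
      rw [H06Mod.stalkLin_germ, H06Mod.stalkLin_germ, H06Mod.stalkLin_germ]
      exact congrArg _ (congr($((Abelian.image.fac φ).symm).app W a))
    intro b
    rw [H06Mod.stalk_exact S hS x b]
    constructor
    · rintro ⟨w, rfl⟩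
      obtain ⟨a, rfl⟩ := H06Mod.surjective_stalk_of_epi (Abelian.factorThruImage φ) x w
      exact ⟨a, e1 a⟩
    · rintro ⟨a, rfl⟩
      exact ⟨_, (e1 a).symm⟩
  obtain ⟨t, rfl⟩ := (H06Mod.pullStalkEquiv jX M x').surjective z
  have ht : (H06Mod.stalkLin φ x).lTensor (X'.presheaf.stalk x') t = 0 := by
    apply (H06Mod.pullStalkEquiv jX N x').injective
    rw [map_zero, ← H8Props.FunDescent.pullStalkEquiv_naturality]
    exact hz
  obtain ⟨w, hw⟩ := ker_lTensor_le_of_flat_coker _ _ _ _ hflat _ _ hsurj hex (LinearMap.mem_ker.2 ht)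
  rw [← hw]
  clear ht hw hz
  induction w with
  | zero => rw [map_zero, map_zero]; exact Submodule.zero_mem _
  | add a b ha hb => rw [map_add, map_add]; exact Submodule.add_mem _ ha hb
  | tmul c m =>
    rw [LinearMap.lTensor_tmul]
    show H06Mod.pullStalkLin jX M x' (c ⊗ₜ m.1) ∈ _
    rw [H06Mod.pullStalkLin_tmul]
    exact Submodule.smul_mem _ _ (Submodule.subset_span ⟨m, rfl⟩)

/-- Injectivity with flat cokernel passes to base changes. -/
theorem injective_stalkLin_pullback (hc : IsPullback jX f' f jY) {M N : X.Modules} (φ : M ⟶ N) (x' : X')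
    (h : FlatMod.IsFlatOverAt f (cokernel φ) (jX x')) (hinj : Function.Injective (H06Mod.stalkLin φ (jX x'))) :
    Function.Injective (H06Mod.stalkLin ((Scheme.Modules.pullback jX).map φ) x') := by
  rw [injective_iff_map_eq_zero]
  intro z hz
  refine (Submodule.span_eq_bot.2 ?_).le (ker_stalkLin_pullback hc φ x' h z hz)
  rintro _ ⟨m, rfl⟩
  show H06Mod.pullStalk jX M x' m.1 = 0
  rw [hinj ((LinearMap.mem_ker.1 m.2).trans (map_zero _).symm)]
  exact map_zero _

end Groth.Agent.H06EGA11c
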