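import Mathlib

/-!
`k` separably closed in the residue field of a point, read on affine sections over a local base.
-/

set_option autoImplicit false
set_option linter.style.haveILetI false
set_option backward.isDefEq.respectTransparency false

universe u

open CategoryTheory AlgebraicGeometry

namespace Groth.Agent.H06EGA11c

set_option maxHeartbeats 1000000 in
/-- Transfer of the primary residue extension to affine sections. -/
theorem separableClosure_residueField_eq_bot {X Y : Scheme.{u}} (f : X ⟶ Y) {V : Y.Opens} (hV : IsAffineOpen V)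
    [IsLocalRing Γ(Y, V)] {U : X.Opens} (hU : IsAffineOpen U) (eU : U ≤ f ⁻¹ᵁ V) {x : X} (hxU : x ∈ U)
    (hcl : (hV.primeIdealOf ⟨f x, eU hxU⟩).asIdeal = IsLocalRing.maximalIdeal Γ(Y, V))
    (hprim : letI := (f.residueFieldMap x).hom.toAlgebra
      ∀ a : ↑(X.residueField x), IsSeparable ↑(Y.residueField (f x)) a → a ∈ (f.residueFieldMap x).hom.range) :
    letI := (f.appLE V U eU).hom.toAlgebra
    ∀ [Algebra (IsLocalRing.ResidueField Γ(Y, V)) (hU.primeIdealOf ⟨x, hxU⟩).asIdeal.ResidueField]
      [IsScalarTower Γ(Y, V) (IsLocalRing.ResidueField Γ(Y, V)) (hU.primeIdealOf ⟨x, hxU⟩).asIdeal.ResidueField],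
      separableClosure (IsLocalRing.ResidueField Γ(Y, V))
        (hU.primeIdealOf ⟨x, hxU⟩).asIdeal.ResidueField = ⊥ := by
  letI := (f.appLE V U eU).hom.toAlgebra
  intro _ _
  let q := (hU.primeIdealOf ⟨x, hxU⟩).asIdeal
  let k := IsLocalRing.ResidueField Γ(Y, V)
  let y : V := ⟨f x, eU hxU⟩
  letI := TopCat.Presheaf.algebra_section_stalk X.presheaf (⟨x, hxU⟩ : U)
  haveI : IsLocalization.AtPrime (X.presheaf.stalk x) q := hU.isLocalization_stalk ⟨x, hxU⟩
  let e₁ : Localization.AtPrime q ≃ₐ[Γ(X, U)] X.presheaf.stalk x := IsLocalization.algEquiv q.primeCompl _ _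
  let Ψ : q.ResidueField ≃+* X.residueField x := IsLocalRing.ResidueField.mapEquiv e₁.toRingEquiv
  have hΨ : ∀ a : Γ(X, U), Ψ (algebraMap Γ(X, U) q.ResidueField a) = X.evaluation U x hxU a := fun a =>
    congrArg (IsLocalRing.residue (X.presheaf.stalk x)) (e₁.commutes a)
  let ev := (Y.evaluation V (f x) y.2).hom
  have hev : ∀ a ∈ IsLocalRing.maximalIdeal Γ(Y, V), ev a = 0 := fun a ha => by
    letI := TopCat.Presheaf.algebra_section_stalk Y.presheaf y
    haveI : IsLocalization.AtPrime (Y.presheaf.stalk (f x)) (hV.primeIdealOf y).asIdeal := hV.isLocalization_stalk y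
    refine (IsLocalRing.residue_eq_zero_iff _).2 ?_
    exact (IsLocalization.AtPrime.to_map_mem_maximal_iff (Y.presheaf.stalk (f x))
      (hV.primeIdealOf y).asIdeal a).2 (hcl ▸ ha)
  have hevsurj : Function.Surjective ev := by
    letI := TopCat.Presheaf.algebra_section_stalk Y.presheaf y
    haveI : IsLocalization.AtPrime (Y.presheaf.stalk (f x)) (hV.primeIdealOf y).asIdeal := hV.isLocalization_stalk y
    intro c
    obtain ⟨c, rfl⟩ := Ideal.Quotient.mk_surjective c
    obtain ⟨a, ⟨s, hs⟩, rfl⟩ := IsLocalization.exists_mk'_eq (hV.primeIdealOf y).asIdeal.primeCompl c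
    have hsu : IsUnit s := by
      by_contra h
      exact hs (hcl ▸ h)
    refine ⟨a * ↑hsu.unit⁻¹, congrArg (Ideal.Quotient.mk _) ?_⟩
    rw [IsLocalization.eq_mk'_iff_mul_eq]
    show algebraMap Γ(Y, V) (Y.presheaf.stalk (f x)) (a * ↑hsu.unit⁻¹) * algebraMap _ _ s = _
    rw [← map_mul, mul_assoc, IsUnit.val_inv_mul, mul_one]
  let ρ : k →+* Y.residueField (f x) := Ideal.Quotient.lift _ ev hev
  have hρsurj : Function.Surjective ρ := fun c => by
    obtain ⟨a, ha⟩ := hevsurj c
    exact ⟨Ideal.Quotient.mk _ a, ha⟩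
  letI := (f.residueFieldMap x).hom.toAlgebra
  have hcomm : ∀ c : k, Ψ (algebraMap k q.ResidueField c) = algebraMap (Y.residueField (f x)) (X.residueField x) (ρ c) := by
    intro c
    obtain ⟨a, rfl⟩ := Ideal.Quotient.mk_surjective c
    rw [show Ideal.Quotient.mk _ a = algebraMap Γ(Y, V) k a from rfl, ← IsScalarTower.algebraMap_apply,
      IsScalarTower.algebraMap_apply Γ(Y, V) Γ(X, U) q.ResidueField, hΨ]
    show _ = f.residueFieldMap x (Y.evaluation V (f x) y.2 a)
    refine Eq.trans ?_ (Scheme.evaluation_naturality_apply f x y.2 a).symm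
    show X.evaluation U x hxU ((f.app V ≫ X.presheaf.map (homOfLE eU).op) a) = _
    exact congrArg (IsLocalRing.residue _) (congrArg (fun φ => φ.hom (f.app V a))
      (X.presheaf.germ_res (homOfLE eU) x hxU))
  refine le_bot_iff.1 fun a ha => IntermediateField.mem_bot.2 ?_
  have hsep : IsSeparable (Y.residueField (f x)) (Ψ a) := by
    have h0 : IsSeparable k a := mem_separableClosure_iff.1 ha
    refine (Polynomial.Separable.map (f := ρ) (h0 : (minpoly k a).Separable)).of_dvd (minpoly.dvd _ _ ?_)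
    rw [Polynomial.aeval_def, Polynomial.eval₂_map,
      show (algebraMap (Y.residueField (f x)) (X.residueField x)).comp ρ =
        Ψ.toRingHom.comp (algebraMap k q.ResidueField) from RingHom.ext fun c => (hcomm c).symm,
      show Ψ a = Ψ.toRingHom a from rfl, ← Polynomial.hom_eval₂, ← Polynomial.aeval_def, minpoly.aeval, map_zero]
  obtain ⟨c, hc⟩ := hprim (Ψ a) hsep
  obtain ⟨c, rfl⟩ := hρsurj c
  exact ⟨c, Ψ.injective ((hcomm c).trans hc)⟩

end Groth.Agent.H06EGA11c
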