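import Mathlib

/-!
Injectivity of `O_Y → g_* O_Y'` and base change along stalks and flat maps.
-/

set_option autoImplicit false
set_option linter.style.haveILetI false
set_option backward.isDefEq.respectTransparency false

universe u

open CategoryTheory Limits AlgebraicGeometry TopologicalSpace Opposite TensorProduct

namespace Groth.Agent.H06EGA11c

variable {X S X' S' : Scheme.{u}} {f : X ⟶ S} {q : S' ⟶ S} {f' : X' ⟶ S'} {jX : X' ⟶ X}

/-- A function on the base killed upstairs dies in the tensor product with the sections of a chart. -/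
theorem tmul_one_eq_zero_of_appTop [IsAffine S'] (hc : IsPullback jX f' f q) {V : S.Opens} (hV : IsAffineOpen V)
    (hqV : (⊤ : S'.Opens) ≤ q ⁻¹ᵁ V) {U : X.Opens} (hU : IsAffineOpen U) (hUV : U ≤ f ⁻¹ᵁ V) (a : Γ(S', ⊤))
    (ha : f'.appTop a = 0) :
    letI := (q.appLE V ⊤ hqV).hom.toAlgebra
    letI := (f.appLE V U hUV).hom.toAlgebra
    a ⊗ₜ[Γ(S, V)] (1 : Γ(X, U)) = 0 := by
  let U' : X'.Opens := jX ⁻¹ᵁ U ⊓ f' ⁻¹ᵁ (⊤ : S'.Opens)
  have hV' : IsAffineOpen (⊤ : S'.Opens) := isAffineOpen_top S'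
  have hp : CategoryTheory.IsPushout (f.appLE V U hUV) (q.appLE V ⊤ hqV)
      (jX.appLE U U' inf_le_left) (f'.appLE ⊤ U' inf_le_right) :=
    (isIso_pushoutSection_iff hc hqV hUV (UY := U') rfl).mp
      (isIso_pushoutSection_of_isAffineOpen hc hqV hUV rfl hV hV' hU)
  letI := (q.appLE V ⊤ hqV).hom.toAlgebra
  letI := (f.appLE V U hUV).hom.toAlgebra
  letI := (jX.appLE U U' inf_le_left).hom.toAlgebra
  letI := (f'.appLE ⊤ U' inf_le_right).hom.toAlgebra
  letI : Algebra Γ(S, V) Γ(X', U') :=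
    ((jX.appLE U U' inf_le_left).hom.comp (f.appLE V U hUV).hom).toAlgebra
  haveI : IsScalarTower Γ(S, V) Γ(X, U) Γ(X', U') := .of_algebraMap_eq fun _ => rfl
  haveI : IsScalarTower Γ(S, V) Γ(S', ⊤) Γ(X', U') :=
    IsScalarTower.of_algebraMap_eq' (congrArg CommRingCat.Hom.hom hp.w)
  haveI : Algebra.IsPushout Γ(S, V) Γ(S', ⊤) Γ(X, U) Γ(X', U') :=
    (CommRingCat.isPushout_iff_isPushout.mp hp.flip)
  have hb : IsBaseChange Γ(S', ⊤) (IsScalarTower.toAlgHom Γ(S, V) Γ(X, U) Γ(X', U')).toLinearMap :=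
    Algebra.IsPushout.out
  refine hb.equiv.injective ?_
  rw [map_zero, IsBaseChange.equiv_tmul, AlgHom.toLinearMap_apply, map_one, Algebra.smul_def, mul_one]
  show f'.appLE ⊤ U' inf_le_right a = 0
  rw [Scheme.Hom.appLE, CommRingCat.comp_apply]
  erw [ha, map_zero]

/-- Injectivity of functions into a quasi-compact scheme passes to flat affine base changes. -/
theorem injective_appTop_of_flat [IsAffine S] [IsAffine S'] [Flat q] [QuasiCompact f] (hc : IsPullback jX f' f q)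
    (h : Function.Injective f.appTop) : Function.Injective f'.appTop := by
  classical
  haveI : CompactSpace X := QuasiCompact.compactSpace_of_compactSpace f
  obtain ⟨T, hT, htop⟩ :=
    (isCompact_and_isOpen_iff_finite_and_eq_biUnion_affineOpens (U := (Set.univ : Set X))).mp
      ⟨isCompact_univ, isOpen_univ⟩
  haveI : Finite T := hT.to_subtype
  haveI := Fintype.ofFinite T
  let V : S.Opens := ⊤
  have hqV : (⊤ : S'.Opens) ≤ q ⁻¹ᵁ V := le_top
  letI := (q.appLE V ⊤ hqV).hom.toAlgebra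
  haveI : Module.Flat Γ(S, V) Γ(S', ⊤) :=
    HasRingHomProperty.appLE @Flat q ‹_› ⟨V, isAffineOpen_top S⟩ ⟨⊤, isAffineOpen_top S'⟩ hqV
  letI := fun U : T => (f.appLE V U.1.1 le_top).hom.toAlgebra
  let φ : Γ(S, V) →ₗ[Γ(S, V)] ((U : T) → Γ(X, U.1.1)) := Algebra.linearMap _ _
  have hφ : Function.Injective φ := fun a b hab => h (by
    refine X.sheaf.eq_of_locally_eq' (fun U : T => U.1.1) ⊤ (fun U => homOfLE le_top) ?_ _ _ fun U => ?_
    · intro x _
      have hx : x ∈ (⋃ i ∈ T, (i.1 : Set X)) := htop ▸ Set.mem_univ x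
      obtain ⟨U, hU, hxU⟩ := Set.mem_iUnion₂.1 hx
      exact Opens.mem_iSup.2 ⟨⟨U, hU⟩, hxU⟩
    · exact congrFun hab U)
  rw [injective_iff_map_eq_zero]
  intro a ha
  have h1 : φ.lTensor Γ(S', ⊤) (a ⊗ₜ 1) = 0 := by
    apply (TensorProduct.piRight Γ(S, V) Γ(S, V) Γ(S', ⊤) fun U : T => Γ(X, U.1.1)).injective
    rw [map_zero, LinearMap.lTensor_tmul]
    funext U
    rw [TensorProduct.piRight_apply, TensorProduct.piRightHom_tmul]
    show a ⊗ₜ[Γ(S, V)] (φ 1 U) = 0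
    rw [show φ 1 U = 1 from map_one (algebraMap Γ(S, V) Γ(X, U.1.1))]
    exact tmul_one_eq_zero_of_appTop hc (isAffineOpen_top S) hqV U.1.2 le_top a ha
  have h2 := Module.Flat.lTensor_preserves_injective_linearMap (M := Γ(S', ⊤)) φ hφ
    (h1.trans (map_zero _).symm)
  have h3 := congrArg (TensorProduct.rid Γ(S, V) Γ(S', ⊤)) h2
  simpa using h3

/-- The hypothesis `O_{Y,y} → (g_* O_Y')_y` injective, on the base change to the local scheme. -/
theorem injective_appTop_fromSpecStalk {Y Y' : Scheme.{u}} (g : Y' ⟶ Y) [QuasiCompact g] (y : Y)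
    (hinj : ∀ (V : Y.Opens) (s : Γ(Y, V)), y ∈ V → g.app V s = 0 →
      ∃ W : Y.Opens, y ∈ W ∧ ∃ hWV : W ≤ V, Y.presheaf.map (homOfLE hWV).op s = 0) :
    Function.Injective (pullback.snd g (Y.fromSpecStalk y)).appTop := by
  classical
  obtain ⟨V, hV, hyV, -⟩ := exists_isAffineOpen_mem_and_subset (U := (⊤ : Y.Opens)) (x := y) trivial
  let q := Y.fromSpecStalk y
  have hqV : (⊤ : (Spec (Y.presheaf.stalk y)).Opens) ≤ q ⁻¹ᵁ V := by
    intro p _
    have : q p ⤳ y := by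
      have h1 := Scheme.range_fromSpecStalk (X := Y) (x := y) ▸ Set.mem_range_self p
      exact h1
    exact this.mem_open V.isOpen hyV
  obtain ⟨T, hT, htop⟩ :=
    (isCompact_and_isOpen_iff_finite_and_eq_biUnion_affineOpens (U := ((g ⁻¹ᵁ V : Y'.Opens) : Set Y'))).mp
      ⟨g.isCompact_preimage hV.isCompact, (g ⁻¹ᵁ V).isOpen⟩
  haveI : Finite T := hT.to_subtype
  haveI := Fintype.ofFinite T
  have hTV : ∀ U : T, U.1.1 ≤ g ⁻¹ᵁ V := fun U x hx => by
    show x ∈ ((g ⁻¹ᵁ V : Y'.Opens) : Set Y')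
    rw [htop]
    exact Set.mem_iUnion₂.2 ⟨U.1, U.2, hx⟩
  rw [injective_iff_map_eq_zero]
  intro a ha
  let e := Scheme.ΓSpecIso (Y.presheaf.stalk y)
  letI := (q.appLE V ⊤ hqV).hom.toAlgebra
  letI := TopCat.Presheaf.algebra_section_stalk Y.presheaf (⟨y, hyV⟩ : V)
  haveI := hV.isLocalization_stalk ⟨y, hyV⟩
  let P := (hV.primeIdealOf ⟨y, hyV⟩).asIdeal
  have halg : ∀ r, algebraMap Γ(Y, V) Γ(Spec (Y.presheaf.stalk y), ⊤) r = e.inv (Y.presheaf.germ V y hyV r) := by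
    intro r
    rw [RingHom.algebraMap_toAlgebra]
    show q.appLE V ⊤ hqV r = _
    simp only [q, e, Scheme.Hom.appLE, Scheme.fromSpecStalk_app hyV, CommRingCat.comp_apply]
    rw [← CommRingCat.comp_apply (_ : (Spec (Y.presheaf.stalk y)).presheaf.obj _ ⟶ _), ← Functor.map_comp]
    exact congr($((Spec (Y.presheaf.stalk y)).presheaf.map_id (op ⊤)) _)
  let ψ : (Y.presheaf.stalk y) ≃ₐ[Γ(Y, V)] Γ(Spec (Y.presheaf.stalk y), ⊤) :=
    AlgEquiv.ofRingEquiv (f := e.symm.commRingCatIsoToRingEquiv) fun r => (halg r).symm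
  haveI : IsLocalization P.primeCompl Γ(Spec (Y.presheaf.stalk y), ⊤) :=
    IsLocalization.isLocalization_of_algEquiv P.primeCompl ψ
  obtain ⟨⟨r, s⟩, hrs⟩ := IsLocalization.surj P.primeCompl a
  letI := fun U : T => (g.appLE V U.1.1 (hTV U)).hom.toAlgebra
  have hr : ∀ U : T, ∃ t ∈ P.primeCompl, t • g.appLE V U.1.1 (hTV U) r = 0 := by
    intro U
    have h1 := tmul_one_eq_zero_of_appTop (IsPullback.of_hasPullback g q) hV hqV U.1.2 (hTV U) a ha
    haveI : IsLocalizedModule P.primeCompl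
        (TensorProduct.mk Γ(Y, V) Γ(Spec (Y.presheaf.stalk y), ⊤) Γ(Y', U.1.1) 1) :=
      (isLocalizedModule_iff_isBaseChange P.primeCompl Γ(Spec (Y.presheaf.stalk y), ⊤) _).2
        (TensorProduct.isBaseChange _ _ _)
    have h2 : TensorProduct.mk Γ(Y, V) Γ(Spec (Y.presheaf.stalk y), ⊤) Γ(Y', U.1.1) 1
        (algebraMap Γ(Y, V) Γ(Y', U.1.1) r) = 0 := by
      rw [TensorProduct.mk_apply, Algebra.algebraMap_eq_smul_one, ← TensorProduct.smul_tmul,
        ← Algebra.algebraMap_eq_smul_one, ← hrs, mul_comm, ← Algebra.smul_def, ← TensorProduct.smul_tmul',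
        h1, smul_zero]
    obtain ⟨t, ht⟩ := (IsLocalizedModule.eq_zero_iff P.primeCompl _).1 h2
    exact ⟨t.1, t.2, ht⟩
  choose t ht htr using hr
  let t₀ := ∏ U : T, t U
  have ht₀ : t₀ ∈ P.primeCompl := prod_mem fun U _ => ht U
  have hkill : g.app V (t₀ * r) = 0 := by
    refine Y'.sheaf.eq_of_locally_eq' (fun U : T => U.1.1) (g ⁻¹ᵁ V) (fun U => homOfLE (hTV U)) ?_ _ _ fun U => ?_
    · intro x hx
      have hx' : x ∈ (⋃ i ∈ T, (i.1 : Set Y')) := htop ▸ hx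
      obtain ⟨U, hU, hxU⟩ := Set.mem_iUnion₂.1 hx'
      exact Opens.mem_iSup.2 ⟨⟨U, hU⟩, hxU⟩
    · refine Eq.trans ?_ (map_zero _).symm
      show g.appLE V U.1.1 (hTV U) (t₀ * r) = 0
      obtain ⟨c, hc⟩ : t U ∣ t₀ := Finset.dvd_prod_of_mem _ (Finset.mem_univ U)
      rw [hc, map_mul, map_mul, mul_right_comm]
      have h3 : g.appLE V U.1.1 (hTV U) (t U) * g.appLE V U.1.1 (hTV U) r = 0 := htr U
      rw [h3, zero_mul]
  obtain ⟨W, hyW, hWV, hW0⟩ := hinj V (t₀ * r) hyV hkill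
  have hgerm : algebraMap Γ(Y, V) Γ(Spec (Y.presheaf.stalk y), ⊤) (t₀ * r) = 0 := by
    rw [halg, ← Y.presheaf.germ_res_apply (homOfLE hWV) y hyW, hW0, map_zero, map_zero]
  rw [map_mul] at hgerm
  have hr0 := (IsLocalization.map_units Γ(Spec (Y.presheaf.stalk y), ⊤) ⟨t₀, ht₀⟩).mul_right_eq_zero.1 hgerm
  rw [← hrs] at hr0
  exact (IsLocalization.map_units Γ(Spec (Y.presheaf.stalk y), ⊤) s).mul_left_eq_zero.1 hr0

end Groth.Agent.H06EGA11c
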