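import Groth.Agent.H06EGA11c.ProperBC
import Groth.Agent.S16105
import Groth.Agent.H24Adic.CompletionNoetherian
import Groth.Agent.H02CA.Node.Completed

/-!
For a proper `g : Y' ⟶ Y` with `O_{Y,y} → (g_* O_Y')_y` injective, the powers of the maximal ideals of the
local rings of the fibre induce a topology finer than the adic one on `O_{Y,y}`.
-/

set_option autoImplicit false
set_option linter.style.haveILetI false
set_option backward.isDefEq.respectTransparency false

universe u

open CategoryTheory Limits AlgebraicGeometry TopologicalSpace Opposite IsLocalRing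

namespace Groth.Agent.H06EGA11c

variable {Y Y' : Scheme.{u}} (g : Y' ⟶ Y) (y : Y)

/-- The local homomorphism at a point of the fibre. -/
noncomputable def fibreStalkMap (z : {z : Y' // g z = y}) :
    (Y.presheaf.stalk y : Type u) →+* Y'.presheaf.stalk z.1 :=
  (Y.presheaf.stalkSpecializes (specializes_of_eq z.2) ≫ g.stalkMap z.1).hom

instance (z : {z : Y' // g z = y}) : IsLocalHom (fibreStalkMap g y z) := by
  obtain ⟨z, rfl⟩ := z
  rw [fibreStalkMap, TopCat.Presheaf.stalkSpecializes_refl]
  exact inferInstanceAs (IsLocalHom (g.stalkMap z).hom)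

theorem SpecMap_fibreStalkMap (z : {z : Y' // g z = y}) :
    Spec.map (CommRingCat.ofHom (fibreStalkMap g y z)) ≫ Y.fromSpecStalk y = Y'.fromSpecStalk z.1 ≫ g := by
  show Spec.map (Y.presheaf.stalkSpecializes (specializes_of_eq z.2) ≫ g.stalkMap z.1) ≫ _ = _
  rw [Spec.map_comp, Category.assoc, Scheme.SpecMap_stalkSpecializes_fromSpecStalk,
    Scheme.SpecMap_stalkMap_fromSpecStalk]

set_option maxHeartbeats 1000000 in
theorem exists_finset_iInf_comap_le [IsLocallyNoetherian Y] [IsProper g]
    (hinj : Function.Injective (pullback.snd g (Y.fromSpecStalk y)).appTop) (N : ℕ) :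
    ∃ s : Finset ({z : Y' // g z = y} × ℕ),
      ⨅ p ∈ s, Ideal.comap (fibreStalkMap g y p.1) (maximalIdeal (Y'.presheaf.stalk p.1.1) ^ p.2) ≤
        maximalIdeal (Y.presheaf.stalk y) ^ N := by
  classical
  let A : Type u := Y.presheaf.stalk y
  let m := maximalIdeal A
  let C : Type u := AdicCompletion m A
  haveI : IsNoetherianRing C := H24Adic.isNoetherianRing_adicCompletion m
  haveI : IsAdicComplete (maximalIdeal C) C := H02CA.Node.isAdicComplete_completion A
  haveI : IsLocalHom (algebraMap A C) := by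
    refine ((local_hom_TFAE (algebraMap A C)).out 0 2).2 ?_
    rw [AdicCompletion.maximalIdeal_eq_map]
  haveI : Module.FaithfullyFlat A C := Module.FaithfullyFlat.of_flat_of_isLocalHom
  let J : ℕ → Ideal A := fun j =>
    ⨅ z : {z : Y' // g z = y}, Ideal.comap (fibreStalkMap g y z) (maximalIdeal (Y'.presheaf.stalk z.1) ^ j)
  have hmJ : ∀ j, m ^ j ≤ J j := fun j => le_iInf fun z => by
    refine le_trans ?_ (Ideal.le_comap_pow (fibreStalkMap g y z) j)
    have h := ((local_hom_TFAE (fibreStalkMap g y z)).out 0 2).1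
      (inferInstance : IsLocalHom (fibreStalkMap g y z))
    exact Ideal.pow_right_mono (Ideal.map_le_iff_le_comap.1 h) j
  -- the base change to the completion
  let σ : Spec (CommRingCat.of C) ⟶ Spec (Y.presheaf.stalk y) := Spec.map (CommRingCat.ofHom (algebraMap A C))
  haveI : Flat σ := (HasRingHomProperty.Spec_iff (P := @Flat)).2 (RingHom.flat_algebraMap_iff.2 inferInstance)
  let T := pullback g (Y.fromSpecStalk y)
  let gT : T ⟶ Spec (Y.presheaf.stalk y) := pullback.snd g (Y.fromSpecStalk y)
  let W := pullback gT σ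
  let gW : W ⟶ Spec (CommRingCat.of C) := pullback.snd gT σ
  haveI : IsProper gW := MorphismProperty.pullback_snd _ _ (MorphismProperty.pullback_snd _ _ ‹_›)
  haveI : IsLocallyNoetherian W := LocallyOfFiniteType.isLocallyNoetherian gW
  haveI : QuasiCompact gT := MorphismProperty.pullback_snd _ _ inferInstance
  have hinjW : Function.Injective gW.appTop :=
    injective_appTop_of_flat (IsPullback.of_hasPullback gT σ) hinj
  let eC := Scheme.ΓSpecIso (CommRingCat.of C)
  let hW : W ⟶ Y' := pullback.fst gT σ ≫ pullback.fst g (Y.fromSpecStalk y)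
  have hbot : ∀ a : C, (∀ j, a ∈ Ideal.map (algebraMap A C) (J j)) → a = 0 := by
    intro a ha
    let b : Γ(W, ⊤) := gW.appTop (eC.inv a)
    have hb : ∀ w : W, gW w = closedPoint C → W.presheaf.germ ⊤ w trivial b = 0 := by
      intro w hw
      have hz : g (hW w) = y := by
        rw [← Scheme.Hom.comp_apply, show hW ≫ g = gW ≫ σ ≫ Y.fromSpecStalk y from by
          simp only [hW, gW, gT, Category.assoc, pullback.condition, pullback.condition_assoc]]
        rw [Scheme.Hom.comp_apply, Scheme.Hom.comp_apply, hw,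
          show σ (closedPoint C) = closedPoint A from Spec_closedPoint (f := CommRingCat.ofHom (algebraMap A C))]
        exact Scheme.fromSpecStalk_closedPoint
      let ρ : CommRingCat.of C ⟶ W.presheaf.stalk w := eC.inv ≫ gW.appTop ≫ W.presheaf.germ ⊤ w trivial
      have hρ : Spec.map ρ = W.fromSpecStalk w ≫ gW := by
        simp only [ρ, Spec.map_comp]
        rw [← Scheme.fromSpecStalk_toSpecΓ]
        simp only [Category.assoc]
        rw [← Scheme.toSpecΓ_naturality_assoc, toSpecΓ_SpecMap_ΓSpecIso_inv, Category.comp_id]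
      have key : CommRingCat.ofHom (algebraMap A C) ≫ ρ =
          CommRingCat.ofHom (fibreStalkMap g y ⟨hW w, hz⟩) ≫ hW.stalkMap w := by
        apply Spec.map_injective
        rw [← cancel_mono (Y.fromSpecStalk y)]
        have eL : Spec.map (CommRingCat.ofHom (algebraMap A C) ≫ ρ) = (W.fromSpecStalk w ≫ gW) ≫ σ := by
          rw [← hρ]; exact Spec.map_comp _ _
        have eR : Spec.map (CommRingCat.ofHom (fibreStalkMap g y ⟨hW w, hz⟩) ≫ hW.stalkMap w) ≫ Y.fromSpecStalk y =
            W.fromSpecStalk w ≫ hW ≫ g := by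
          rw [Spec.map_comp, Category.assoc, SpecMap_fibreStalkMap g y ⟨hW w, hz⟩, ← Category.assoc,
            Scheme.SpecMap_stalkMap_fromSpecStalk, Category.assoc]
        refine (congrArg (· ≫ Y.fromSpecStalk y) eL).trans (Eq.trans ?_ eR.symm)
        simp only [hW, gW, gT, Category.assoc, pullback.condition, pullback.condition_assoc]
      have hpow : ∀ j, ρ.hom a ∈ maximalIdeal (W.presheaf.stalk w) ^ j := fun j => by
        have h1 : Ideal.map ρ.hom (Ideal.map (algebraMap A C) (J j)) ≤ maximalIdeal (W.presheaf.stalk w) ^ j := by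
          rw [Ideal.map_map, Ideal.map_le_iff_le_comap]
          intro r hr
          rw [Ideal.mem_comap]
          have h2 : ρ.hom (algebraMap A C r) = (hW.stalkMap w).hom (fibreStalkMap g y ⟨hW w, hz⟩ r) :=
            congrArg (fun φ => φ.hom r) key
          rw [RingHom.comp_apply, h2]
          have h3 : fibreStalkMap g y ⟨hW w, hz⟩ r ∈ maximalIdeal (Y'.presheaf.stalk (hW w)) ^ j :=
            (Submodule.mem_iInf _).1 hr ⟨hW w, hz⟩
          refine Ideal.pow_right_mono ?_ j
            (Ideal.map_pow (hW.stalkMap w).hom _ j ▸ Ideal.mem_map_of_mem _ h3)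
          exact ((local_hom_TFAE (hW.stalkMap w).hom).out 0 2).1 (inferInstance : IsLocalHom (hW.stalkMap w).hom)
        exact h1 (Ideal.mem_map_of_mem _ (ha j))
      have h0 : ρ.hom a ∈ ⨅ j, maximalIdeal (W.presheaf.stalk w) ^ j := (Submodule.mem_iInf _).2 hpow
      rw [Ideal.iInf_pow_eq_bot_of_isLocalRing _ (maximalIdeal.isMaximal _).ne_top] at h0
      exact h0
    let Z : Set W := {w | W.presheaf.germ ⊤ w trivial b ≠ 0}
    have hZ : IsClosed Z := by
      rw [← isOpen_compl_iff, isOpen_iff_forall_mem_open]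
      intro w hw
      obtain ⟨O, hwO, i, i', heq⟩ := W.presheaf.germ_eq (U := ⊤) (V := ⊤) w trivial trivial b 0
        ((not_not.1 hw).trans (map_zero _).symm)
      refine ⟨O, fun v hv hne => hne ?_, O.isOpen, hwO⟩
      rw [← W.presheaf.germ_res_apply i v hv b, heq, map_zero, map_zero]
    have hemp : ∀ w : W, W.presheaf.germ ⊤ w trivial b = 0 := by
      intro w
      by_contra hw
      have hcl : closedPoint C ∈ gW '' Z :=
        ((IsLocalRing.specializes_closedPoint (gW w)).mem_closed (gW.isClosedMap _ hZ) ⟨w, hw, rfl⟩)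
      obtain ⟨v, hv, hvc⟩ := hcl
      exact hv (hb v hvc)
    have hb0 : b = 0 := TopCat.Presheaf.section_ext W.sheaf ⊤ b 0 fun v hv =>
      (hemp v).trans (map_zero _).symm
    have h4 : eC.inv a = 0 := hinjW (hb0.trans (map_zero _).symm)
    simpa using congrArg eC.hom h4
  obtain ⟨j, hj⟩ := S16105.chevalley_lemma (maximalIdeal C) (fun j => Ideal.map (algebraMap A C) (J j))
    (fun a b hab => Ideal.map_mono (iInf_mono fun z => Ideal.comap_mono (Ideal.pow_le_pow_right hab)))
    (fun j => by
      show maximalIdeal C ^ j * ⊤ ≤ Ideal.map (algebraMap A C) (J j)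
      rw [Ideal.mul_top, AdicCompletion.maximalIdeal_eq_map, ← Ideal.map_pow]
      exact Ideal.map_mono (hmJ j)) hbot N
  have hJN : J j ≤ m ^ N := by
    rw [← Ideal.comap_map_eq_self_of_faithfullyFlat (B := C) (J j),
      ← Ideal.comap_map_eq_self_of_faithfullyFlat (B := C) (m ^ N)]
    refine Ideal.comap_mono (hj.trans (le_of_eq ?_))
    rw [Ideal.map_pow, ← AdicCompletion.maximalIdeal_eq_map]
    exact Ideal.mul_top _
  -- finitely many points suffice modulo `m ^ j`
  haveI : IsArtinianRing (A ⧸ m ^ j) := by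
    rcases Nat.eq_zero_or_pos j with rfl | hpos
    · haveI : Subsingleton (A ⧸ m ^ 0) := Ideal.Quotient.subsingleton_iff.2 (by simp)
      infer_instance
    haveI : Ring.KrullDimLE 0 (A ⧸ m ^ j) := Ring.krullDimLE_zero_iff.2 fun q hq => by
      have hle : m ≤ q.comap (Ideal.Quotient.mk (m ^ j)) :=
        (Ideal.comap_isPrime _ q).le_of_pow_le fun a ha => by
          rw [Ideal.mem_comap, Ideal.Quotient.eq_zero_iff_mem.2 ha]; exact q.zero_mem
      have hq' : q.comap (Ideal.Quotient.mk (m ^ j)) = m :=
        ((maximalIdeal.isMaximal A).eq_of_le (Ideal.comap_isPrime _ q).ne_top hle).symm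
      rw [← Ideal.map_comap_of_surjective _ Ideal.Quotient.mk_surjective q, hq']
      exact Ideal.IsMaximal.map_of_surjective_of_ker_le Ideal.Quotient.mk_surjective
        (by rw [Ideal.mk_ker]; exact Ideal.pow_le_self hpos.ne')
    exact isArtinianRing_iff_krullDimLE_zero.2 inferInstance
  let I : {z : Y' // g z = y} → Ideal A :=
    fun z => Ideal.comap (fibreStalkMap g y z) (maximalIdeal (Y'.presheaf.stalk z.1) ^ j)
  obtain ⟨_, ⟨t, rfl⟩, hmin⟩ := IsArtinian.set_has_minimal
    (Set.range fun t : Finset {z : Y' // g z = y} => Ideal.map (Ideal.Quotient.mk (m ^ j)) (t.inf I))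
    ⟨_, ∅, rfl⟩
  refine ⟨t.image fun z => (z, j), ?_⟩
  refine le_trans (le_iInf fun z => ?_) hJN
  have h1 : Ideal.map (Ideal.Quotient.mk (m ^ j)) ((insert z t).inf I) =
      Ideal.map (Ideal.Quotient.mk (m ^ j)) (t.inf I) := by
    by_contra hne
    exact hmin _ ⟨insert z t, rfl⟩ (lt_of_le_of_ne (Ideal.map_mono (Finset.inf_mono (Finset.subset_insert z t))) hne)
  have h2 : t.inf I ≤ I z := by
    intro a ha
    have h3 : Ideal.Quotient.mk (m ^ j) a ∈ Ideal.map (Ideal.Quotient.mk (m ^ j)) ((insert z t).inf I) := by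
      rw [h1]; exact Ideal.mem_map_of_mem _ ha
    obtain ⟨b, hb, hba⟩ := (Ideal.mem_map_iff_of_surjective _ Ideal.Quotient.mk_surjective).1 h3
    have h4 : a - b ∈ I z := ((hmJ j).trans (iInf_le _ z)) (Ideal.Quotient.eq.1 hba.symm)
    rw [Finset.inf_insert] at hb
    simpa using Ideal.add_mem _ h4 hb.1
  refine le_trans (Finset.le_inf fun p hp => ?_) h2
  exact iInf₂_le (p, j) (Finset.mem_image_of_mem (fun z => (z, j)) hp)

end Groth.Agent.H06EGA11c
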