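import Groth.Agent.H06EGA11c.ProperDescentAffine
import Groth.Agent.H7Flat.FlatAtDescent
import Groth.Agent.H06EGA11c.StagePoint

/-!
Descent of flatness along a proper morphism of finite presentation (EGA IV 11.5.3).
-/

set_option autoImplicit false
set_option linter.style.haveILetI false
set_option backward.isDefEq.respectTransparency false

universe u

open CategoryTheory Limits AlgebraicGeometry TopologicalSpace Opposite IsLocalRing

namespace Groth.Agent.H06EGA11c

set_option maxHeartbeats 1000000 in
theorem isFlatOverAt_of_proper {X Y Y' : Scheme.{u}} (f : X ⟶ Y) [LocallyOfFinitePresentation f]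
    (F : X.Modules) (hFq : Coh.IsQCoh F) (hF : CohB1.IsFP F) (x : X)
    (g : Y' ⟶ Y) [IsProper g] [LocallyOfFinitePresentation g]
    (hinj : ∀ (V : Y.Opens) (s : Γ(Y, V)), f x ∈ V → g.app V s = 0 →
      ∃ W : Y.Opens, f x ∈ W ∧ ∃ hWV : W ≤ V, Y.presheaf.map (homOfLE hWV).op s = 0)
    (hflat : ∀ x' : ↥(pullback f g), pullback.fst f g x' = x →
      FlatMod.IsFlatOverAt (pullback.snd f g) ((Scheme.Modules.pullback (pullback.fst f g)).obj F) x') :
    FlatMod.IsFlatOverAt f F x := by
  obtain ⟨V, hV, hxV, -⟩ := exists_isAffineOpen_mem_and_subset (U := (⊤ : Y.Opens)) (x := f x) trivial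
  obtain ⟨U, hU, hxU, e⟩ := exists_isAffineOpen_mem_and_subset (U := f ⁻¹ᵁ V) (x := x) hxV
  haveI : IsAffine V.toScheme := hV
  haveI : IsAffine U.toScheme := hU
  let f' : U.toScheme ⟶ V.toScheme := f.resLE V U e
  haveI : LocallyOfFinitePresentation f' := inferInstanceAs (LocallyOfFinitePresentation (f.resLE V U e))
  let σ := Y.fromSpecStalk (f x)
  let σV : Spec (Y.presheaf.stalk (f x)) ⟶ V.toScheme := V.fromSpecStalkOfMem (f x) hxV
  have hσV : σV ≫ V.ι = σ := V.fromSpecStalkOfMem_ι (f x) hxV
  haveI : Flat σV := by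
    have hsq : IsPullback σV (𝟙 _) V.ι σ := IsPullback.of_vert_isIso_mono ⟨by rw [hσV, Category.id_comp]⟩
    exact MorphismProperty.of_isPullback hsq.flip (inferInstance : Flat σ)
  let uR := pullback.snd f' σV
  let gR := pullback.snd g σ
  let FU := (Scheme.Modules.pullback U.ι).obj F
  let FR := (Scheme.Modules.pullback (pullback.fst f' σV)).obj FU
  have hFU : CohB1.IsFP FU := H06EGA9.isFP_pullback _ hF
  have hFR : CohB1.IsFP FR := H06EGA9.isFP_pullback _ hFU
  haveI : LocallyOfFinitePresentation uR := MorphismProperty.pullback_snd _ _ inferInstance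
  haveI : LocallyOfFinitePresentation gR := MorphismProperty.pullback_snd _ _ inferInstance
  haveI : IsProper gR := MorphismProperty.pullback_snd _ _ inferInstance
  have hcl : σV (closedPoint (Y.presheaf.stalk (f x))) = f' ⟨x, hxU⟩ := by
    apply V.ι.injective
    rw [← Scheme.Hom.comp_apply, hσV, ← Scheme.Hom.comp_apply, Scheme.Hom.resLE_comp_ι]
    exact Scheme.fromSpecStalk_closedPoint
  obtain ⟨z, hz1, hz2⟩ := Scheme.Pullback.exists_preimage_pullback (f := f') (g := σV) ⟨x, hxU⟩
    (closedPoint (Y.presheaf.stalk (f x))) hcl.symm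
  have hR : FlatMod.IsFlatOverAt uR FR z := by
    refine isFlatOverAt_of_proper_affine (R := (Y.presheaf.stalk (f x) : Type u)) uR gR FR
      (H29Fitt.isQCoh_of_isFP _ hFR) hFR z (injective_appTop_fromSpecStalk g (f x) hinj) fun w hw => ?_
    let qY := pullback.fst g σ
    let pv : pullback g σ ⟶ V.toScheme := gR ≫ σV
    have hpv : qY ≫ g = pv ≫ V.ι := by
      rw [Category.assoc, hσV]
      exact pullback.condition
    have hj : IsPullback (𝟙 (pullback g σ)) pv (qY ≫ g) V.ι :=
      IsPullback.of_horiz_isIso_mono ⟨by rw [Category.id_comp]; exact hpv⟩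
    let j : pullback f (qY ≫ g) ⟶ pullback f g :=
      pullback.lift (pullback.fst _ _) (pullback.snd _ _ ≫ qY) (by rw [Category.assoc]; exact pullback.condition)
    have hjsq : IsPullback j (pullback.snd f (qY ≫ g)) (pullback.snd f g) qY :=
      IsPullback.of_right (by rw [pullback.lift_fst]; exact IsPullback.of_hasPullback _ _)
        (pullback.lift_snd _ _ _) (IsPullback.of_hasPullback _ _)
    let k : pullback uR gR ⟶ pullback f' pv :=
      pullback.lift (pullback.fst uR gR ≫ pullback.fst f' σV) (pullback.snd uR gR) (by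
        rw [Category.assoc, pullback.condition]
        exact (Category.assoc _ _ _).symm.trans ((congrArg (· ≫ σV) pullback.condition).trans (Category.assoc _ _ _)))
    have hk : IsPullback k (pullback.snd uR gR) (pullback.snd f' pv) (𝟙 _) := by
      refine IsPullback.of_right ?_ (by rw [pullback.lift_snd, Category.comp_id]) (IsPullback.of_hasPullback _ _)
      rw [pullback.lift_fst, Category.id_comp]
      exact ((IsPullback.of_hasPullback uR gR).flip.paste_vert (IsPullback.of_hasPullback f' σV).flip).flip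
    let m := restrictMap e (IsPullback.of_hasPullback f (qY ≫ g)) hj
    have hx2 : pullback.fst f (qY ≫ g) (m (k w)) = x := by
      rw [← Scheme.Hom.comp_apply, ← Scheme.Hom.comp_apply, show m ≫ pullback.fst f (qY ≫ g) = _ from
        restrictMap_fst e (IsPullback.of_hasPullback f (qY ≫ g)) hj, ← Category.assoc, pullback.lift_fst,
        Scheme.Hom.comp_apply, Scheme.Hom.comp_apply, hw, hz1]
      rfl
    have h2 : FlatMod.IsFlatOverAt (pullback.snd f (qY ≫ g))
        ((Scheme.Modules.pullback (pullback.fst f (qY ≫ g))).obj F) (m (k w)) :=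
      (H06EGA9.isFlatOverAt_congr_iso _ ((Scheme.Modules.pullbackComp j (pullback.fst f g)).app F ≪≫
          (Scheme.Modules.pullbackCongr (pullback.lift_fst _ _ _)).app F) _).1
        (H06EGA9.isFlatOverAt_of_isPullback hjsq _ _ (hflat _ (by
          rw [← Scheme.Hom.comp_apply j, pullback.lift_fst]; exact hx2)))
    have h3 := (isFlatOverAt_restrict_iff e (IsPullback.of_hasPullback f (qY ≫ g)) hj F (k w)).2 h2
    exact (H06EGA9.isFlatOverAt_congr_iso _ ((Scheme.Modules.pullbackComp k (pullback.fst f' pv)).app FU ≪≫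
        (Scheme.Modules.pullbackCongr (pullback.lift_fst _ _ _)).app FU ≪≫
        ((Scheme.Modules.pullbackComp (pullback.fst uR gR) (pullback.fst f' σV)).app FU).symm) w).1
      (H06EGA9.isFlatOverAt_of_isPullback hk _ w h3)
  have h4 : FlatMod.IsFlatOverAt f' FU ⟨x, hxU⟩ := by
    rw [← hz1]
    exact H7Flat.isFlatOverAt_of_isPullback_flatAt f' σV (IsPullback.of_hasPullback f' σV) FU z
      (Flat.stalkMap σV _) hR
  have h5 := (isFlatOverAt_comp_openImmersion_iff f' V.ι FU ⟨x, hxU⟩).2 h4
  exact (H06Mod.isFlatOverAt_pullback_iff U.ι f F ⟨x, hxU⟩).1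
    ((H06Mod.isFlatOverAt_congr (Scheme.Hom.resLE_comp_ι f e) FU ⟨x, hxU⟩).1 h5)

end Groth.Agent.H06EGA11c
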