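import Groth.Agent.H06EGA11c.ProperDescentNoeth
import Groth.Agent.H06EGA11c.InjStage
import Groth.Agent.H06EGA11c.StageFlat
import Groth.Agent.H17.ConsModModels
import Groth.Agent.H7Lim.Proper.Descend
import Groth.Agent.H10Coh.FinType2

/-!
Descent of flatness along a proper morphism of finite presentation, affine base (EGA IV 11.5.3).
-/

set_option autoImplicit false
set_option linter.style.haveILetI false
set_option backward.isDefEq.respectTransparency false

universe u

open CategoryTheory Limits AlgebraicGeometry TopologicalSpace Opposite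

namespace Groth.Agent.H06EGA11c

open H7Lim.FPDescent H17.ConsProp

/-- Flatness at a stage, on the standard model of the stage. -/
theorem exists_stage_isFlatOverAt' {I : Type u} [SmallCategory I] [IsCofiltered I]
    (D : I ⥤ Scheme.{u}) (c : Limits.Cone D) (hc : Limits.IsLimit c)
    [∀ (i j : I) (φ : i ⟶ j), IsAffineHom (D.map φ)] (i₀ : I)
    {X₀ Y₀ : Scheme.{u}} (f₀ : X₀ ⟶ Y₀) (g₀ : Y₀ ⟶ D.obj i₀) [LocallyOfFinitePresentation f₀]
    (F₀ : X₀.Modules) (hFq : Coh.IsQCoh F₀) (hF₀ : CohB1.IsFP F₀)
    {X Y : Scheme.{u}} {f : X ⟶ Y} {g : Y ⟶ c.pt} {qY : Y ⟶ Y₀} {qX : X ⟶ X₀}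
    (hY : IsPullback qY g g₀ (c.π.app i₀)) (hX : IsPullback qX f f₀ qY) (x : X)
    (h : FlatMod.IsFlatOverAt f ((Scheme.Modules.pullback qX).obj F₀) x) :
    ∃ j : Over i₀, ∀ vX : X ⟶ pullback f₀ (pullback.fst g₀ (D.map j.hom)),
      vX ≫ pullback.fst _ _ = qX →
      vX ≫ pullback.snd _ _ ≫ pullback.snd g₀ (D.map j.hom) = f ≫ g ≫ c.π.app j.left →
      FlatMod.IsFlatOverAt (pullback.snd f₀ (pullback.fst g₀ (D.map j.hom)))
        ((Scheme.Modules.pullback (pullback.fst f₀ (pullback.fst g₀ (D.map j.hom)))).obj F₀) (vX x) := by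
  obtain ⟨i, φ, Xi, Yi, fi, gi, pY, pX, vY, vX, hYi, hXi, e1, e2, e3, e4, hfl⟩ :=
    exists_stage_isFlatOverAt D c hc i₀ f₀ g₀ F₀ hFq hF₀ hY hX x h
  refine ⟨Over.mk φ, fun v hv1 hv2 => ?_⟩
  let t : pullback g₀ (D.map φ) ⟶ Yi := hYi.lift (pullback.fst _ _) (pullback.snd _ _) pullback.condition
  let s : pullback f₀ (pullback.fst g₀ (D.map φ)) ⟶ Xi := hXi.lift (pullback.fst _ _) (pullback.snd _ _ ≫ t)
    (by rw [Category.assoc, hYi.lift_fst, pullback.condition])
  have hst : IsPullback s (pullback.snd f₀ (pullback.fst g₀ (D.map φ))) fi t :=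
    IsPullback.of_right (by rw [hXi.lift_fst, hYi.lift_fst]; exact IsPullback.of_hasPullback _ _)
      (hXi.lift_snd _ _ _) hXi
  have hvs : v ≫ s = vX := by
    refine hXi.hom_ext (by rw [Category.assoc, hXi.lift_fst, e3]; exact hv1) ?_
    rw [Category.assoc, hXi.lift_snd, e4]
    refine hYi.hom_ext ?_ ?_
    · rw [Category.assoc, Category.assoc, hYi.lift_fst, ← pullback.condition, ← Category.assoc,
        Category.assoc f, e1, ← hX.w]
      exact congrArg (· ≫ f₀) hv1
    · rw [Category.assoc, Category.assoc, hYi.lift_snd, Category.assoc f, e2]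
      exact hv2
  exact (H06EGA9.isFlatOverAt_congr_iso _ ((Scheme.Modules.pullbackComp s pX).app F₀ ≪≫
      (Scheme.Modules.pullbackCongr (hXi.lift_fst _ _ _)).app F₀) _).1
    (H06EGA9.isFlatOverAt_of_isPullback hst _ _ ((congrArg (fun p : X ⟶ Xi => p x) hvs).symm ▸ hfl :))

set_option maxHeartbeats 2000000 in
/-- Descent of flatness along a proper morphism over an affine base. -/
theorem isFlatOverAt_of_proper_affine {R : Type u} [CommRing R] {X Y' : Scheme.{u}}
    (u : X ⟶ Spec (CommRingCat.of R)) [LocallyOfFinitePresentation u] [QuasiCompact u] [QuasiSeparated u]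
    (g : Y' ⟶ Spec (CommRingCat.of R)) [IsProper g] [LocallyOfFinitePresentation g]
    (F : X.Modules) (hFq : Coh.IsQCoh F) (hF : CohB1.IsFP F) (z : X) (hinj : Function.Injective g.appTop)
    (hflat : ∀ w : ↥(pullback u g), pullback.fst u g w = z →
      FlatMod.IsFlatOverAt (pullback.snd u g) ((Scheme.Modules.pullback (pullback.fst u g)).obj F) w) :
    FlatMod.IsFlatOverAt u F z := by
  classical
  haveI : Nonempty (Finset R) := ⟨∅⟩
  haveI : Coh.IsQCoh F := hFq
  let D := (subringFunctor R).op ⋙ Scheme.Spec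
  let c := subringCone R
  have hc : IsLimit c := isLimitSubringCone R
  obtain ⟨i₁, X₀, u₀, F₀, q₀, _, _, hq, hF₀, ⟨eF⟩⟩ := exists_mod_model (R := R) (show X ⟶ c.pt from u) F hF
  obtain ⟨i₂, ⟨M⟩⟩ := exists_model hc (show Y' ⟶ c.pt from g)
  haveI : CompactSpace M.P := QuasiCompact.compactSpace_of_compactSpace M.p
  haveI : QuasiSeparatedSpace M.P := quasiSeparatedSpace_of_quasiSeparated M.p
  have hp : IsProper (pullback.snd M.p (c.π.app i₂)) :=
    (H7Lim.prop_iff_of_isPullback (P := @IsProper) M.hpb).mp ‹IsProper g›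
  obtain ⟨i₃, φ₃, hp₃⟩ := H7Lim.descends_isProper (Finset R)ᵒᵖ D c hc i₂ M.p inferInstance hp
  let k := IsCofiltered.min i₁ i₃
  let a : k ⟶ i₁ := IsCofiltered.minToLeft i₁ i₃
  let b : k ⟶ i₂ := IsCofiltered.minToRight i₁ i₃ ≫ φ₃
  let Xk := pullback u₀ (D.map a)
  let uk : Xk ⟶ D.obj k := pullback.snd u₀ (D.map a)
  let Fk : Xk.Modules := (Scheme.Modules.pullback (pullback.fst u₀ (D.map a))).obj F₀
  let Mk := M.shift b
  let gk : Mk.P ⟶ D.obj k := Mk.p
  haveI : LocallyOfFinitePresentation uk := MorphismProperty.pullback_snd _ _ inferInstance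
  haveI : IsProper gk := by
    show IsProper (pullback.snd M.p (D.map b))
    let e : pullback (pullback.snd M.p (D.map φ₃)) (D.map (IsCofiltered.minToRight i₁ i₃)) ≅
        pullback M.p (D.map b) :=
      pullbackLeftPullbackSndIso _ _ _ ≪≫ pullback.congrHom rfl (D.map_comp _ _).symm
    have he : e.hom ≫ pullback.snd M.p (D.map b) = pullback.snd _ _ := by
      simp [e, b, pullback.congrHom, pullback.map]
    haveI : IsProper (pullback.snd (pullback.snd M.p (D.map φ₃)) (D.map (IsCofiltered.minToRight i₁ i₃))) :=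
      MorphismProperty.pullback_snd _ _ hp₃
    exact (MorphismProperty.cancel_left_of_respectsIso @IsProper e.hom _).1 (by rw [he]; infer_instance)
  haveI : IsNoetherian (D.obj k) := inferInstance
  haveI : IsLocallyNoetherian Xk := LocallyOfFiniteType.isLocallyNoetherian uk
  have hFk : Coh.IsCoh Fk := isCoh_pullback _ hF₀
  have hFkP : CohB1.IsFP Fk := H10Coh.isFP_of_isCoh Fk hFk
  let qk : X ⟶ Xk := pullback.lift q₀ (u ≫ c.π.app k) (by rw [hq.w, Category.assoc]; exact congrArg (u ≫ ·) (c.w a).symm)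
  have hqk : IsPullback qk u uk (c.π.app k) := by
    refine IsPullback.of_right ?_ (pullback.lift_snd _ _ _) (IsPullback.of_hasPullback _ _)
    rw [pullback.lift_fst, c.w]
    exact hq
  let eFk : F ≅ (Scheme.Modules.pullback qk).obj Fk :=
    eF ≪≫ (Scheme.Modules.pullbackCongr (pullback.lift_fst _ _ _).symm).app F₀ ≪≫
      ((Scheme.Modules.pullbackComp qk (pullback.fst u₀ (D.map a))).app F₀).symm
  -- the base change to `Y'`
  let qY : Y' ⟶ Mk.P := Mk.g
  have hY : IsPullback qY g gk (c.π.app k) := Mk.hpb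
  let W := pullback u g
  let X₂ := pullback uk gk
  let f₀ : X₂ ⟶ Mk.P := pullback.snd uk gk
  let G₀ : X₂.Modules := (Scheme.Modules.pullback (pullback.fst uk gk)).obj Fk
  let qW : W ⟶ X₂ := pullback.lift (pullback.fst u g ≫ qk) (pullback.snd u g ≫ qY)
    (by rw [Category.assoc, Category.assoc, hqk.w, hY.w, ← Category.assoc, pullback.condition, Category.assoc])
  have hX : IsPullback qW (pullback.snd u g) f₀ qY := by
    refine IsPullback.of_right (h₁₂ := pullback.fst uk gk) (h₂₂ := gk) (v₁₃ := uk) ?_ (pullback.lift_snd _ _ _)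
      (IsPullback.of_hasPullback _ _)
    rw [pullback.lift_fst, hY.w]
    exact (IsPullback.of_hasPullback u g).paste_horiz hqk
  haveI : LocallyOfFinitePresentation f₀ := MorphismProperty.pullback_snd _ _ inferInstance
  have hG₀ : CohB1.IsFP G₀ := H06EGA9.isFP_pullback _ hFkP
  have hG₀q : Coh.IsQCoh G₀ := H29Fitt.isQCoh_of_isFP _ hG₀
  let eW : (Scheme.Modules.pullback (pullback.fst u g)).obj F ≅ (Scheme.Modules.pullback qW).obj G₀ :=
    (Scheme.Modules.pullback (pullback.fst u g)).mapIso eFk ≪≫
      (Scheme.Modules.pullbackComp (pullback.fst u g) qk).app Fk ≪≫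
      (Scheme.Modules.pullbackCongr (pullback.lift_fst _ _ _).symm).app Fk ≪≫
      ((Scheme.Modules.pullbackComp qW (pullback.fst uk gk)).app Fk).symm
  -- the stages
  let pY : ∀ l : Over k, pullback gk (D.map l.hom) ⟶ Mk.P := fun l => pullback.fst gk (D.map l.hom)
  let vY : ∀ l : Over k, Y' ⟶ pullback gk (D.map l.hom) := fun l =>
    pullback.lift qY (g ≫ c.π.app l.left) (by rw [Category.assoc, c.w, hY.w])
  let vW : ∀ l : Over k, W ⟶ pullback f₀ (pY l) := fun l =>
    pullback.lift qW (pullback.snd u g ≫ vY l) (by rw [Category.assoc, pullback.lift_fst]; exact hX.w)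
  let Good : ∀ l : Over k, Set ↥(pullback f₀ (pY l)) := fun l =>
    {w | FlatMod.IsFlatOverAt (pullback.snd f₀ (pY l)) ((Scheme.Modules.pullback (pullback.fst f₀ (pY l))).obj G₀) w}
  have hopen : ∀ l, IsOpen (Good l) := fun l => by
    haveI : LocallyOfFinitePresentation (pullback.snd f₀ (pY l)) := MorphismProperty.pullback_snd _ _ inferInstance
    exact H8Props.FlatLocus.isOpen_setOf_isFlatOverAt _ _ (H06EGA9.isFP_pullback _ hG₀)
  have hmono : ∀ {j l : Over k}, (l ⟶ j) → vW j ⁻¹' Good j ⊆ vW l ⁻¹' Good l := by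
    intro j l ψ w hw
    let t : pullback gk (D.map l.hom) ⟶ pullback gk (D.map j.hom) :=
      pullback.lift (pullback.fst _ _) (pullback.snd _ _ ≫ D.map ψ.left)
        (by rw [Category.assoc, ← D.map_comp, Over.w ψ, pullback.condition])
    let s : pullback f₀ (pY l) ⟶ pullback f₀ (pY j) :=
      pullback.lift (pullback.fst _ _) (pullback.snd _ _ ≫ t)
        (by rw [Category.assoc, pullback.lift_fst, pullback.condition])
    have hst : IsPullback s (pullback.snd f₀ (pY l)) (pullback.snd f₀ (pY j)) t :=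
      IsPullback.of_right (by rw [pullback.lift_fst, pullback.lift_fst]; exact IsPullback.of_hasPullback _ _)
        (pullback.lift_snd _ _ _) (IsPullback.of_hasPullback _ _)
    have hvs : vW l ≫ s = vW j := by
      apply pullback.hom_ext
      · simp [s, vW]
      · simp only [s, vW, Category.assoc, pullback.lift_snd, pullback.lift_snd_assoc]
        congr 1
        apply pullback.hom_ext
        · simp [t, vY]
        · simp only [t, vY, Category.assoc, pullback.lift_snd, pullback.lift_snd_assoc]
          rw [c.w ψ.left]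
    refine (H06EGA9.isFlatOverAt_congr_iso _ ((Scheme.Modules.pullbackComp s _).app G₀ ≪≫
        (Scheme.Modules.pullbackCongr (pullback.lift_fst _ _ _)).app G₀) _).1
      (H06EGA9.isFlatOverAt_of_isPullback hst _ _ ?_)
    rw [← Scheme.Hom.comp_apply, hvs]
    exact hw
  have hpt : ∀ w : W, pullback.fst u g w = z → ∃ l, w ∈ vW l ⁻¹' Good l := fun w hw => by
    obtain ⟨l, hl⟩ := exists_stage_isFlatOverAt' D c hc k f₀ gk G₀ hG₀q hG₀ hY hX w
      ((H06EGA9.isFlatOverAt_congr_iso _ eW w).1 (hflat w hw))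
    exact ⟨l, hl (vW l) (pullback.lift_fst _ _ _) (by simp [vW, vY, pY])⟩
  haveI : QuasiCompact (pullback.fst u g) := MorphismProperty.pullback_fst _ _ inferInstance
  have hK : IsCompact ((pullback.fst u g) ⁻¹' {z}) := (pullback.fst u g).isCompact_preimage_singleton z
  obtain ⟨T, hT⟩ := hK.elim_finite_subcover (fun l => vW l ⁻¹' Good l)
    (fun l => (hopen l).preimage (vW l).continuous) fun w hw => by
      obtain ⟨l, hl⟩ := hpt w hw
      exact Set.mem_iUnion.2 ⟨l, hl⟩
  obtain ⟨l, hl⟩ := IsCofiltered.inf_objs_exists T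
  have hall : ∀ w : W, pullback.fst u g w = z → vW l w ∈ Good l := fun w hw => by
    obtain ⟨j, hj, hwj⟩ := Set.mem_iUnion₂.1 (hT hw)
    exact hmono (hl hj).some hwj
  -- the Noetherian stage
  let Xl := pullback uk (D.map l.hom)
  let ul : Xl ⟶ D.obj l.left := pullback.snd uk (D.map l.hom)
  let gl : pullback gk (D.map l.hom) ⟶ D.obj l.left := pullback.snd gk (D.map l.hom)
  let Fl : Xl.Modules := (Scheme.Modules.pullback (pullback.fst uk (D.map l.hom))).obj Fk
  let ql : X ⟶ Xl := pullback.lift qk (u ≫ c.π.app l.left)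
    (by rw [hqk.w, Category.assoc]; exact congrArg (u ≫ ·) (c.w l.hom).symm)
  have hql : IsPullback ql u ul (c.π.app l.left) := by
    refine IsPullback.of_right ?_ (pullback.lift_snd _ _ _) (IsPullback.of_hasPullback _ _)
    rw [pullback.lift_fst, c.w]
    exact hqk
  have hvY : IsPullback (vY l) g gl (c.π.app l.left) := by
    refine IsPullback.of_right ?_ (pullback.lift_snd _ _ _) (IsPullback.of_hasPullback _ _)
    rw [pullback.lift_fst, c.w]
    exact hY
  haveI : LocallyOfFiniteType ul := MorphismProperty.pullback_snd _ _ inferInstance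
  haveI : IsProper gl := MorphismProperty.pullback_snd _ _ inferInstance
  have hgl : Function.Injective gl.appTop := by
    have h1 : Function.Injective (c.π.app l.left).appTop := by
      intro r r' hrr
      let A₀ := Algebra.adjoin ℤ ((unop l.left : Finset R) : Set R)
      let σ := CommRingCat.ofHom A₀.val.toRingHom
      have hn := Scheme.ΓSpecIso_naturality σ
      have h2 : σ.hom ((Scheme.ΓSpecIso _).hom.hom r) = σ.hom ((Scheme.ΓSpecIso _).hom.hom r') :=
        (congr($(hn).hom r)).symm.trans ((congrArg (Scheme.ΓSpecIso _).hom.hom hrr).trans (congr($(hn).hom r')))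
      exact (Scheme.ΓSpecIso _).commRingCatIsoToRingEquiv.injective (Subtype.val_injective h2)
    have h3 : g.appTop ∘ (c.π.app l.left).appTop = (vY l).appTop ∘ gl.appTop := by
      funext r
      have := congrArg (fun m => Scheme.Hom.appTop m) hvY.w
      simp only [Scheme.Hom.comp_appTop] at this
      exact congr($(this.symm).hom r)
    exact Function.Injective.of_comp (f := (vY l).appTop) (h3 ▸ hinj.comp h1)
  let zl := ql z
  have hstage : FlatMod.IsFlatOverAt ul Fl zl := by
    refine isFlatOverAt_of_proper_noetherian ul gl Fl (isCoh_pullback _ hFk) zl ?_ ?_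
    · haveI : IsAffine (D.obj l.left) := inferInstanceAs (IsAffine (Spec _))
      haveI : Flat ((D.obj l.left).fromSpecStalk (ul zl)) := by
        obtain ⟨V, hV, hyV, -⟩ := exists_isAffineOpen_mem_and_subset (U := (⊤ : (D.obj l.left).Opens)) (x := ul zl) trivial
        infer_instance
      exact injective_appTop_of_flat (IsPullback.of_hasPullback gl _) hgl
    intro w' hw'
    let kk : pullback ul gl ⟶ pullback f₀ (pY l) :=
      pullback.lift (pullback.lift (pullback.fst ul gl ≫ pullback.fst uk (D.map l.hom)) (pullback.snd ul gl ≫ pY l)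
          (by rw [Category.assoc, Category.assoc, pullback.condition, ← Category.assoc, pullback.condition,
            Category.assoc, pullback.condition]))
        (pullback.snd ul gl) (pullback.lift_snd _ _ _)
    have hkk : IsPullback kk (pullback.snd ul gl) (pullback.snd f₀ (pY l)) (𝟙 _) := by
      refine IsPullback.of_right (h₁₂ := pullback.fst f₀ (pY l)) (h₂₂ := pY l) (v₁₃ := f₀) ?_
        (by rw [pullback.lift_snd, Category.comp_id]) (IsPullback.of_hasPullback _ _)
      rw [pullback.lift_fst, Category.id_comp]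
      refine IsPullback.of_right (h₁₂ := pullback.fst uk gk) (h₂₂ := gk) (v₁₃ := uk) ?_ (pullback.lift_snd _ _ _)
        (IsPullback.of_hasPullback _ _)
      rw [pullback.lift_fst, show pY l ≫ gk = gl ≫ D.map l.hom from pullback.condition]
      exact (IsPullback.of_hasPullback ul gl).paste_horiz (IsPullback.of_hasPullback _ _)
    let qWl : W ⟶ pullback ul gl := pullback.lift (pullback.fst u g ≫ ql) (pullback.snd u g ≫ vY l)
      (by rw [Category.assoc, Category.assoc, hql.w, hvY.w, ← Category.assoc, pullback.condition, Category.assoc])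
    have hqWl : IsPullback qWl (pullback.fst u g) (pullback.fst ul gl) ql := by
      refine IsPullback.of_right (h₁₂ := pullback.snd ul gl) (h₂₂ := ul) (v₁₃ := gl) ?_ (pullback.lift_fst _ _ _)
        (IsPullback.of_hasPullback _ _).flip
      rw [pullback.lift_snd, hql.w]
      exact (IsPullback.of_hasPullback u g).flip.paste_horiz hvY
    obtain ⟨w, hw1, hw2⟩ : ∃ w : W, qWl w = w' ∧ pullback.fst u g w = z := by
      obtain ⟨v, hv1, hv2⟩ := Scheme.Pullback.exists_preimage_pullback (f := pullback.fst ul gl) (g := ql) w' z hw'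
      refine ⟨hqWl.isoPullback.inv v, ?_, ?_⟩
      · rw [← Scheme.Hom.comp_apply, hqWl.isoPullback_inv_fst]; exact hv1
      · rw [← Scheme.Hom.comp_apply, hqWl.isoPullback_inv_snd]; exact hv2
    have hkq : qWl ≫ kk = vW l := by
      apply pullback.hom_ext
      · rw [Category.assoc, pullback.lift_fst, pullback.lift_fst]
        apply pullback.hom_ext
        · simp [qWl, qW, ql]
        · simp [qWl, qW, vY, pY]
      · simp [qWl, kk, vW]
    have hfl : kk w' ∈ Good l := by
      rw [← hw1, ← Scheme.Hom.comp_apply, hkq]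
      exact hall w hw2
    exact (H06EGA9.isFlatOverAt_congr_iso _
      ((Scheme.Modules.pullback kk).mapIso ((Scheme.Modules.pullbackComp (pullback.fst f₀ (pY l)) (pullback.fst uk gk)).app Fk) ≪≫
        (Scheme.Modules.pullbackComp kk (pullback.fst f₀ (pY l) ≫ pullback.fst uk gk)).app Fk ≪≫
        (Scheme.Modules.pullbackCongr (show kk ≫ pullback.fst f₀ (pY l) ≫ pullback.fst uk gk =
          pullback.fst ul gl ≫ pullback.fst uk (D.map l.hom) by simp [kk])).app Fk ≪≫
        ((Scheme.Modules.pullbackComp (pullback.fst ul gl) (pullback.fst uk (D.map l.hom))).app Fk).symm) w').1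
      (H06EGA9.isFlatOverAt_of_isPullback hkk _ w' hfl)
  exact (H06EGA9.isFlatOverAt_congr_iso u ((Scheme.Modules.pullbackComp ql (pullback.fst uk (D.map l.hom))).app Fk ≪≫
      (Scheme.Modules.pullbackCongr (pullback.lift_fst _ _ _)).app Fk ≪≫ eFk.symm) z).1
    (H06EGA9.isFlatOverAt_of_isPullback hql Fl z hstage)

end Groth.Agent.H06EGA11c
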