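import Groth.Agent.H06EGA11c.ProperChevalley
import Groth.Agent.S4857
import Groth.Agent.H06EGA9.FlatFibreBC

/-!
Descent of flatness along a proper morphism, Noetherian base (EGA IV 11.5.3).
-/

set_option autoImplicit false
set_option linter.style.haveILetI false
set_option backward.isDefEq.respectTransparency false

universe u

open CategoryTheory Limits AlgebraicGeometry TopologicalSpace Opposite IsLocalRing

namespace Groth.Agent.H06EGA11c

theorem isFlatOverAt_of_proper_noetherian {X Y Y' : Scheme.{u}} [IsLocallyNoetherian Y] (f : X ⟶ Y)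
    [LocallyOfFiniteType f] (g : Y' ⟶ Y) [IsProper g] (F : X.Modules) (hF : Coh.IsCoh F) (x : X)
    (hinj : Function.Injective (pullback.snd g (Y.fromSpecStalk (f x))).appTop)
    (hflat : ∀ x' : ↥(pullback f g), pullback.fst f g x' = x →
      FlatMod.IsFlatOverAt (pullback.snd f g) ((Scheme.Modules.pullback (pullback.fst f g)).obj F) x') :
    FlatMod.IsFlatOverAt f F x := by
  refine S4857.result f F hF x (fun z : {z : Y' // g z = f x} => (Y'.presheaf.stalk z.1 : Type u))
    (fibreStalkMap g (f x)) (fun N => exists_finset_iInf_comap_le g (f x) hinj N) fun z x' hx1 hx2 => ?_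
  let gz : Spec (CommRingCat.of (Y'.presheaf.stalk z.1)) ⟶ Y :=
    Spec.map (CommRingCat.ofHom (fibreStalkMap g (f x) z)) ≫ Y.fromSpecStalk (f x)
  have hg : gz = Y'.fromSpecStalk z.1 ≫ g := SpecMap_fibreStalkMap g (f x) z
  let j : pullback f gz ⟶ pullback f g :=
    pullback.map f gz f g (𝟙 _) (Y'.fromSpecStalk z.1) (𝟙 _) (by simp) (by rw [Category.comp_id]; exact hg)
  have hj1 : j ≫ pullback.fst f g = pullback.fst f gz := by simp [j]
  have hj2 : j ≫ pullback.snd f g = pullback.snd f gz ≫ Y'.fromSpecStalk z.1 := by simp [j]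
  have hsq : IsPullback j (pullback.snd f gz) (pullback.snd f g) (Y'.fromSpecStalk z.1) := by
    refine IsPullback.of_right (h₁₂ := pullback.fst f g) (h₂₂ := g) (v₁₃ := f) ?_ hj2
      (IsPullback.of_hasPullback f g)
    rw [hj1, ← hg]
    exact IsPullback.of_hasPullback f gz
  have h1 : FlatMod.IsFlatOverAt (pullback.snd f g)
      ((Scheme.Modules.pullback (pullback.fst f g)).obj F) (j x') :=
    hflat _ (by rw [← Scheme.Hom.comp_apply, hj1]; exact hx1)
  exact (H06EGA9.isFlatOverAt_congr_iso _ ((Scheme.Modules.pullbackComp j (pullback.fst f g)).app F ≪≫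
      (Scheme.Modules.pullbackCongr hj1).app F) x').1 (H06EGA9.isFlatOverAt_of_isPullback hsq _ x' h1)

end Groth.Agent.H06EGA11c
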